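import Mathlib
import Cfsg.Agent.StdG24.Ord6
import Cfsg.Agent.GTwoFour.RedHyp_mg_m3
import Cfsg.Agent.Intrinsic.TypeGTwo_m3
import Cfsg.Agent.StdG24.Cls6
import Cfsg.Agent.GTwoFour.OuterSyl
import Cfsg.Agent.StdG24.Ax6
import Cfsg.Agent.OddHalf.D9.Cut
import Cfsg.Agent.StdG24.Iso6
import Cfsg.Agent.OddHalf.D9.Amb
import Cfsg.Agent.OddHalf.Front.FE
import Cfsg.Agent.OddHalf.D9.KillAny_m3
import Cfsg.Agent.Schreier.Basic
import Cfsg.Agent.J2Type.SimpleRed
import Cfsg.Agent.Schreier.Chev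
import Cfsg.Agent.GTwoFour.MdlEndB
import Cfsg.Agent.OddHalf.F4.EndOut_m3
import Cfsg.Agent.OddHalf.D3.RigidSyl_m3
import Cfsg.Agent.OddHalf.D3.TwoCfg_m3
import Cfsg.Agent.OddHalf.D3.EvDiag_m3
import Cfsg.Agent.TwoFusion.IndexTwo
import Cfsg.Agent.OddHalf.D9.FFour.Out_m3
import Cfsg.Agent.FastGrp
import Cfsg.Agent.Prune
set_option linter.all false

section
prune_inst 0x7ffcbefbaff8addfffff7e7ffefddfffb9fcffffffdffbfbfffdf1ffafdf6b6ffbe5fbafffec58ff9ef7e2b630f87b13fbffce7fee6bdc7ffffd5ff45ffb7f9fe5ffbfad51d6b83e1ffe6ffffbf37fff7f3fffffffffffffffffffffffffffffffffffffffff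

-- part: OddHalf/D9/G24/KFacts
section
prune_inst 0x41000000122000000000000200004001000000000000000004000000040000000000000200002000000800000040000010800100200000000000000480401a00000020290480000000000008000000000000000000000000000000000000000000000000
set_option linter.all false
open scoped Cfsg.Agent.FastGrp

-- merged: Cfsg.Agent.OddHalf.D9.G24.Collect
section

/-!
# Collection with tails

A verified collector for a group `K` with a central element `z`, `z² = 1`, and elements `k i` such that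
`k i * k i = V (T i i)`, `k l * k i = k i * k l * V (T i l)` for `i < l`, where `V (L, m)` is the product of
the `k j`, `j ∈ L`, times `z^(parity of s over the bits of m)`. The signs `s` may be unknown: comparing two
collections of equal elements gives linear equations for `s`.
-/

set_option autoImplicit false
set_option linter.unusedVariables false

namespace Cfsg.Agent.OddHalf.D9.G24.Collect

/-! ### Parities -/

/-- parity of `s` over the bits below `M` of `m` -/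
def dot (s : ℕ → Bool) : ℕ → ℕ → Bool
  | 0, _ => false
  | M + 1, m => xor (m.testBit M && s M) (dot s M m)

theorem dot_xor (s : ℕ → Bool) (M m m' : ℕ) : dot s M (m ^^^ m') = xor (dot s M m) (dot s M m') := by
  induction M with
  | zero => rfl
  | succ M ih =>
    simp only [dot, ih, Nat.testBit_xor]
    cases m.testBit M <;> cases m'.testBit M <;> cases s M <;> cases dot s M m <;>
      cases dot s M m' <;> rfl

theorem dot_zero (s : ℕ → Bool) (M : ℕ) : dot s M 0 = false := by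
  induction M with
  | zero => rfl
  | succ M ih => simp [dot, ih]

theorem dot_two_pow (s : ℕ → Bool) {M j : ℕ} (h : j < M) : dot s M (2 ^ j) = s j := by
  induction M with
  | zero => exact absurd h (Nat.not_lt_zero j)
  | succ M ih =>
    simp only [dot, Nat.testBit_two_pow]
    by_cases hj : j = M
    · subst hj
      have h0 : ∀ N ≤ j, dot s N (2 ^ j) = false := by
        intro N
        induction N with
        | zero => intro _; rfl
        | succ N ihN =>
          intro hN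
          simp only [dot, Nat.testBit_two_pow, ihN (by omega)]
          have : decide (j = N) = false := decide_eq_false (by omega)
          simp [this]
      simp [h0 j le_rfl]
    · have : decide (j = M) = false := decide_eq_false hj
      rw [this, ih (by omega)]
      simp

/-- xor of the selected members of a list -/
def xorSel : List ℕ → ℕ → ℕ
  | [], _ => 0
  | a :: l, c => cond (c.testBit 0) (a ^^^ xorSel l (c / 2)) (xorSel l (c / 2))

theorem dot_xorSel (s : ℕ → Bool) (M : ℕ) {l : List ℕ} (h : ∀ a ∈ l, dot s M a = false) (c : ℕ) :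
    dot s M (xorSel l c) = false := by
  induction l generalizing c with
  | nil => exact dot_zero s M
  | cons a l ih =>
    have h1 := ih (fun b hb => h b (List.mem_cons_of_mem _ hb)) (c / 2)
    have h2 := h a List.mem_cons_self
    unfold xorSel
    cases c.testBit 0
    · exact h1
    · change dot s M (a ^^^ xorSel l (c / 2)) = false
      rw [dot_xor, h1, h2]; rfl

variable {K : Type*} [Group K]

/-- `z ^ b` -/
def zb (z : K) (b : Bool) : K := cond b z 1

theorem zb_xor {z : K} (hz : z * z = 1) (a b : Bool) : zb z (xor a b) = zb z a * zb z b := by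
  cases a <;> cases b <;> simp [zb, hz]

theorem zb_comm {z : K} (hz : ∀ x, z * x = x * z) (a : Bool) (x : K) : zb z a * x = x * zb z a := by
  cases a
  · simp [zb]
  · exact hz x

theorem zb_inj {z : K} (hz : z ≠ 1) {a b : Bool} (h : zb z a = zb z b) : a = b := by
  cases a <;> cases b
  · rfl
  · exact absurd h.symm hz
  · exact absurd h hz
  · rfl

/-- value of a word -/
def vl (k : ℕ → K) (L : List ℕ) : K := (L.map k).prod

@[simp] theorem vl_nil (k : ℕ → K) : vl k [] = 1 := rfl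

@[simp] theorem vl_cons (k : ℕ → K) (j : ℕ) (L : List ℕ) : vl k (j :: L) = k j * vl k L := by
  simp [vl]

theorem vl_append (k : ℕ → K) (L L' : List ℕ) : vl k (L ++ L') = vl k L * vl k L' := by
  simp [vl]

/-- value of a word with a mask -/
def V (z : K) (k : ℕ → K) (s : ℕ → Bool) (M : ℕ) (p : List ℕ × ℕ) : K := vl k p.1 * zb z (dot s M p.2)

/-- The relations of a collection system. -/
structure Sys (z : K) (k : ℕ → K) (s : ℕ → Bool) (M : ℕ) (T : ℕ → ℕ → List ℕ × ℕ) : Prop where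
  zz : z * z = 1
  zc : ∀ x, z * x = x * z
  sq : ∀ i, k i * k i = V z k s M (T i i)
  cm : ∀ i l, i < l → k l * k i = k i * k l * V z k s M (T i l)

/-! ### The collector -/

section Coll

variable {α : Type}

/-- all members of the list are bigger than `i` -/
def allGt (i : ℕ) (L : List ℕ) : Bool :=
  List.rec (motive := fun _ => Bool) true (fun a _ ih => cond (Nat.blt i a) ih false) L

theorem allGt_spec {i : ℕ} {L : List ℕ} (h : allGt i L = true) : ∀ a ∈ L, i < a := by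
  induction L with
  | nil => intro a ha; exact absurd ha (by simp)
  | cons b L ih =>
    have h1 : allGt i (b :: L) = cond (Nat.blt i b) (allGt i L) false := rfl
    rw [h1] at h
    cases hb : Nat.blt i b with
    | false => rw [hb] at h; exact absurd h Bool.false_ne_true
    | true =>
      rw [hb] at h
      intro a ha
      rcases List.mem_cons.1 ha with rfl | ha
      · rw [Nat.blt_eq] at hb; exact hb
      · exact ih h a ha

/-- insert the letters of a word -/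
def words (g : List ℕ → ℕ → ℕ → (List ℕ → ℕ → α) → α) (ws : List ℕ) :
    List ℕ → ℕ → (List ℕ → ℕ → α) → α :=
  List.rec (motive := fun _ => List ℕ → ℕ → (List ℕ → ℕ → α) → α) (fun L m κ => κ L m)
    (fun w _ ih L m κ => g L w m (fun L' m' => ih L' m' κ)) ws

/-- insert the letters of a word, which passes the letter `i` -/
def pass (g : List ℕ → ℕ → ℕ → (List ℕ → ℕ → α) → α) (T : ℕ → ℕ → List ℕ × ℕ) (i : ℕ)
    (ls : List ℕ) : List ℕ → ℕ → (List ℕ → ℕ → α) → α :=
  List.rec (motive := fun _ => List ℕ → ℕ → (List ℕ → ℕ → α) → α) (fun L m κ => κ L m)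
    (fun l _ ih L m κ => g L l m (fun L1 m1 => words g (T i l).1 L1 (Nat.xor m1 (T i l).2)
      (fun L2 m2 => ih L2 m2 κ))) ls

/-- insert one letter on the right -/
def ins (T : ℕ → ℕ → List ℕ × ℕ) (f : ℕ) : List ℕ → ℕ → ℕ → (List ℕ → ℕ → α) → α :=
  Nat.rec (motive := fun _ => List ℕ → ℕ → ℕ → (List ℕ → ℕ → α) → α)
    (fun L i m κ => κ (L ++ [i]) m)
    (fun _ g L i m => List.rec (motive := fun _ => (List ℕ → ℕ → α) → α)
      (fun κ => κ [i] m)
      (fun j L ih κ =>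
        cond (Nat.blt j i) (ih (fun L' m' => κ (j :: L') m'))
          (cond (Nat.beq j i)
            (cond (allGt i L) (words g (T i i).1 [] (Nat.xor m (T i i).2)
              (fun L0 m0 => pass g T i L L0 m0 κ)) (κ (j :: L ++ [i]) m))
            (cond (allGt i (j :: L)) (pass g T i (j :: L) [i] m κ) (κ (j :: L ++ [i]) m)))) L) f

variable {z : K} {k : ℕ → K} {s : ℕ → Bool} {M : ℕ} {T : ℕ → ℕ → List ℕ × ℕ}

/-- `g` inserts a letter -/
def Good (z : K) (k : ℕ → K) (s : ℕ → Bool) (M : ℕ) (g : List ℕ → ℕ → ℕ → (List ℕ → ℕ → α) → α) : Prop :=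
  ∀ L i m κ, ∃ L' m', g L i m κ = κ L' m' ∧ V z k s M (L', m') = V z k s M (L, m) * k i

theorem V_mul (S : Sys z k s M T) (L : List ℕ) (m : ℕ) (x : K) :
    V z k s M (L, m) * x = vl k L * x * zb z (dot s M m) := by
  rw [V, mul_assoc, zb_comm S.zc, mul_assoc]

theorem V_xor (S : Sys z k s M T) (L : List ℕ) (m m' : ℕ) :
    V z k s M (L, Nat.xor m m') = V z k s M (L, m) * zb z (dot s M m') := by
  have : dot s M (Nat.xor m m') = xor (dot s M m) (dot s M m') := dot_xor s M m m'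
  rw [V, V, this, zb_xor S.zz, mul_assoc]

theorem words_spec {g : List ℕ → ℕ → ℕ → (List ℕ → ℕ → α) → α} (hg : Good z k s M g) (ws : List ℕ)
    (L : List ℕ) (m : ℕ) (κ : List ℕ → ℕ → α) :
    ∃ L' m', words g ws L m κ = κ L' m' ∧ V z k s M (L', m') = V z k s M (L, m) * vl k ws := by
  induction ws generalizing L m with
  | nil => exact ⟨L, m, rfl, by rw [vl_nil, mul_one]⟩
  | cons w ws ih =>
    obtain ⟨L1, m1, h1, h2⟩ := hg L w m (fun L' m' => words g ws L' m' κ)
    obtain ⟨L2, m2, h3, h4⟩ := ih L1 m1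
    refine ⟨L2, m2, h1.trans h3, ?_⟩
    rw [h4, h2, vl_cons, mul_assoc]

theorem pass_spec (S : Sys z k s M T) {g : List ℕ → ℕ → ℕ → (List ℕ → ℕ → α) → α}
    (hg : Good z k s M g) (i : ℕ) (ls : List ℕ) (hls : ∀ a ∈ ls, i < a)
    (L : List ℕ) (m : ℕ) (κ : List ℕ → ℕ → α) (x : K) (hx : V z k s M (L, m) = x * k i) :
    ∃ L' m', pass g T i ls L m κ = κ L' m' ∧ V z k s M (L', m') = x * (vl k ls * k i) := by
  induction ls generalizing L m x with
  | nil => exact ⟨L, m, rfl, by rw [vl_nil, one_mul]; exact hx⟩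
  | cons l ls ih =>
    obtain ⟨L1, m1, h1, h2⟩ := hg L l m (fun L1 m1 => words g (T i l).1 L1 (Nat.xor m1 (T i l).2)
      (fun L2 m2 => pass g T i ls L2 m2 κ))
    obtain ⟨L2, m2, h3, h4⟩ := words_spec hg (T i l).1 L1 (Nat.xor m1 (T i l).2)
      (fun L2 m2 => pass g T i ls L2 m2 κ)
    have h5 : V z k s M (L2, m2) = x * k l * k i := by
      rw [h4, V_xor S, h2, hx, mul_assoc x (k l), S.cm i l (hls l List.mem_cons_self), V]
      simp only [mul_assoc]
      rw [zb_comm S.zc]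
    obtain ⟨L3, m3, h6, h7⟩ := ih (fun a ha => hls a (List.mem_cons_of_mem _ ha)) L2 m2 (x * k l) h5
    refine ⟨L3, m3, h1.trans (h3.trans h6), ?_⟩
    rw [h7, vl_cons]
    simp only [mul_assoc]

theorem ins_good (S : Sys z k s M T) (f : ℕ) : Good z k s M (ins (α := α) T f) := by
  induction f with
  | zero =>
    intro L i m κ
    refine ⟨L ++ [i], m, rfl, ?_⟩
    rw [V_mul S, V, vl_append]
    simp
  | succ f ih =>
    intro L i m κ
    induction L generalizing κ with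
    | nil =>
      refine ⟨[i], m, rfl, ?_⟩
      rw [V_mul S, V]
      simp
    | cons j L ihL =>
      have happ : ∃ L' m', κ (j :: L ++ [i]) m = κ L' m' ∧
          V z k s M (L', m') = V z k s M (j :: L, m) * k i := by
        refine ⟨j :: L ++ [i], m, rfl, ?_⟩
        rw [V_mul S, V, vl_append]
        simp
      have hdef : ins T (f + 1) (j :: L) i m κ = cond (Nat.blt j i)
          (ins T (f + 1) L i m (fun L' m' => κ (j :: L') m'))
          (cond (Nat.beq j i)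
            (cond (allGt i L) (words (ins T f) (T i i).1 [] (Nat.xor m (T i i).2)
              (fun L0 m0 => pass (ins T f) T i L L0 m0 κ)) (κ (j :: L ++ [i]) m))
            (cond (allGt i (j :: L)) (pass (ins T f) T i (j :: L) [i] m κ)
              (κ (j :: L ++ [i]) m))) := rfl
      rw [hdef]
      cases hb : Nat.blt j i with
      | true =>
        rw [cond_true]
        obtain ⟨L', m', h1, h2⟩ := ihL (fun L' m' => κ (j :: L') m')
        refine ⟨j :: L', m', h1, ?_⟩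
        have h3 : V z k s M (j :: L', m') = k j * V z k s M (L', m') := by
          rw [V, V, vl_cons, mul_assoc]
        have h4 : V z k s M (j :: L, m) = k j * V z k s M (L, m) := by
          rw [V, V, vl_cons, mul_assoc]
        rw [h3, h2, h4, mul_assoc]
      | false =>
        rw [cond_false]
        cases he : Nat.beq j i with
        | true =>
          rw [cond_true]
          have hji : j = i := by rwa [Nat.beq_eq] at he
          cases ha : allGt i L with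
          | false => rw [cond_false]; exact happ
          | true =>
            rw [cond_true]
            obtain ⟨L0, m0, h1, h2⟩ := words_spec ih (T i i).1 [] (Nat.xor m (T i i).2)
              (fun L0 m0 => pass (ins T f) T i L L0 m0 κ)
            have h3 : V z k s M (L0, m0) = zb z (dot s M m) * k i * k i := by
              rw [h2, V_xor S, mul_assoc _ (k i), S.sq i, V, V, vl_nil, one_mul]
              simp only [mul_assoc]
              rw [zb_comm S.zc (dot s M (T i i).2)]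
            obtain ⟨L1, m1, h4, h5⟩ := pass_spec S ih i L (allGt_spec ha) L0 m0 κ _ h3
            refine ⟨L1, m1, h1.trans h4, ?_⟩
            rw [h5, V_mul S, vl_cons, hji, mul_assoc (zb z _), zb_comm S.zc]
            simp only [mul_assoc]
        | false =>
          rw [cond_false]
          cases ha : allGt i (j :: L) with
          | false => rw [cond_false]; exact happ
          | true =>
            rw [cond_true]
            obtain ⟨L1, m1, h4, h5⟩ := pass_spec S ih i (j :: L) (allGt_spec ha) [i] m κ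
              (zb z (dot s M m)) (by rw [V, vl_cons, vl_nil, mul_one, zb_comm S.zc])
            refine ⟨L1, m1, h4, ?_⟩
            rw [h5, V_mul S, zb_comm S.zc]

/-! ### Comparing two collections -/

/-- equality of words -/
def eqF (C : List ℕ) : List ℕ → Bool :=
  List.rec (motive := fun _ => List ℕ → Bool) (fun D => List.rec true (fun _ _ _ => false) D)
    (fun c _ ih D => List.rec false (fun d ds _ => cond (Nat.beq c d) (ih ds) false) D) C

theorem eqF_spec {C D : List ℕ} (h : eqF C D = true) : C = D := by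
  induction C generalizing D with
  | nil =>
    cases D with
    | nil => rfl
    | cons d ds => exact absurd (show false = true from h) (by decide)
  | cons c cs ih =>
    cases D with
    | nil => exact absurd (show false = true from h) (by decide)
    | cons d ds =>
      have h1 : cond (Nat.beq c d) (eqF cs ds) false = true := h
      cases hb : Nat.beq c d with
      | false => rw [hb] at h1; exact absurd h1 Bool.false_ne_true
      | true =>
        rw [hb] at h1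
        rw [Nat.beq_eq] at hb
        rw [hb, ih h1]

/-- collect a list of words with masks -/
def coll (T : ℕ → ℕ → List ℕ × ℕ) (f : ℕ) (ps : List (List ℕ × ℕ)) :
    List ℕ → ℕ → (List ℕ → ℕ → α) → α :=
  List.rec (motive := fun _ => List ℕ → ℕ → (List ℕ → ℕ → α) → α) (fun L m κ => κ L m)
    (fun p _ ih L m κ => words (ins T f) p.1 L (Nat.xor m p.2) (fun L' m' => ih L' m' κ)) ps

/-- value of a list of words with masks -/
def VV (z : K) (k : ℕ → K) (s : ℕ → Bool) (M : ℕ) (ps : List (List ℕ × ℕ)) : K :=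
  (ps.map (V z k s M)).prod

@[simp] theorem VV_nil : VV z k s M [] = 1 := rfl

@[simp] theorem VV_cons (p : List ℕ × ℕ) (ps : List (List ℕ × ℕ)) :
    VV z k s M (p :: ps) = V z k s M p * VV z k s M ps := by simp [VV]

theorem VV_append (ps qs : List (List ℕ × ℕ)) :
    VV z k s M (ps ++ qs) = VV z k s M ps * VV z k s M qs := by simp [VV]

theorem coll_spec (S : Sys z k s M T) (f : ℕ) (ps : List (List ℕ × ℕ)) (L : List ℕ) (m : ℕ)
    (κ : List ℕ → ℕ → α) :
    ∃ L' m', coll T f ps L m κ = κ L' m' ∧ V z k s M (L', m') = V z k s M (L, m) * VV z k s M ps := by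
  induction ps generalizing L m with
  | nil => exact ⟨L, m, rfl, by rw [VV_nil, mul_one]⟩
  | cons p ps ih =>
    obtain ⟨L1, m1, h1, h2⟩ := words_spec (ins_good S f) p.1 L (Nat.xor m p.2)
      (fun L' m' => coll T f ps L' m' κ)
    obtain ⟨L2, m2, h3, h4⟩ := ih L1 m1
    refine ⟨L2, m2, h1.trans h3, ?_⟩
    rw [h4, h2, V_xor S, VV_cons, mul_assoc (V z k s M (L, m)), zb_comm S.zc]
    simp only [V, mul_assoc]

/-- the two collections agree, and their masks differ by `e` -/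
def chk (T : ℕ → ℕ → List ℕ × ℕ) (f : ℕ) (ps qs : List (List ℕ × ℕ)) (e : ℕ) : Bool :=
  coll T f ps [] 0 fun L m => coll T f qs [] 0 fun L' m' =>
    cond (eqF L L') (Nat.beq (Nat.xor m m') e) false

theorem chk_spec (S : Sys z k s M T) {f : ℕ} {ps qs : List (List ℕ × ℕ)} {e : ℕ}
    (h : chk T f ps qs e = true) : VV z k s M ps = VV z k s M qs * zb z (dot s M e) := by
  obtain ⟨L, m, h1, h2⟩ := coll_spec S f ps [] 0 (fun L m => coll T f qs [] 0 fun L' m' =>
    cond (eqF L L') (Nat.beq (Nat.xor m m') e) false)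
  obtain ⟨L', m', h3, h4⟩ := coll_spec S f qs [] 0 (fun L' m' =>
    cond (eqF L L') (Nat.beq (Nat.xor m m') e) false)
  unfold chk at h
  rw [h1, h3] at h
  have h0 : V z k s M ([], 0) = 1 := by rw [V, vl_nil, dot_zero]; simp [zb]
  rw [h0, one_mul] at h2 h4
  cases he : eqF L L' with
  | false => rw [he] at h; exact absurd h Bool.false_ne_true
  | true =>
    rw [he, cond_true, Nat.beq_eq] at h
    have hL := eqF_spec he
    have hm : m = Nat.xor m' e := by
      rw [← h]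
      change m = m' ^^^ (m ^^^ m')
      rw [Nat.xor_comm m m', ← Nat.xor_assoc, Nat.xor_self, Nat.zero_xor]
    rw [← h2, ← h4, hL, hm, V_xor S]

theorem dot_of_chk (S : Sys z k s M T) (hz1 : z ≠ 1) {f : ℕ} {ps qs : List (List ℕ × ℕ)} {e : ℕ}
    (h : chk T f ps qs e = true) (heq : VV z k s M ps = VV z k s M qs) : dot s M e = false := by
  have h1 := chk_spec S h
  rw [heq] at h1
  have h2 : zb z (dot s M e) = zb z false := by
    have h3 := mul_eq_left.1 h1.symm
    rw [h3]; rfl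
  exact zb_inj hz1 h2

end Coll

end Cfsg.Agent.OddHalf.D9.G24.Collect

end

-- merged: Cfsg.Agent.OddHalf.D9.G24.Tab
section

/-!
# The Sylow 2-subgroup of a double cover of `G₂(4)`: tables and kernel checks

Generators `0, ..., 11` = `x_a(1), x_a(w), x_b(1), x_b(w), x_{a+b}(1), ..., x_{3a+2b}(w)`
(`a` short, `b` long), in the model of `StdG24.Mod6`.
-/

set_option autoImplicit false
set_option linter.unusedVariables false

namespace Cfsg.Agent.OddHalf.D9.G24.Tab

open Cfsg.Agent.StdG24.Mod6 Cfsg.Agent.OddHalf.D9.G24.Collect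

/-- entry of a list -/
def nth {β : Type} (d : β) (l : List β) : ℕ → β :=
  List.rec (motive := fun _ => ℕ → β) (fun _ => d)
    (fun a _ ih n => Nat.rec (motive := fun _ => β) a (fun n' _ => ih n') n) l

/-- the root of a generator -/
def rt (i : ℕ) : Fin 12 := nth 0 [7, 7, 6, 6, 8, 8, 9, 9, 10, 10, 11, 11] i

/-- the parameter of a generator -/
def tt (i : ℕ) : Fin 3 := nth 0 [0, 1, 0, 1, 0, 1, 0, 1, 0, 1, 0, 1] i

/-- word in the root elements -/
def gw (L : List ℕ) : Wd := L.map fun i => (rt i, tt i)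

/-- the commutator words -/
def WT : List (List (List ℕ)) := [
  [[], [], [4, 6, 8, 10], [5, 7, 9, 10, 11], [8, 10], [9, 10, 11], [8], [9], [], [], [], []],
  [[], [], [5, 6, 7, 8, 10], [4, 5, 6, 9, 10, 11], [8, 9, 11], [8, 10], [9], [8, 9], [], [], [], []],
  [[], [], [], [], [], [], [], [], [10], [11], [], []],
  [[], [], [], [], [], [], [], [], [11], [10, 11], [], []],
  [[], [], [], [], [], [], [10], [11], [], [], [], []],
  [[], [], [], [], [], [], [11], [10, 11], [], [], [], []],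
  [[], [], [], [], [], [], [], [], [], [], [], []],
  [[], [], [], [], [], [], [], [], [], [], [], []],
  [[], [], [], [], [], [], [], [], [], [], [], []],
  [[], [], [], [], [], [], [], [], [], [], [], []],
  [[], [], [], [], [], [], [], [], [], [], [], []],
  [[], [], [], [], [], [], [], [], [], [], [], []]]
/-- the relations with a sign -/
def S0 : List (List ℕ) := [
  [1, 1, 0, 0, 0, 1, 0, 0, 0, 0, 0, 0],
  [0, 1, 0, 0, 1, 0, 0, 0, 0, 0, 0, 0],
  [0, 0, 0, 0, 0, 0, 0, 0, 0, 0, 0, 0],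
  [0, 0, 0, 0, 0, 0, 0, 0, 0, 1, 0, 0],
  [0, 0, 0, 0, 1, 1, 0, 1, 0, 0, 0, 0],
  [0, 0, 0, 0, 0, 1, 1, 1, 0, 0, 0, 0],
  [0, 0, 0, 0, 0, 0, 1, 1, 0, 0, 0, 0],
  [0, 0, 0, 0, 0, 0, 0, 1, 0, 0, 0, 0],
  [0, 0, 0, 0, 0, 0, 0, 0, 0, 0, 0, 0],
  [0, 0, 0, 0, 0, 0, 0, 0, 0, 0, 0, 0],
  [0, 0, 0, 0, 0, 0, 0, 0, 0, 0, 0, 0],
  [0, 0, 0, 0, 0, 0, 0, 0, 0, 0, 0, 0]]
/-- the masks of the change of lifts -/
def AM : List ℕ := [0, 0, 0, 0, 12884918412, 8589967556, 8589951176, 4295000140, 64, 128, 4294967296, 8589934592]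
/-- images under the two reflections -/
def IM : List (List (List ℕ)) := [
  [[], [], [8], [9], [6], [7], [4], [5], [2], [3], [10], [11]],
  [[4], [5], [], [], [0], [1], [6], [7], [10], [11], [8], [9]]]
/-- associativity equations `(i, j, k, mask)` -/
def EQT : List (ℕ × ℕ × ℕ × ℕ) := [
  (0, 6, 6, 20282410812577490038576425992192),
  (0, 7, 7, 166153509376634798396018081728036864),
  (1, 6, 6, 166153499475532335752205140884455424),
  (2, 8, 8, 1361129548813392268460180125516077989888),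
  (2, 9, 9, 11150373263879309463225795588227710893162496),
  (3, 8, 8, 11150372599427570847597072499715758763278336),
  (4, 6, 6, 1361129467683758689556776888243771670528),
  (4, 7, 7, 11150372599265351184849116268492977524965376),
  (5, 6, 6, 11150372599265311580439265693241214150639616),
  (0, 4, 4, 1361129569095801872112210837433518915584),
  (1, 5, 5, 1361129569095801873587590075360093405184),
  (1, 7, 7, 166214361557205910548811023078391808),
  (3, 9, 9, 11154456984589359671016324309468657181786112),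
  (5, 7, 7, 11154455987668422253451305329866557129490432),
  (0, 0, 6, 20282409603651670423947251286272),
  (0, 0, 7, 166153499473114484112975882535043584),
  (1, 1, 6, 166153499473114484112975882537140224),
  (2, 2, 8, 1361129467683753853853498429744252715008),
  (2, 2, 9, 11150372599265311570767859136324215112728576),
  (3, 3, 8, 11150372599265311570767859136464918241345536),
  (4, 4, 6, 1361129467683753853853786660103224557568),
  (4, 4, 7, 11150372599265311570767859712784933056413696),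
  (5, 5, 6, 11150372599265311570770220319565615575597056),
  (0, 6, 9, 40564819207303340847894502572032),
  (0, 6, 10, 81129638414606681695789005144064),
  (0, 6, 11, 162259276829213363391578010288128),
  (0, 7, 10, 332306998946228968225951765070086144),
  (2, 5, 8, 1180591620717411303424),
  (3, 4, 6, 70368744177664),
  (0, 5, 5, 11154457150742859144134940493117050656391168),
  (1, 4, 4, 11150373430255915441980448868500547609559040),
  (0, 6, 7, 40569773385312121598252448481280),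
  (0, 1, 6, 40564819207303340847894503621120),
  (0, 0, 4, 1361129569095801872111850549463329277184),
  (1, 1, 5, 1361129569095801872111850549463334518784),
  (0, 2, 2, 20282415950512317976365410287616),
  (0, 3, 3, 166153571273637537428540208206315520),
  (1, 2, 2, 11153094858221028343793216079248780976717824),
  (0, 2, 7, 11150373596226897990485168168274187373248512),
  (1, 3, 3, 2722425088866998051265783133693448028160),
  (1, 2, 5, 11153094858281853283941914860733572847763456),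
  (0, 0, 2, 81129643552541797863931324138832),
  (0, 0, 3, 996921058735693185484982288201551520),
  (1, 1, 2, 11153095024475944815478370457871562374512640)]
/-- equations from the reflections `(g, i, j, mask)` -/
def EQA : List (ℕ × ℕ × ℕ × ℕ) := [
  (0, 2, 2, 20282409603651670423947318394880),
  (0, 2, 3, 40564819207303340847894636789760),
  (0, 2, 4, 1208925819614629443141632),
  (0, 2, 5, 4951760157141521100133367808),
  (0, 2, 6, 72057595111669760),
  (0, 2, 7, 295147905181500309504),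
  (0, 2, 8, 22835964444424825780686429364690351909196791808),
  (0, 2, 9, 45683076539189981505435918881520186145776861184),
  (0, 3, 3, 166153499473114484112976432290856960),
  (0, 3, 4, 2417851639230357861040128),
  (0, 3, 5, 9903520314283044398216249344),
  (0, 3, 6, 144119586122366976),
  (0, 3, 7, 590295819154798673920),
  (0, 3, 9, 68519043705873742653630055953207379908343365632),
  (0, 4, 4, 302231459407256921047040),
  (0, 4, 5, 604462918814513842094080),
  (0, 4, 7, 45683076539189981505435918955343173636858052608),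
  (0, 5, 5, 2475880115464248697217351680),
  (1, 0, 0, 4503599627370497),
  (1, 0, 1, 9007199254740994),
  (1, 0, 4, 116920130987833362944260950074807810426148927569920),
  (1, 0, 5, 327376377912495019157283675221745656974833931583520),
  (1, 0, 6, 23384026197294446691258957323460546328893430169664),
  (1, 0, 7, 46768052394588893382517914646921092657786860339328),
  (1, 0, 8, 288230376151712000),
  (1, 0, 11, 144115188075857920),
  (1, 1, 1, 36893488147419111424),
  (1, 1, 6, 46768052394588893382517914646994843605284679843840),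
  (1, 1, 7, 70152078591883340073776871970529158896074439000064),
  (1, 1, 11, 590295810358714040320),
  (1, 4, 7, 187072209578355573530071658587684262544756384465024)]
/-- certificates -/
def CERT : List (List ℕ) := [
  [0, 312154483771882633938, 0, 0, 295148259265064616448, 891642784509386203889, 0, 0, 295147905179370651656, 295147905181518186510, 8589950984, 885443715541290207806],
  [0, 1186185866301641069419, 0, 0, 20057521435643429825183, 7157625715116429418200, 2510055356617172455448, 5240462062880006621379, 295147905185821542414, 295147905181518219278, 23630743566, 9739880870921517422638],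
  [0, 0, 295147922771556712456, 35184380477440, 295147975548114845705, 295148045916867414026, 295148186654329553416, 295148468129458308096, 0, 0, 16908296, 33816608],
  [0, 0, 0, 295152408781145524238, 295156912380772894730, 295165919580027635724, 295183933979603520062, 295219962776264923182, 147492887880273944, 301437041806073819353, 268435456, 34078752],
  [0, 0, 0, 0, 4611686018427387904, 302931111735027858130, 295436487433603137608, 7206746079348392012, 295147905179352842760, 295147905182584556094, 17825800, 35651616],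
  [0, 0, 0, 0, 0, 5594245584229765995, 8504908671887609940, 8504907572300613831, 295147905179504886784, 295147905182226995246, 134217728, 37748768],
  [0, 0, 0, 0, 0, 0, 4899916394579099648, 302354650982724434642, 295147905179370668041, 295147905181518153738, 16777288, 33554720],
  [0, 0, 0, 0, 0, 0, 0, 7900088593443459947, 295147905179379058698, 295147905181518153740, 67121296, 33554592],
  [0, 0, 0, 0, 0, 0, 0, 0, 295147905179370668040, 8388608, 16777216, 33554432],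
  [0, 0, 0, 0, 0, 0, 0, 0, 0, 295147905181518153742, 67108864, 33554480],
  [0, 0, 0, 0, 0, 0, 0, 0, 0, 0, 16777224, 83890200],
  [0, 0, 0, 0, 0, 0, 0, 0, 0, 0, 0, 33554464]]

/-- the commutator words -/
def W (i j : ℕ) : List ℕ := nth [] (nth [] WT i) j

/-- table of relations with unknown signs: the sign of the relation `(i, j)`, `i ≤ j`, has the number `12 i + j` -/
def T1 (i j : ℕ) : List ℕ × ℕ := (W i j, cond (Nat.blt j 12) (2 ^ (12 * i + j)) 0)

/-- the sign in the final table (variable `0`) -/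
def s0 (i j : ℕ) : ℕ := nth 0 (nth [] S0 i) j

/-- the final table -/
def T0 (i j : ℕ) : List ℕ × ℕ := (W i j, s0 i j)

/-- image of the generator `i` under the reflection `g` -/
def im (g i : ℕ) : List ℕ × ℕ := (nth [] (nth [] IM g) i, 2 ^ (144 + 12 * g + i))

/-- domains of the reflections -/
def dom (g : ℕ) : List ℕ := nth [] [[2, 3, 4, 5, 6, 7, 8, 9, 10, 11], [0, 1, 4, 5, 6, 7, 8, 9, 10, 11]] g

/-- the words of the reflections -/
def nw (g : ℕ) : Wd := nth [] [[(7, 0), (4, 0), (7, 0)], [(6, 0), (5, 0), (6, 0)]] g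

/-! ### Kernel checks in `G₂(4)` -/

theorem W_cm : ∀ i < 12, ∀ j < 12, i < j → cw (gw [j, i]) = cw (gw ([i, j] ++ W i j)) := by
  decide +kernel

theorem W_diag : ∀ i, W i i = [] := by
  intro i
  by_cases h : i < 12
  · revert i; decide +kernel
  · obtain ⟨n, rfl⟩ := Nat.exists_eq_add_of_le (Nat.not_lt.1 h)
    have h1 : nth [] WT (12 + n) = [] := by
      rw [Nat.add_comm]; rfl
    rw [W, h1]; rfl

theorem W_ge : ∀ i j, 12 ≤ j → W i j = [] := by
  intro i j hj
  obtain ⟨n, rfl⟩ := Nat.exists_eq_add_of_le hj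
  rw [Nat.add_comm]
  by_cases h : i < 12
  · interval_cases i <;> rfl
  · obtain ⟨m, rfl⟩ := Nat.exists_eq_add_of_le (Nat.not_lt.1 h)
    have h1 : nth [] WT (12 + m) = [] := by
      rw [Nat.add_comm]; rfl
    rw [W, h1]; rfl

theorem W_lt : ∀ i < 12, ∀ j < 12, ∀ l ∈ W i j, l < 12 := by decide +kernel

theorem W_dom : ∀ g < 2, ∀ i ∈ dom g, ∀ j ∈ dom g, i < j → ∀ l ∈ W i j, l ∈ dom g := by decide +kernel

theorem dom_lt : ∀ g < 2, ∀ i ∈ dom g, i < 12 := by decide +kernel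

theorem im_check : ∀ g < 2, ∀ i ∈ dom g, cw (nw g ++ gw [i] ++ (nw g).reverse) = cw (gw (im g i).1) := by
  decide +kernel

theorem im_lt : ∀ g < 2, ∀ i ∈ dom g, ∀ l ∈ (im g i).1, l < 12 := by decide +kernel

/-! ### Kernel checks of the equations -/

/-- check of an associativity equation -/
def chkT (e : ℕ × ℕ × ℕ × ℕ) : Bool :=
  cond (Nat.blt e.1 e.2.1)
    (chk T1 12 [([e.2.2.1, e.2.1, e.1], 0)] [([e.2.2.1, e.1, e.2.1], 0), T1 e.1 e.2.1] e.2.2.2)
    (cond (Nat.beq e.1 e.2.1)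
      (chk T1 12 [([e.2.2.1, e.2.1, e.1], 0)] [([e.2.2.1], 0), T1 e.1 e.2.1] e.2.2.2) false)

/-- check of an equation from a reflection -/
def chkA (e : ℕ × ℕ × ℕ × ℕ) : Bool :=
  cond (Nat.blt e.2.1 e.2.2.1)
    (chk T1 12 [im e.1 e.2.2.1, im e.1 e.2.1]
      ([im e.1 e.2.1, im e.1 e.2.2.1] ++ (W e.2.1 e.2.2.1).map (im e.1) ++
        [([], 2 ^ (12 * e.2.1 + e.2.2.1))]) e.2.2.2)
    (cond (Nat.beq e.2.1 e.2.2.1)
      (chk T1 12 [im e.1 e.2.1, im e.1 e.2.1] [([], 2 ^ (13 * e.2.1))] e.2.2.2) false)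

theorem EQT_ok : ∀ e ∈ EQT, chkT e = true := by decide +kernel

theorem EQA_ok : ∀ e ∈ EQA, chkA e = true := by decide +kernel

theorem EQA_dom : ∀ e ∈ EQA, e.1 < 2 ∧ e.2.1 ∈ dom e.1 ∧ e.2.2.1 ∈ dom e.1 := by decide +kernel

/-- all the equations -/
def EQ : List ℕ := EQT.map (fun e => e.2.2.2) ++ EQA.map (fun e => e.2.2.2)

/-- mask of the change of lifts of a word -/
def am (L : List ℕ) : ℕ := L.foldr (fun l m => nth 0 AM l ^^^ m) 0

theorem cert_ok : ∀ i < 12, ∀ j < 12, i ≤ j →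
    xorSel EQ (nth 0 (nth [] CERT i) j) = 2 ^ (12 * i + j) ^^^ am (W i j) ^^^ s0 i j := by decide +kernel

theorem s0_le : ∀ i < 12, ∀ j < 12, s0 i j = 0 ∨ s0 i j = 1 := by decide +kernel

end Cfsg.Agent.OddHalf.D9.G24.Tab

end

-- merged: Cfsg.Agent.OddHalf.D9.G24.Cover
section

/-!
# Double covers of `G₂(4)`: the table of the Sylow 2-subgroup

For every central extension `π : K → L` (`L = G₂(4)`, the model of `StdG24.Mod6`) with kernel `{1, z}` there
are lifts `k i` of the twelve generators of the Sylow 2-subgroup with the multiplication table `T0`,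
with one parameter `ε`.
-/

set_option autoImplicit false
set_option linter.unusedVariables false

namespace Cfsg.Agent.OddHalf.D9.G24.Cover

open Cfsg.Agent.StdG24.Mod6 Cfsg.Agent.OddHalf.D9.G24.Collect Cfsg.Agent.OddHalf.D9.G24.Tab

variable {K : Type*} [Group K] {z : K} {π : K →* L}

/-- a central extension of `G₂(4)` by a group `{1, z}` of order 2 -/
structure Cov (z : K) (π : K →* L) : Prop where
  surj : Function.Surjective π
  pz : π z = 1
  ker : ∀ x, π x = 1 → x = 1 ∨ x = z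
  z1 : z ≠ 1
  zc : ∀ x, z * x = x * z

namespace Cov

variable (C : Cov z π)

include C

theorem zz : z * z = 1 := by
  rcases C.ker (z * z) (by rw [map_mul, C.pz, mul_one]) with h | h
  · exact h
  · exact absurd (mul_eq_left.1 h) C.z1

theorem eq_or {x y : K} (h : π x = π y) : x = y ∨ x = y * z := by
  rcases C.ker (y⁻¹ * x) (by rw [map_mul, map_inv, h, inv_mul_cancel]) with h1 | h1
  · left; exact (inv_mul_eq_one.1 h1).symm
  · right; rw [← h1, mul_inv_cancel_left]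

end Cov

/-- the sign of `x` against `y` -/
noncomputable def sg (x y : K) : Bool := by
  classical
  exact decide (x ≠ y)

theorem eq_sg (C : Cov z π) {x y : K} (h : π x = π y) : x = y * zb z (sg x y) := by
  classical
  by_cases hxy : x = y
  · have : sg x y = false := by rw [sg]; exact decide_eq_false (fun h => h hxy)
    rw [this, hxy]; simp [zb]
  · have : sg x y = true := by rw [sg]; exact decide_eq_true hxy
    rw [this]
    rcases C.eq_or h with h1 | h1
    · exact absurd h1 hxy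
    · exact h1

/-- the root element of a generator -/
def gen (i : ℕ) : L := ⟨gx (rt i) (tt i), gx_mem _ _⟩

/-- lifts of the generators -/
structure Lifts (π : K →* L) (k : ℕ → K) : Prop where
  lift : ∀ i < 12, π (k i) = gen i
  one : ∀ i, 12 ≤ i → k i = 1

theorem Lifts.coe_vl {k : ℕ → K} (h : Lifts π k) {A : List ℕ} (hA : ∀ l ∈ A, l < 12) :
    (π (vl k A) : GL6) = ev (gw A) := by
  induction A with
  | nil => simp only [gw, ev_nil, _root_.Cfsg.Agent.OddHalf.D9.G24.Collect.vl_nil, _root_.map_one, _root_.OneMemClass.coe_one, _root_.List.map_nil]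
  | cons a A ih =>
    rw [vl_cons, map_mul, Subgroup.coe_mul, ih (fun l hl => hA l (List.mem_cons_of_mem _ hl)),
      h.lift a (hA a List.mem_cons_self)]
    rfl

theorem exists_lifts (C : Cov z π) : ∃ k : ℕ → K, Lifts π k := by
  classical
  refine ⟨fun i => if i < 12 then (C.surj (gen i)).choose else 1, ?_, ?_⟩
  · intro i hi
    simp only [if_pos hi]
    exact (C.surj (gen i)).choose_spec
  · intro i hi
    simp only [if_neg (Nat.not_lt.2 hi)]

/-- the reflections in the model -/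
def nL (g : ℕ) : L := ⟨ev (nw g), ev_mem _⟩

/-- the unknown signs -/
noncomputable def sgn (k : ℕ → K) (n : ℕ → K) (v : ℕ) : Bool :=
  if v < 144 then
    if v / 12 = v % 12 then sg (k (v / 12) * k (v / 12)) 1
    else sg (k (v % 12) * k (v / 12)) (k (v / 12) * k (v % 12) * vl k (W (v / 12) (v % 12)))
  else
    sg (n ((v - 144) / 12) * k ((v - 144) % 12) * (n ((v - 144) / 12))⁻¹)
      (vl k (im ((v - 144) / 12) ((v - 144) % 12)).1)

theorem blt_true {a b : ℕ} (h : a < b) : Nat.blt a b = true := by rw [Nat.blt_eq]; exact h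

theorem two_pow_lt {i j : ℕ} (hi : i < 12) (hj : j < 12) : 12 * i + j < 192 := by omega

theorem sys1 (C : Cov z π) {k : ℕ → K} (h : Lifts π k) (n : ℕ → K) :
    Sys z k (sgn k n) 192 T1 where
  zz := C.zz
  zc := C.zc
  sq := by
    intro i
    rw [V]
    by_cases hi : i < 12
    · have h1 : (T1 i i).2 = 2 ^ (12 * i + i) := by
        change cond (Nat.blt i 12) (2 ^ (12 * i + i)) 0 = _
        rw [blt_true hi]; rfl
      have h2 : (T1 i i).1 = [] := W_diag i
      rw [h1, h2, vl_nil, one_mul, dot_two_pow _ (two_pow_lt hi hi)]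
      have h3 : sgn k n (12 * i + i) = sg (k i * k i) 1 := by
        unfold sgn
        rw [if_pos (by omega), if_pos (by omega)]
        have : (12 * i + i) / 12 = i := by omega
        rw [this]
      rw [h3]
      have h4 := eq_sg C (x := k i * k i) (y := 1) (by
        rw [map_mul, map_one, h.lift i hi]
        apply Subtype.ext
        exact gx_sq _ _)
      rwa [one_mul] at h4
    · have h1 : (T1 i i).2 = 0 := by
        change cond (Nat.blt i 12) (2 ^ (12 * i + i)) 0 = _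
        have : Nat.blt i 12 = false := by
          rw [← Bool.not_eq_true, Nat.blt_eq]; exact hi
        rw [this]; rfl
      have h2 : (T1 i i).1 = [] := W_diag i
      rw [h1, h2, h.one i (Nat.not_lt.1 hi), dot_zero]
      simp [zb]
  cm := by
    intro i l hil
    rw [V]
    by_cases hl : l < 12
    · have hi : i < 12 := hil.trans hl
      have h1 : (T1 i l).2 = 2 ^ (12 * i + l) := by
        change cond (Nat.blt l 12) (2 ^ (12 * i + l)) 0 = _
        rw [blt_true hl]; rfl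
      rw [h1, dot_two_pow _ (two_pow_lt hi hl)]
      have h3 : sgn k n (12 * i + l) = sg (k l * k i) (k i * k l * vl k (W i l)) := by
        unfold sgn
        have e1 : (12 * i + l) / 12 = i := by omega
        have e2 : (12 * i + l) % 12 = l := by omega
        rw [e1, e2, if_pos (by omega), if_neg (by omega)]
      rw [h3]
      change k l * k i = k i * k l * (vl k (W i l) * _)
      rw [← mul_assoc]
      apply eq_sg C
      apply Subtype.ext
      have h4 : k l * k i = vl k [l, i] := by simp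
      have h5 : k i * k l * vl k (W i l) = vl k ([i, l] ++ W i l) := by simp [mul_assoc]
      rw [h4, h5, h.coe_vl (by simp; omega), h.coe_vl]
      · exact ev_eq_of (W_cm i hi l hl hil)
      · intro x hx
        rcases List.mem_append.1 hx with hx | hx
        · simp at hx; omega
        · exact W_lt i hi l hl x hx
    · have h1 : (T1 i l).2 = 0 := by
        change cond (Nat.blt l 12) (2 ^ (12 * i + l)) 0 = _
        have : Nat.blt l 12 = false := by
          rw [← Bool.not_eq_true, Nat.blt_eq]; exact hl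
        rw [this]; rfl
      have h2 : (T1 i l).1 = [] := W_ge i l (Nat.not_lt.1 hl)
      rw [h1, h2, h.one l (Nat.not_lt.1 hl), dot_zero]
      simp [zb]

theorem auto_V (C : Cov z π) {k : ℕ → K} (h : Lifts π k) {n : ℕ → K} (hn : ∀ g, π (n g) = nL g)
    {g i : ℕ} (hg : g < 2) (hi : i ∈ dom g) :
    V z k (sgn k n) 192 (im g i) = n g * k i * (n g)⁻¹ := by
  have hi12 := dom_lt g hg i hi
  rw [V]
  have h1 : (im g i).2 = 2 ^ (144 + 12 * g + i) := rfl
  rw [h1, dot_two_pow _ (by omega)]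
  have h3 : sgn k n (144 + 12 * g + i) = sg (n g * k i * (n g)⁻¹) (vl k (im g i).1) := by
    unfold sgn
    have e1 : (144 + 12 * g + i - 144) / 12 = g := by omega
    have e2 : (144 + 12 * g + i - 144) % 12 = i := by omega
    rw [e1, e2, if_neg (by omega)]
  rw [h3]
  refine (eq_sg C ?_).symm
  apply Subtype.ext
  rw [h.coe_vl (im_lt g hg i hi), map_mul, map_mul, map_inv, hn, h.lift i hi12]
  have h4 : (nL g * gen i * (nL g)⁻¹ : L) = (⟨ev (nw g ++ gw [i] ++ (nw g).reverse), ev_mem _⟩ : L) := by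
    apply Subtype.ext
    change ev (nw g) * gx (rt i) (tt i) * (ev (nw g))⁻¹ = ev (nw g ++ gw [i] ++ (nw g).reverse)
    rw [ev_append, ev_append, ev_reverse]
    have : ev (gw [i]) = gx (rt i) (tt i) := ev_singleton _
    rw [this]
  rw [h4]
  exact ev_eq_of (im_check g hg i hi)

theorem VV_map (C : Cov z π) {k : ℕ → K} (h : Lifts π k) {n : ℕ → K} (hn : ∀ g, π (n g) = nL g)
    {g : ℕ} (hg : g < 2) {A : List ℕ} (hA : ∀ l ∈ A, l ∈ dom g) :
    VV z k (sgn k n) 192 (A.map (im g)) = n g * vl k A * (n g)⁻¹ := by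
  induction A with
  | nil => simp
  | cons a A ih =>
    rw [List.map_cons, VV_cons, ih (fun l hl => hA l (List.mem_cons_of_mem _ hl)),
      auto_V C h hn hg (hA a List.mem_cons_self), vl_cons]
    group

theorem dot_EQ (C : Cov z π) {k : ℕ → K} (h : Lifts π k) {n : ℕ → K} (hn : ∀ g, π (n g) = nL g) :
    ∀ e ∈ EQ, dot (sgn k n) 192 e = false := by
  have S := sys1 C h n
  intro e he
  rcases List.mem_append.1 he with he | he
  · obtain ⟨⟨i, j, l, m⟩, hm, rfl⟩ := List.mem_map.1 he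
    have hc := EQT_ok _ hm
    unfold chkT at hc
    simp only at hc
    cases hb : Nat.blt i j with
    | true =>
      rw [hb, cond_true] at hc
      rw [Nat.blt_eq] at hb
      refine dot_of_chk S C.z1 hc ?_
      simp only [VV_cons, VV_nil, mul_one]
      have h1 := S.cm i j hb
      have h0 : ∀ A : List ℕ, V z k (sgn k n) 192 (A, 0) = vl k A := by
        intro A
        rw [V, dot_zero]; simp [zb]
      rw [h0, h0]
      simp only [vl_cons, vl_nil, mul_one, mul_assoc]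
      rw [h1]
      simp only [mul_assoc]
    | false =>
      rw [hb, cond_false] at hc
      cases hb2 : Nat.beq i j with
      | false => rw [hb2] at hc; exact absurd hc Bool.false_ne_true
      | true =>
        rw [hb2, cond_true] at hc
        rw [Nat.beq_eq] at hb2
        subst hb2
        refine dot_of_chk S C.z1 hc ?_
        simp only [VV_cons, VV_nil, mul_one]
        have h1 := S.sq i
        have h0 : ∀ A : List ℕ, V z k (sgn k n) 192 (A, 0) = vl k A := by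
          intro A
          rw [V, dot_zero]; simp [zb]
        rw [h0, h0]
        simp only [vl_cons, vl_nil, mul_one]
        rw [h1]
  · obtain ⟨⟨g, i, j, m⟩, hm, rfl⟩ := List.mem_map.1 he
    have hc := EQA_ok _ hm
    obtain ⟨hg, hi, hj⟩ := EQA_dom _ hm
    simp only at hg hi hj
    unfold chkA at hc
    simp only at hc
    have hi12 := dom_lt g hg i hi
    have hj12 := dom_lt g hg j hj
    cases hb : Nat.blt i j with
    | true =>
      rw [hb, cond_true] at hc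
      rw [Nat.blt_eq] at hb
      refine dot_of_chk S C.z1 hc ?_
      rw [VV_append, VV_append, VV_map C h hn hg (W_dom g hg i hi j hj hb)]
      simp only [VV_cons, VV_nil, mul_one]
      rw [auto_V C h hn hg hi, auto_V C h hn hg hj]
      have h1 := S.cm i j hb
      have h2 : V z k (sgn k n) 192 ([], 2 ^ (12 * i + j)) =
          zb z (dot (sgn k n) 192 (2 ^ (12 * i + j))) := by rw [V, vl_nil, one_mul]
      have h3 : (T1 i j).2 = 2 ^ (12 * i + j) := by
        change cond (Nat.blt j 12) (2 ^ (12 * i + j)) 0 = _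
        rw [blt_true hj12]; rfl
      have h4 : V z k (sgn k n) 192 (T1 i j) =
          vl k (W i j) * zb z (dot (sgn k n) 192 (2 ^ (12 * i + j))) := by
        rw [V, h3]; rfl
      rw [h4] at h1
      rw [h2]
      calc n g * k j * (n g)⁻¹ * (n g * k i * (n g)⁻¹) = n g * (k j * k i) * (n g)⁻¹ := by group
        _ = n g * (k i * k j * vl k (W i j)) *
            (zb z (dot (sgn k n) 192 (2 ^ (12 * i + j))) * (n g)⁻¹) := by rw [h1]; group
        _ = _ := by rw [zb_comm C.zc]; group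
    | false =>
      rw [hb, cond_false] at hc
      cases hb2 : Nat.beq i j with
      | false => rw [hb2] at hc; exact absurd hc Bool.false_ne_true
      | true =>
        rw [hb2, cond_true] at hc
        rw [Nat.beq_eq] at hb2
        subst hb2
        refine dot_of_chk S C.z1 hc ?_
        simp only [VV_cons, VV_nil, mul_one]
        rw [auto_V C h hn hg hi]
        have h1 := S.sq i
        have h3 : (T1 i i).2 = 2 ^ (13 * i) := by
          change cond (Nat.blt i 12) (2 ^ (12 * i + i)) 0 = _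
          rw [blt_true hi12, cond_true]
          congr 1; ring
        have h5 : (T1 i i).1 = [] := W_diag i
        have h4 : V z k (sgn k n) 192 (T1 i i) = V z k (sgn k n) 192 ([], 2 ^ (13 * i)) := by
          rw [V, V, h3, h5]
        rw [h4] at h1
        have h6 : V z k (sgn k n) 192 ([], 2 ^ (13 * i)) =
          zb z (dot (sgn k n) 192 (2 ^ (13 * i))) := by rw [V, vl_nil, one_mul]
        rw [h6] at h1 ⊢
        calc n g * k i * (n g)⁻¹ * (n g * k i * (n g)⁻¹) = n g * (k i * k i) * (n g)⁻¹ := by group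
          _ = n g * (zb z (dot (sgn k n) 192 (2 ^ (13 * i))) * (n g)⁻¹) := by rw [h1]; group
          _ = _ := by rw [zb_comm C.zc]; group

/-- **The table of the Sylow 2-subgroup of a double cover of `G₂(4)`.** -/
theorem exists_table (C : Cov z π) : ∃ (k : ℕ → K) (ε : Bool), Lifts π k ∧
    Sys z k (fun _ => ε) 1 T0 := by
  obtain ⟨k, h⟩ := exists_lifts C
  have hN : ∀ g, ∃ x, π x = nL g := fun g => C.surj _
  choose n hn using hN
  have S := sys1 C h n
  have hEQ := dot_EQ C h hn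
  set s := sgn k n with hs
  -- the new lifts
  let k' : ℕ → K := fun l => k l * zb z (dot s 192 (nth 0 AM l))
  have hk' : ∀ l, k' l = k l * zb z (dot s 192 (nth 0 AM l)) := fun l => rfl
  have hA : ∀ i, 12 ≤ i → nth 0 AM i = 0 := by
    intro i hi
    obtain ⟨m, rfl⟩ := Nat.exists_eq_add_of_le hi
    rw [Nat.add_comm]; rfl
  have hvl : ∀ A : List ℕ, vl k' A = vl k A * zb z (dot s 192 (am A)) := by
    intro A
    induction A with
    | nil => simp [am, dot_zero, zb]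
    | cons a A ih =>
      have h1 : am (a :: A) = nth 0 AM a ^^^ am A := rfl
      rw [vl_cons, vl_cons, ih, h1, dot_xor, zb_xor C.zz, hk']
      calc k a * zb z (dot s 192 (nth 0 AM a)) * (vl k A * zb z (dot s 192 (am A)))
          = k a * (zb z (dot s 192 (nth 0 AM a)) * vl k A) * zb z (dot s 192 (am A)) := by group
        _ = _ := by rw [zb_comm C.zc]; group
  have hL' : Lifts π k' := by
    refine ⟨fun i hi => ?_, fun i hi => ?_⟩
    · rw [hk', map_mul, h.lift i hi]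
      have : π (zb z (dot s 192 (nth 0 AM i))) = 1 := by
        cases dot s 192 (nth 0 AM i)
        · exact map_one π
        · exact C.pz
      rw [this, mul_one]
    · rw [hk', h.one i hi, hA i hi, dot_zero]
      simp [zb]
  -- the signs
  set ε := s 0 with hε
  have hs0 : ∀ i < 12, ∀ j < 12, i ≤ j →
      dot s 192 (2 ^ (12 * i + j)) = xor (dot s 192 (am (W i j))) (dot (fun _ => ε) 1 (s0 i j)) := by
    intro i hi j hj hij
    have h1 := dot_xorSel s 192 hEQ (nth 0 (nth [] CERT i) j)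
    rw [cert_ok i hi j hj hij, dot_xor, dot_xor] at h1
    have hx : ∀ a b c : Bool, xor (xor a b) c = false → a = xor b c := by decide
    have h2 : dot s 192 (s0 i j) = dot (fun _ => ε) 1 (s0 i j) := by
      rcases s0_le i hi j hj with h3 | h3
      · rw [h3, dot_zero, dot_zero]
      · rw [h3]
        have h4 : dot s 192 1 = s 0 := dot_two_pow s (M := 192) (j := 0) (by norm_num)
        have h5 : dot (fun _ => ε) 1 1 = ε := dot_two_pow (fun _ => ε) (M := 1) (j := 0) (by norm_num)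
        rw [h4, h5]
    rw [← h2]
    exact hx _ _ _ h1
  refine ⟨k', ε, hL', C.zz, C.zc, ?_, ?_⟩
  · intro i
    by_cases hi : i < 12
    · have h1 := S.sq i
      have h3 : (T1 i i).2 = 2 ^ (12 * i + i) := by
        change cond (Nat.blt i 12) (2 ^ (12 * i + i)) 0 = _
        rw [blt_true hi]; rfl
      rw [V, h3, hs0 i hi i hi le_rfl] at h1
      have h5 : (T1 i i).1 = [] := W_diag i
      have h6 : (T0 i i).1 = [] := W_diag i
      have h7 : am (W i i) = 0 := by rw [W_diag]; rfl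
      rw [h5, h7, dot_zero, Bool.false_xor, vl_nil, one_mul] at h1
      rw [V, h6, vl_nil, one_mul, hk']
      calc k i * zb z (dot s 192 (nth 0 AM i)) * (k i * zb z (dot s 192 (nth 0 AM i)))
          = k i * (zb z (dot s 192 (nth 0 AM i)) * k i) * zb z (dot s 192 (nth 0 AM i)) := by group
        _ = (k i * k i) * (zb z (dot s 192 (nth 0 AM i)) * zb z (dot s 192 (nth 0 AM i))) := by
            rw [zb_comm C.zc]; group
        _ = k i * k i := by
            rw [← zb_xor C.zz, Bool.xor_self]; simp [zb]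
        _ = _ := h1
    · have h6 : (T0 i i).1 = [] := W_diag i
      have h7 : (T0 i i).2 = 0 := by
        obtain ⟨m, rfl⟩ := Nat.exists_eq_add_of_le (Nat.not_lt.1 hi)
        have h1 : nth [] S0 (12 + m) = [] := by
          rw [Nat.add_comm]; rfl
        change nth 0 (nth [] S0 (12 + m)) (12 + m) = 0
        rw [h1]; rfl
      rw [V, h6, h7, hL'.one i (Nat.not_lt.1 hi), dot_zero]
      simp [zb]
  · intro i l hil
    by_cases hl : l < 12
    · have hi : i < 12 := hil.trans hl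
      have h1 := S.cm i l hil
      have h3 : (T1 i l).2 = 2 ^ (12 * i + l) := by
        change cond (Nat.blt l 12) (2 ^ (12 * i + l)) 0 = _
        rw [blt_true hl]; rfl
      have h5 : (T1 i l).1 = W i l := rfl
      rw [V, h3, h5, hs0 i hi l hl hil.le, zb_xor C.zz] at h1
      have h6 : (T0 i l).1 = W i l := rfl
      have h7 : (T0 i l).2 = s0 i l := rfl
      rw [V, h6, h7, hvl, hk', hk']
      set a := zb z (dot s 192 (nth 0 AM i)) with ha
      set b := zb z (dot s 192 (nth 0 AM l)) with hb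
      have hac : ∀ x, a * x = x * a := fun x => zb_comm C.zc _ x
      have hbc : ∀ x, b * x = x * b := fun x => zb_comm C.zc _ x
      have e1 : k l * b * (k i * a) = k l * k i * (a * b) := by
        calc k l * b * (k i * a) = k l * (b * k i) * a := by group
          _ = k l * k i * (b * a) := by rw [hbc]; group
          _ = _ := by rw [hbc a]
      have e2 : ∀ X : K, k i * a * (k l * b) * X = k i * k l * X * (a * b) := by
        intro X
        calc k i * a * (k l * b) * X = k i * (a * k l) * (b * X) := by group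
          _ = k i * k l * (a * X) * b := by rw [hac, hbc]; group
          _ = _ := by rw [hac]; group
      rw [e1, e2, h1]
      simp only [mul_assoc]
    · have h6 : (T0 i l).1 = [] := W_ge i l (Nat.not_lt.1 hl)
      have h7 : (T0 i l).2 = 0 := by
        obtain ⟨m, rfl⟩ := Nat.exists_eq_add_of_le (Nat.not_lt.1 hl)
        change nth 0 (nth [] S0 i) (12 + m) = 0
        rw [Nat.add_comm]
        by_cases hi : i < 12
        · interval_cases i <;> rfl
        · obtain ⟨q, rfl⟩ := Nat.exists_eq_add_of_le (Nat.not_lt.1 hi)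
          have h1 : nth [] S0 (12 + q) = [] := by
            rw [Nat.add_comm]; rfl
          rw [h1]; rfl
      rw [V, h6, h7, hL'.one l (Nat.not_lt.1 hl), dot_zero]
      simp [zb]

end Cfsg.Agent.OddHalf.D9.G24.Cover

end

-- merged: Cfsg.Agent.OddHalf.D9.G24.Split
section

/-!
# Double covers of `G₂(4)`: the parameter of a perfect cover is not zero
-/

set_option autoImplicit false
set_option linter.unusedVariables false

namespace Cfsg.Agent.OddHalf.D9.G24.Split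

open Subgroup
open Cfsg.Agent.StdG24.Mod6 Cfsg.Agent.OddHalf.D9.G24.Collect Cfsg.Agent.OddHalf.D9.G24.Tab
  Cfsg.Agent.OddHalf.D9.G24.Cover

/-! ### Cardinality of a product -/

section Card

variable {K : Type*} [Group K] [Finite K]

/-- `A = N ∪ c N` -/
theorem card_le_two_mul {N A : Subgroup K} {c : K} (hn : ∀ x ∈ N, c * x * c⁻¹ ∈ N)
    (hn' : ∀ x ∈ N, c⁻¹ * x * c ∈ N) (hc : c * c ∈ N) {S : Set K} (hS : ∀ x ∈ S, x ∈ N ∨ c⁻¹ * x ∈ N)
    (hA : A ≤ closure S) : Nat.card A ≤ 2 * Nat.card N := by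
  have key : ∀ x ∈ _root_.Subgroup.closure S, x ∈ N ∨ c⁻¹ * x ∈ N := by
    intro x hx
    induction hx using closure_induction with
    | mem x hx => exact hS x hx
    | one => exact Or.inl (one_mem _)
    | mul x y _ _ hx hy =>
      rcases hx with hx | hx <;> rcases hy with hy | hy
      · exact Or.inl (mul_mem hx hy)
      · right
        have : c⁻¹ * (x * y) = c⁻¹ * x * c * (c⁻¹ * y) := by group
        rw [this]; exact mul_mem (hn' x hx) hy
      · right
        rw [← mul_assoc]; exact mul_mem hx hy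
      · left
        have : x * y = c * (c⁻¹ * x) * c⁻¹ * (c * c) * (c⁻¹ * y) := by group
        rw [this]; exact mul_mem (mul_mem (hn _ hx) hc) hy
    | inv x _ hx =>
      rcases hx with hx | hx
      · exact Or.inl (inv_mem hx)
      · right
        have : c⁻¹ * x⁻¹ = c⁻¹ * (c⁻¹ * x)⁻¹ * c * (c * c)⁻¹ := by group
        rw [this]; exact mul_mem (hn' _ (inv_mem hx)) (inv_mem hc)
  have hsub : (A : Set K) ⊆ (N : Set K) ∪ (fun x => c * x) '' (N : Set K) := by
    intro x hx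
    rcases key x (hA hx) with h | h
    · exact Or.inl h
    · exact Or.inr ⟨c⁻¹ * x, h, by simp⟩
  have h1 : Nat.card A = (A : Set K).ncard := rfl
  have h2 : Nat.card N = (N : Set K).ncard := rfl
  rw [h1, h2]
  calc (A : Set K).ncard ≤ ((N : Set K) ∪ (fun x => c * x) '' (N : Set K)).ncard :=
        Set.ncard_le_ncard hsub (Set.toFinite _)
    _ ≤ (N : Set K).ncard + ((fun x => c * x) '' (N : Set K)).ncard := Set.ncard_union_le _ _
    _ ≤ (N : Set K).ncard + (N : Set K).ncard := by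
        have := Set.ncard_image_le (Set.toFinite (N : Set K)) (f := fun x => c * x)
        omega
    _ = 2 * (N : Set K).ncard := by ring

end Card

variable {K : Type*} [Group K] {z : K} {π : K →* L}

/-- the group generated by the lifts `k j`, `i ≤ j` -/
def A (k : ℕ → K) (i : ℕ) : Subgroup K := _root_.Subgroup.closure {x | ∃ j, i ≤ j ∧ x = k j}

theorem mem_A (k : ℕ → K) {i j : ℕ} (h : i ≤ j) : k j ∈ A k i := subset_closure ⟨j, h, rfl⟩

theorem W_gt : ∀ i < 12, ∀ j < 12, ∀ l ∈ W i j, i < l := by decide +kernel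

theorem vl_mem {k : ℕ → K} {i : ℕ} {B : List ℕ} (h : ∀ l ∈ B, i ≤ l) : vl k B ∈ A k i := by
  induction B with
  | nil => exact one_mem _
  | cons b B ih =>
    rw [vl_cons]
    exact mul_mem (mem_A k (h b List.mem_cons_self)) (ih fun l hl => h l (List.mem_cons_of_mem _ hl))

/-- the value of a table entry if the parameter is `0` -/
theorem V_false (k : ℕ → K) (i j : ℕ) : V z k (fun _ => false) 1 (T0 i j) = vl k (W i j) := by
  have : dot (fun _ => false) 1 (T0 i j).2 = false := by simp [dot]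
  rw [V, this]
  simp [zb, T0]

theorem card_A [Finite K] {k : ℕ → K} (hk : Lifts π k) (S : Sys z k (fun _ => false) 1 T0) (m : ℕ)
    (hm : m ≤ 12) : Nat.card (A k (12 - m)) ≤ 2 ^ m := by
  induction m with
  | zero =>
    have h1 : A k (12 - 0) = ⊥ := by
      rw [A, closure_eq_bot_iff]
      rintro x ⟨j, hj, rfl⟩
      exact hk.one j hj
    rw [h1, card_bot]; norm_num
  | succ m ih =>
    have ih' := ih (by omega)
    set i := 12 - (m + 1) with hi
    have hi1 : 12 - m = i + 1 := by omega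
    have hi12 : i < 12 := by omega
    rw [hi1] at ih'
    have hsq : k i * k i = 1 := by
      have := S.sq i
      rw [V_false, W_diag] at this
      exact this
    have hinv : (k i)⁻¹ = k i := inv_eq_of_mul_eq_one_left hsq
    have hcj : ∀ x ∈ A k (i + 1), k i * x * (k i)⁻¹ ∈ A k (i + 1) := by
      intro x hx
      induction hx using closure_induction with
      | mem x hx =>
        obtain ⟨j, hj, rfl⟩ := hx
        by_cases hj12 : j < 12
        · have h1 := S.cm i j hj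
          rw [V_false] at h1
          have h2 : k i * k j * (k i)⁻¹ = k j * vl k (W i j) := by
            have h3 : k i * k j * vl k (W i j) * (k i)⁻¹ = k j := by rw [← h1]; group
            have h4 : k i * (k j * vl k (W i j)) * (k i)⁻¹ = k j := by rw [← mul_assoc]; exact h3
            rw [hinv] at h4 ⊢
            calc k i * k j * k i = k i * (k i * (k j * vl k (W i j)) * k i) * k i := by rw [h4]
              _ = (k i * k i) * (k j * vl k (W i j)) * (k i * k i) := by group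
              _ = _ := by rw [hsq, one_mul, mul_one]
          rw [h2]
          refine mul_mem (mem_A k hj) (vl_mem fun l hl => ?_)
          exact W_gt i hi12 j hj12 l hl
        · rw [hk.one j (Nat.not_lt.1 hj12)]
          simp [one_mem]
      | one => simp [one_mem]
      | mul x y _ _ hx hy =>
        have : k i * (x * y) * (k i)⁻¹ = (k i * x * (k i)⁻¹) * (k i * y * (k i)⁻¹) := by group
        rw [this]; exact mul_mem hx hy
      | inv x _ hx =>
        have : k i * x⁻¹ * (k i)⁻¹ = (k i * x * (k i)⁻¹)⁻¹ := by group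
        rw [this]; exact inv_mem hx
    have hcj' : ∀ x ∈ A k (i + 1), (k i)⁻¹ * x * k i ∈ A k (i + 1) := by
      intro x hx
      have := hcj x hx
      rw [hinv] at this ⊢
      exact this
    have h2 := card_le_two_mul (A := A k i) hcj hcj' (by rw [hsq]; exact one_mem _)
      (S := {x | ∃ j, i ≤ j ∧ x = k j}) (by
        rintro x ⟨j, hj, rfl⟩
        rcases eq_or_lt_of_le hj with h | h
        · right; rw [← h]; simp [one_mem]
        · left; exact mem_A k h) le_rfl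
    calc Nat.card (A k i) ≤ 2 * Nat.card (A k (i + 1)) := h2
      _ ≤ 2 * 2 ^ m := by omega
      _ = 2 ^ (m + 1) := by ring

/-! ### The Sylow 2-subgroup `U` of `G₂(4)` -/

open Cfsg.Agent.GTwoFour.Mdl (X X_cases gx_mem_X X_le_L Q1 Q1_rs X7_Q1 mulSub card_mulSub mem_mulSub
  card_Q1 X_nat_card conj_Q1 Q1_PS)

/-- the Sylow 2-subgroup -/
def U : Subgroup GL6 := mulSub (X 7) Q1 X7_Q1

theorem X7_Q1_disj : ∀ g ∈ X 7, g ∈ Q1 → g = 1 := fun g hg hq =>
  Cfsg.Agent.GTwoFour.Mdl.S_Q1_disj g (Cfsg.Agent.GTwoFour.Mdl.X7_le_S hg) hq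

theorem card_U : Nat.card U = 4096 := by
  rw [U, card_mulSub X7_Q1_disj, X_nat_card, card_Q1]

/-- generation of `U` -/
theorem U_le {B : Subgroup GL6} (h : ∀ i < 12, gx (rt i) (tt i) ∈ B) : U ≤ B := by
  have hX : ∀ r ∈ ([7, 6, 8, 9, 10, 11] : List (Fin 12)), X r ≤ B := by
    have hc : ∀ r ∈ ([7, 6, 8, 9, 10, 11] : List (Fin 12)), ∃ i < 12, rt i = r ∧ tt i = 0 ∧
        rt (i + 1) = r ∧ tt (i + 1) = 1 ∧ i + 1 < 12 ∧ cw [(r, 2)] = cw [(r, 0), (r, 1)] := by
      decide +kernel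
    intro r hr x hx
    obtain ⟨i, hi, h1, h2, h3, h4, h5, h6⟩ := hc r hr
    have g0 := h i hi
    have g1 := h (i + 1) h5
    rw [h1, h2] at g0
    rw [h3, h4] at g1
    rcases X_cases hx with rfl | ⟨t, rfl⟩
    · exact one_mem _
    · match t with
      | 0 => exact g0
      | 1 => exact g1
      | 2 =>
        have h7 : gx r 2 = gx r 0 * gx r 1 := by
          have := ev_eq_of h6
          rw [ev_singleton] at this
          rw [this, show [(r, (0 : Fin 3)), (r, 1)] = [(r, 0)] ++ [(r, 1)] from rfl, ev_append,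
            ev_singleton, ev_singleton]
        rw [h7]; exact mul_mem g0 g1
  intro x hx
  obtain ⟨a, ha, q, hq, rfl⟩ := mem_mulSub.1 hx
  refine mul_mem (hX 7 (by simp) ha) ?_
  have hPS : ∀ rs : List (Fin 12), (∀ r ∈ rs, X r ≤ B) → ∀ n ∈ Cfsg.Agent.GTwoFour.Mdl.PS rs, n ∈ B := by
    intro rs
    induction rs with
    | nil => rintro _ n hn; rw [show n = 1 from hn]; exact one_mem _
    | cons r rs ih =>
      rintro h n ⟨x, hx, n', hn', rfl⟩
      exact mul_mem (h r List.mem_cons_self hx) (ih (fun s hs => h s (List.mem_cons_of_mem _ hs)) n' hn')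
  exact hPS [6, 8, 9, 10, 11] (fun r hr => hX r (by simp at hr ⊢; (clear * - hr; tauto))) q (Q1_PS hq)

theorem U_le_L : U ≤ L := U_le fun i _ => gx_mem _ _

/-- the Sylow 2-subgroup of the cover -/
def UK (π : K →* L) : Subgroup K := (U.subgroupOf L).comap π

theorem mem_UK {x : K} : x ∈ UK π ↔ (π x : GL6) ∈ U := Iff.rfl

theorem z_mem_UK (C : Cov z π) : z ∈ UK π := by
  rw [mem_UK, C.pz]
  exact one_mem _

/-- every element of `UK` is a product of lifts, up to `z` -/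
theorem UK_le (C : Cov z π) {k : ℕ → K} (hk : Lifts π k) : UK π ≤ A k 0 ⊔ zpowers z := by
  intro x hx
  rw [mem_UK] at hx
  have h1 : U ≤ ((A k 0).map π).map L.subtype := by
    refine U_le fun i hi => ?_
    exact ⟨π (k i), ⟨k i, mem_A k (Nat.zero_le i), rfl⟩, by rw [hk.lift i hi]; rfl⟩
  obtain ⟨_, ⟨a, ha, rfl⟩, h2⟩ := h1 hx
  have h3 : π x = π a := Subtype.ext h2.symm
  rcases C.eq_or h3 with h | h
  · rw [h]; exact mem_sup_left ha
  · rw [h]; exact mul_mem (mem_sup_left ha) (mem_sup_right (mem_zpowers z))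

theorem index_U : (U.subgroupOf L).index = 61425 := by
  have h1 := (U.subgroupOf L).card_mul_index
  have h2 : Nat.card (U.subgroupOf L) = 4096 := by
    rw [Nat.card_congr (subgroupOfEquivOfLe U_le_L).toEquiv, card_U]
  rw [h2, Cfsg.Agent.StdG24.Ord6.card_L] at h1
  omega

theorem index_UK (C : Cov z π) : (UK π).index = 61425 := by
  rw [UK, index_comap_of_surjective _ C.surj, index_U]

theorem card_K [Finite K] (C : Cov z π) : Nat.card K = 2 * 251596800 := by
  have h1 := π.ker.card_eq_card_quotient_mul_card_subgroup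
  have h2 : Nat.card (K ⧸ π.ker) = 251596800 := by
    rw [Nat.card_congr (QuotientGroup.quotientKerEquivOfSurjective π C.surj).toEquiv,
      Cfsg.Agent.StdG24.Ord6.card_L]
  have h3 : Nat.card π.ker = 2 := by
    have h4 : (π.ker : Set K) = {1, z} := by
      ext x
      constructor
      · intro hx; exact C.ker x hx
      · rintro (rfl | rfl)
        · exact one_mem _
        · exact C.pz
    have h5 : Nat.card π.ker = (π.ker : Set K).ncard := rfl
    rw [h5, h4, Set.ncard_pair C.z1.symm]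
  rw [h1, h2, h3]

theorem card_UK [Finite K] (C : Cov z π) : Nat.card (UK π) = 8192 := by
  have h1 := (UK π).card_mul_index
  rw [index_UK C, card_K C] at h1
  omega

theorem finite_of_cov (C : Cov z π) : Finite K := by
  have h2 : Finite L := Nat.finite_of_card_ne_zero (by rw [Cfsg.Agent.StdG24.Ord6.card_L]; norm_num)
  have h3 : Finite π.ker := by
    refine Set.Finite.subset (Set.toFinite {1, z}) ?_ |>.to_subtype
    intro x hx
    exact C.ker x hx
  have h4 : Finite (K ⧸ π.ker) :=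
    Finite.of_equiv L (QuotientGroup.quotientKerEquivOfSurjective π C.surj).symm.toEquiv
  exact Finite.of_subgroup_quotient π.ker

/-- The centre of a perfect cover lies in the commutator subgroup of its Sylow 2-subgroup. -/
theorem z_mem_commutator (C : Cov z π) (hp : commutator K = ⊤) : z ∈ ⁅UK π, UK π⁆ := by
  have := finite_of_cov C
  have h1 := Cfsg.Agent.McLLyComp.CoverMT.pow_index_mem hp (UK π) (z := z)
    (mem_center_iff.2 fun g => (C.zc g).symm) (z_mem_UK C)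
  have h2 : z ^ (UK π).index = z := by
    rw [index_UK C]
    calc z ^ 61425 = (z * z) ^ 30712 * z := by rw [← pow_two, ← pow_mul, ← pow_succ]
      _ = z := by rw [C.zz, one_pow, one_mul]
  rw [h2] at h1
  obtain ⟨x, hx, hxz⟩ := h1
  rw [← hxz]
  have h3 : (commutator (UK π)).map (UK π).subtype ≤ ⁅UK π, UK π⁆ := by
    rw [commutator_def, map_commutator, ← MonoidHom.range_eq_map, range_subtype]
  exact h3 ⟨x, hx, rfl⟩

/-- **The parameter of a perfect cover is not zero.** -/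
theorem exists_table_true (C : Cov z π) (hp : commutator K = ⊤) : ∃ k : ℕ → K, Lifts π k ∧
    Sys z k (fun _ => true) 1 T0 := by
  have := finite_of_cov C
  obtain ⟨k, ε, hk, S⟩ := exists_table C
  cases ε with
  | true => exact ⟨k, hk, S⟩
  | false =>
    exfalso
    have h1 := z_mem_commutator C hp
    have h2 : ⁅UK π, UK π⁆ ≤ A k 0 := by
      have h3 : ∀ x ∈ A k 0 ⊔ zpowers z, ∃ a ∈ A k 0, ∃ c : K, (∀ y, c * y = y * c) ∧ x = a * c := by
        intro x hx
        have hN : (zpowers z).Normal := ⟨by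
          intro n hn g
          obtain ⟨m, rfl⟩ := mem_zpowers_iff.1 hn
          have : g * z ^ m * g⁻¹ = z ^ m := by
            have h5 : Commute g (z ^ m) := Commute.zpow_right (C.zc g).symm m
            rw [h5.eq]; group
          rw [this]; exact hn⟩
        obtain ⟨a, ha, c, hc, rfl⟩ := Subgroup.mem_sup_of_normal_right.1 hx
        refine ⟨a, ha, c, ?_, rfl⟩
        obtain ⟨m, rfl⟩ := mem_zpowers_iff.1 hc
        intro y
        exact (Commute.zpow_right (C.zc y).symm m).symm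
      rw [commutator_le]
      intro x hx y hy
      obtain ⟨a, ha, c, hc, rfl⟩ := h3 x (UK_le C hk hx)
      obtain ⟨b, hb, d, hd, rfl⟩ := h3 y (UK_le C hk hy)
      rw [Cfsg.Agent.McLLyComp.CoverMT.comm_mul hc hd]
      exact mul_mem (mul_mem (mul_mem ha hb) (inv_mem ha)) (inv_mem hb)
    have hz : z ∈ A k 0 := h2 h1
    have h4 : UK π ≤ A k 0 := (UK_le C hk).trans (sup_le le_rfl ((zpowers_le).2 hz))
    have h5 := card_A hk S 12 le_rfl
    have h6 := Subgroup.card_le_of_le h4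
    rw [card_UK C] at h6
    have h7 : A k (12 - 12) = A k 0 := rfl
    rw [h7] at h5
    have h8 : (2 : ℕ) ^ 12 = 4096 := by norm_num
    omega

end Cfsg.Agent.OddHalf.D9.G24.Split

end

-- merged: Cfsg.Agent.OddHalf.D9.G24.InvL
section

/-!
# Facts on `G₂(4)` (six-dimensional model) for the double cover
-/

set_option autoImplicit false
set_option linter.unusedVariables false

namespace Cfsg.Agent.OddHalf.D9.G24.InvL

open Subgroup
open scoped commutatorElement
open Cfsg.Agent.StdG24.Mod6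
open Cfsg.Agent.StdG24.Inv6 (zE vE)
open Cfsg.Agent.GTwoFour.Mdl

/-! ### Commutators in `Q1` -/

/-- disjunction -/
def orF (a b : Bool) : Bool := Bool.rec b true a

theorem orF_spec {a b : Bool} (h : orF a b = true) : a = true ∨ b = true := by
  cases a
  · exact Or.inr h
  · exact Or.inl rfl

/-- the root elements of `Q1` -/
def Q1e : List (Fin 12 × Fin 3) := [(6, 0), (6, 1), (6, 2), (8, 0), (8, 1), (8, 2), (9, 0), (9, 1), (9, 2),
  (10, 0), (10, 1), (10, 2)]

/-- some root element `x` satisfies `[C, x] = x_11(s)` -/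
def anyC (C : List ℕ) (s : Fin 3) : Bool :=
  anyF Q1e fun p => mulF C (xc p.1 p.2) fun E => mulF (xc p.1 p.2) C fun F =>
    mulF (xc 11 s) F fun G => eqF E G

theorem p4_comm_check : allN [6, 8, 9, 10] idC (fun C => orF (eqF C idC)
    (andF (anyC C 0) (anyC C 1))) = true := by decide +kernel

theorem p4_PS_snoc (rs : List (Fin 12)) : ∀ g ∈ PS (rs ++ [11]), ∃ n ∈ PS rs, ∃ z ∈ X 11, g = n * z := by
  induction rs with
  | nil =>
    rintro _ ⟨x, hx, n, rfl, rfl⟩
    exact ⟨1, rfl, x, hx, by rw [mul_one, one_mul]⟩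
  | cons r rs ih =>
    rintro _ ⟨x, hx, n, hn, rfl⟩
    obtain ⟨m, hm, z, hz, rfl⟩ := ih n hn
    exact ⟨x * m, ⟨x, hx, m, hm, rfl⟩, z, hz, (mul_assoc x m z).symm⟩

theorem anyC_spec {C : List ℕ} {q : GL6} (hC : Cd q C) {s : Fin 3} (h : anyC C s = true) :
    ∃ y ∈ Q1, ⁅q, y⁆ = gx 11 s := by
  obtain ⟨p, hp, h1⟩ := anyF_spec h
  rw [mulF_eq, mulF_eq, mulF_eq, eqF_iff] at h1
  have h2 := (hC.mul (Cd_gx p.1 p.2)).inj
    (h1 ▸ (Cd_gx 11 s).mul ((Cd_gx p.1 p.2).mul hC))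
  have hpr : ∀ p ∈ Q1e, p.1 ∈ ([6, 8, 9, 10, 11] : List (Fin 12)) := by decide +kernel
  refine ⟨gx p.1 p.2, Q1_rs _ (hpr p hp) (gx_mem_X _ _), ?_⟩
  rw [commutatorElement_def, h2]
  group

/-- an element of `Q1` outside `X 11` has all the elements of `X 11` as commutators -/
theorem exists_comm {q : GL6} (hq : q ∈ Q1) (hq' : q ∉ X 11) :
    (∃ y ∈ Q1, ⁅q, y⁆ = gx 11 0) ∧ ∃ y ∈ Q1, ⁅q, y⁆ = gx 11 1 := by
  obtain ⟨n, hn, z, hz, rfl⟩ := p4_PS_snoc [6, 8, 9, 10] q (Q1_PS hq)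
  obtain ⟨C, hC, h1⟩ := allN_one p4_comm_check n hn
  have key : ∀ s : Fin 3, (∃ y ∈ Q1, ⁅n, y⁆ = gx 11 s) → ∃ y ∈ Q1, ⁅n * z, y⁆ = gx 11 s := by
    rintro s ⟨y, hy, e⟩
    refine ⟨y, hy, ?_⟩
    have hc : z * y = y * z := Subgroup.mem_centralizer_iff.1 (P_le_cent (Q1_le_P hy)) z hz
    rw [← e, commutatorElement_def, commutatorElement_def, mul_assoc n z y, hc]
    group
  rcases orF_spec h1 with h | h
  · have h2 : C = idC := eqF_iff.1 h
    subst h2
    rw [hC.inj Cd_one, one_mul] at hq'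
    exact absurd hz hq'
  · obtain ⟨h2, h3⟩ := andF_iff.1 h
    exact ⟨key 0 (anyC_spec hC h2), key 1 (anyC_spec hC h3)⟩

/-! ### Classes of involutions -/

/-- the reflections -/
def na : GL6 := ev [(7, 0), (4, 0), (7, 0)]
def nb : GL6 := ev [(6, 0), (5, 0), (6, 0)]

theorem na_mem : na ∈ L := ev_mem _
theorem nb_mem : nb ∈ L := ev_mem _

theorem n_check : cw ([(6, 0), (5, 0), (6, 0)] ++ ([(7, 0), (4, 0), (7, 0)] ++ [(6, 0)] ++
    [(7, 0), (4, 0), (7, 0)]) ++ [(6, 0), (5, 0), (6, 0)]) = cw [(11, 0)] := by decide +kernel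

/-- every involution is conjugate to `gx 11 0` or to `gx 9 0` -/
theorem conj_inv {t : GL6} (ht : t ∈ L) (htt : t * t = 1) (ht1 : t ≠ 1) :
    (∃ g ∈ L, g * t * g⁻¹ = gx 11 0) ∨ ∃ g ∈ L, g * t * g⁻¹ = gx 9 0 := by
  rcases Cfsg.Agent.StdG24.Cls6.conj_z_or_v ht htt ht1 with ⟨g, hg, h⟩ | ⟨g, hg, h⟩
  · left
    refine ⟨nb * na * g, mul_mem (mul_mem nb_mem na_mem) hg, ?_⟩
    have h1 : nb * na * g * t * (nb * na * g)⁻¹ = nb * (na * (g * t * g⁻¹) * na⁻¹) * nb⁻¹ := by group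
    rw [h1, h]
    have h2 : na⁻¹ = ev [(7, 0), (4, 0), (7, 0)] := (ev_reverse [(7, 0), (4, 0), (7, 0)]).symm
    have h3 : nb⁻¹ = ev [(6, 0), (5, 0), (6, 0)] := (ev_reverse [(6, 0), (5, 0), (6, 0)]).symm
    have h4 : zE = ev [(6, 0)] := (ev_singleton (6, 0)).symm
    rw [h2, h3, h4, na, nb, ← ev_append, ← ev_append, ← ev_append, ← ev_append, ← ev_singleton (11, 0)]
    exact ev_eq_of n_check
  · exact Or.inr ⟨g, hg, h⟩

/-! ### A perfect subgroup commuting with `gx 9 0` -/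

/-- `⟨X 5, X 6, X 10⟩ = 2^4 : SL₂(4)` -/
def Y : Subgroup GL6 := _root_.Subgroup.closure {g | ∃ r ∈ ([5, 6, 10] : List (Fin 12)), ∃ t : Fin 3, g = gx r t}

theorem gx_mem_Y {r : Fin 12} (hr : r ∈ ([5, 6, 10] : List (Fin 12))) (t : Fin 3) : gx r t ∈ Y :=
  subset_closure ⟨r, hr, t, rfl⟩

theorem Y_le_L : Y ≤ L := (closure_le _).2 (by rintro _ ⟨r, -, t, rfl⟩; exact gx_mem r t)

theorem ev_mem_Y {w : Wd} (h : ∀ p ∈ w, p.1 ∈ ([5, 6, 10] : List (Fin 12))) : ev w ∈ Y := by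
  induction w with
  | nil => exact one_mem _
  | cons p w ih =>
    have h1 : ev (p :: w) = gx p.1 p.2 * ev w := rfl
    rw [h1]
    exact mul_mem (gx_mem_Y (h p List.mem_cons_self) _) (ih fun q hq => h q (List.mem_cons_of_mem _ hq))

/-- the torus element of `⟨X 5, X 6⟩` -/
def hb : Wd := [(6, 1), (5, 2), (6, 1), (6, 0), (5, 0), (6, 0)]

theorem Y_check : ∀ r ∈ ([5, 6, 10] : List (Fin 12)), ∀ t : Fin 3, ∃ t' : Fin 3,
    cw (cmw hb [(r, t')]) = cw [(r, t)] := by decide +kernel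

theorem Y_perfect : Y ≤ ⁅Y, Y⁆ := by
  refine (closure_le _).2 ?_
  rintro _ ⟨r, hr, t, rfl⟩
  obtain ⟨t', h⟩ := Y_check r hr t
  have h1 : gx r t = ⁅ev hb, ev [(r, t')]⁆ := by
    rw [← ev_cmw, ← ev_singleton (r, t)]
    exact (ev_eq_of h).symm
  rw [SetLike.mem_coe, h1]
  refine commutator_mem_commutator (ev_mem_Y (by decide +kernel)) ?_
  rw [ev_singleton]
  exact gx_mem_Y hr t'

end Cfsg.Agent.OddHalf.D9.G24.InvL

end

-- merged: Cfsg.Agent.OddHalf.D9.G24.Def
section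

/-!
# The facts on `K = 2.G₂(4)` used at the level of `G`

Proved for every perfect central extension of `G₂(4)` by a group of order two in `G24/KFacts.lean`.
-/

set_option autoImplicit false

namespace Cfsg.Agent.OddHalf.D9.G24.Def

open Subgroup
open scoped commutatorElement

/-- Facts on a perfect double cover `K` (centre `{1, z}`) of `G₂(4)`. -/
structure KFacts {K : Type*} [Group K] (z : K) : Prop where
  zz : z * z = 1
  z1 : z ≠ 1
  zc : ∀ y : K, y * z = z * y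
  cen : ∀ x : K, (∀ y, x * y = y * x) → x = 1 ∨ x = z
  perf : ⁅(⊤ : Subgroup K), (⊤ : Subgroup K)⁆ = ⊤
  /-- the involutions different from `z` are conjugate up to `z` -/
  conj : ∀ e e' : K, e * e = 1 → e ≠ 1 → e ≠ z → e' * e' = 1 → e' ≠ 1 → e' ≠ z →
    ∃ k : K, k * e * k⁻¹ = e' ∨ k * e * k⁻¹ = e' * z
  /-- their centralizers are perfect -/
  cperf : ∀ e : K, e * e = 1 → e ≠ 1 → e ≠ z →
    ⁅centralizer ({e} : Set K), centralizer ({e} : Set K)⁆ = centralizer ({e} : Set K)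
  /-- no automorphism of `C(e)` maps `e` to `z` -/
  label : ∀ e : K, e * e = 1 → e ≠ 1 → e ≠ z →
    ∀ θ : centralizer ({e} : Set K) ≃* centralizer ({e} : Set K),
      ((θ ⟨e, mem_centralizer_singleton_iff.2 rfl⟩ : centralizer ({e} : Set K)) : K) ≠ z
  /-- a square root of `z` commutes with a perfect subgroup containing `z` -/
  root : ∀ v : K, v * v = z → ∃ W : Subgroup K, ⁅W, W⁆ = W ∧ z ∈ W ∧ ∀ w ∈ W, w * v = v * w
  /-- an outer involutory automorphism `α`: some `c = α(k) k⁻¹ ≠ 1` lies in a perfect subgroup of `C(α)` -/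
  out : ∀ α : MulAut K, (∀ x, α (α x) = x) → (∀ k, α ≠ MulAut.conj k) →
    ∃ k, α k * k⁻¹ ≠ 1 ∧ ∃ W : Subgroup K, ⁅W, W⁆ = W ∧ (∀ w ∈ W, α w = w) ∧ α k * k⁻¹ ∈ W
  /-- `Out(K)` has exponent (at most) two -/
  exp2 : ∀ α : MulAut K, ∃ k, α * α = MulAut.conj k

end Cfsg.Agent.OddHalf.D9.G24.Def

end

-- merged: Cfsg.Agent.OddHalf.D9.G24.Inner
section

/-!
# Perfect double covers of `G₂(4)`: inner facts

Classes of involutions, centralizers, the label of `z`, square roots of `z`.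
-/

set_option autoImplicit false
set_option linter.unusedVariables false
set_option linter.unusedSectionVars false

namespace Cfsg.Agent.OddHalf.D9.G24.Inner

open Subgroup
open scoped commutatorElement
open Cfsg.Agent.StdG24.Mod6 Cfsg.Agent.OddHalf.D9.G24.Collect Cfsg.Agent.OddHalf.D9.G24.Tab
  Cfsg.Agent.OddHalf.D9.G24.Cover Cfsg.Agent.OddHalf.D9.G24.Split Cfsg.Agent.OddHalf.D9.G24.InvL
open Cfsg.Agent.GTwoFour.Mdl (X P Q1 gx_mem_X X_cases X_sq mem_P_of_comm perfect_P P_le_of_X core_P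
  center_Q1 cent_Q1Z Q1_rs sq_Q1 X_le_L P_le_L Q1_le_P)

variable {K : Type*} [Group K] {z : K} {π : K →* L}

/-! ### Images and preimages -/

/-- image in `GL6` -/
def img (π : K →* L) (H : Subgroup K) : Subgroup GL6 := (H.map π).map L.subtype

/-- preimage of a subgroup of `GL6` -/
def pre (π : K →* L) (B : Subgroup GL6) : Subgroup K := (B.subgroupOf L).comap π

theorem mem_pre {B : Subgroup GL6} {x : K} : x ∈ pre π B ↔ (π x : GL6) ∈ B := Iff.rfl

theorem mem_img {H : Subgroup K} {g : GL6} : g ∈ img π H ↔ ∃ h ∈ H, (π h : GL6) = g := by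
  constructor
  · rintro ⟨_, ⟨h, hh, rfl⟩, rfl⟩
    exact ⟨h, hh, rfl⟩
  · rintro ⟨h, hh, rfl⟩
    exact ⟨_, ⟨h, hh, rfl⟩, rfl⟩

theorem coe_mem_img {H : Subgroup K} {h : K} (hh : h ∈ H) : (π h : GL6) ∈ img π H :=
  mem_img.2 ⟨h, hh, rfl⟩

section

variable (C : Cov z π)

include C

theorem eq_or' {x y : K} (h : (π x : GL6) = π y) : x = y ∨ x = y * z := C.eq_or (Subtype.ext h)

theorem mem_of_img {H : Subgroup K} (hz : z ∈ H) {x : K} (hx : (π x : GL6) ∈ img π H) : x ∈ H := by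
  obtain ⟨h, hh, he⟩ := mem_img.1 hx
  rcases eq_or' C he.symm with h1 | h1
  · rw [h1]; exact hh
  · rw [h1]; exact mul_mem hh hz

theorem exists_lift (g : GL6) (hg : g ∈ L) : ∃ x : K, (π x : GL6) = g := by
  obtain ⟨x, hx⟩ := C.surj ⟨g, hg⟩
  exact ⟨x, by rw [hx]⟩

theorem img_pre {B : Subgroup GL6} (hB : B ≤ L) : img π (pre π B) = B := by
  ext g
  rw [mem_img]
  constructor
  · rintro ⟨x, hx, rfl⟩; exact hx
  · intro hg
    obtain ⟨x, hx⟩ := exists_lift C g (hB hg)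
    exact ⟨x, by rw [mem_pre, hx]; exact hg, hx⟩

theorem z_mem_pre (B : Subgroup GL6) : z ∈ pre π B := by
  rw [mem_pre, C.pz]; exact one_mem _

theorem perfect_pre {B : Subgroup GL6} (hBL : B ≤ L) (hB : B ≤ ⁅B, B⁆)
    (hz : z ∈ ⁅pre π B, pre π B⁆) : ⁅pre π B, pre π B⁆ = pre π B := by
  refine le_antisymm (commutator_le_self _) ?_
  intro x hx
  refine mem_of_img C hz ?_
  have h1 : img π ⁅pre π B, pre π B⁆ = ⁅B, B⁆ := by
    rw [img, map_commutator, map_commutator]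
    change ⁅img π (pre π B), img π (pre π B)⁆ = _
    rw [img_pre C hBL]
  rw [h1]
  exact hB hx

/-- lifts commuting up to `z` normalise the centralizer -/
theorem norm_cent {c n : K} (h : n * c * n⁻¹ = c ∨ n * c * n⁻¹ = c * z) {x : K}
    (hx : x ∈ centralizer ({c} : Set K)) : n * x * n⁻¹ ∈ centralizer ({c} : Set K) := by
  rw [mem_centralizer_singleton_iff] at hx ⊢
  have hzc := C.zc
  have h1 : n * x * n⁻¹ * (n * c * n⁻¹) = n * c * n⁻¹ * (n * x * n⁻¹) := by
    calc n * x * n⁻¹ * (n * c * n⁻¹) = n * (x * c) * n⁻¹ := by group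
      _ = n * (c * x) * n⁻¹ := by rw [hx]
      _ = _ := by group
  rcases h with h | h
  · rwa [h] at h1
  · rw [h] at h1
    have h2 : n * x * n⁻¹ * c * z = c * (n * x * n⁻¹) * z := by
      calc n * x * n⁻¹ * c * z = n * x * n⁻¹ * (c * z) := by group
        _ = c * z * (n * x * n⁻¹) := h1
        _ = c * (z * (n * x * n⁻¹)) := by group
        _ = _ := by rw [hzc]; group
    exact mul_right_cancel h2

end

/-! ### The table -/

/-- the table with `ε = 1` -/
abbrev Tb (z : K) (k : ℕ → K) : Prop := Sys z k (fun _ => true) 1 T0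

theorem cm0 {k : ℕ → K} (S : Tb z k) {i l : ℕ} {A : List ℕ} (hil : i < l) (h : T0 i l = (A, 0)) :
    k l * k i = k i * k l * vl k A := by
  have h1 := S.cm i l hil
  have h2 : V z k (fun _ => true) 1 (T0 i l) = vl k A := by
    rw [h, V]
    have : dot (fun _ => true) 1 0 = false := by decide
    simp [this, zb]
  rw [h1, h2]

theorem cm1 {k : ℕ → K} (S : Tb z k) {i l : ℕ} {A : List ℕ} (hil : i < l) (h : T0 i l = (A, 1)) :
    k l * k i = k i * k l * vl k A * z := by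
  have h1 := S.cm i l hil
  have h2 : V z k (fun _ => true) 1 (T0 i l) = vl k A * z := by
    rw [h, V]
    have : dot (fun _ => true) 1 1 = true := by decide
    simp [this, zb]
  rw [h1, h2, ← mul_assoc]

theorem sq0 {k : ℕ → K} (S : Tb z k) {i : ℕ} (h : T0 i i = ([], 0)) : k i * k i = 1 := by
  rw [S.sq i, h, V]
  have : dot (fun _ => true) 1 0 = false := by decide
  simp [this, zb]

theorem sq1 {k : ℕ → K} (S : Tb z k) {i : ℕ} (h : T0 i i = ([], 1)) : k i * k i = z := by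
  rw [S.sq i, h, V]
  have : dot (fun _ => true) 1 1 = true := by decide
  simp [this, zb]

section

variable (C : Cov z π) {k : ℕ → K} (hk : Lifts π k) (S : Tb z k)

include C hk S

theorem k10_sq : k 10 * k 10 = 1 := sq0 S rfl

theorem k6_sq : k 6 * k 6 = z := sq1 S rfl

theorem coe_k {i : ℕ} (hi : i < 12) : (π (k i) : GL6) = gx (rt i) (tt i) := by
  rw [hk.lift i hi]; rfl

/-- the lift of `na` -/
theorem exists_na : ∃ n : K, (π n : GL6) = na := exists_lift C _ na_mem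

theorem exists_nb : ∃ n : K, (π n : GL6) = nb := exists_lift C _ nb_mem

end

theorem na_conj (t : Fin 3) : na * gx 7 t * na⁻¹ = gx 4 t ∧ na * gx 11 t * na⁻¹ = gx 11 t := by
  have h0 : na⁻¹ = ev [(7, 0), (4, 0), (7, 0)] := (ev_reverse [(7, 0), (4, 0), (7, 0)]).symm
  have hc : ∀ t : Fin 3, cw ([(7, 0), (4, 0), (7, 0)] ++ [(7, t)] ++ [(7, 0), (4, 0), (7, 0)]) =
      cw [(4, t)] ∧ cw ([(7, 0), (4, 0), (7, 0)] ++ [(11, t)] ++ [(7, 0), (4, 0), (7, 0)]) =
        cw [(11, t)] := by decide +kernel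
  rw [h0, na, ← ev_singleton (7, t), ← ev_singleton (4, t), ← ev_singleton (11, t), ← ev_append,
    ← ev_append, ← ev_append, ← ev_append]
  exact ⟨ev_eq_of (hc t).1, ev_eq_of (hc t).2⟩

theorem nb_conj (t : Fin 3) : nb * gx 6 t * nb⁻¹ = gx 5 t ∧ nb * gx 9 t * nb⁻¹ = gx 9 t := by
  have h0 : nb⁻¹ = ev [(6, 0), (5, 0), (6, 0)] := (ev_reverse [(6, 0), (5, 0), (6, 0)]).symm
  have hc : ∀ t : Fin 3, cw ([(6, 0), (5, 0), (6, 0)] ++ [(6, t)] ++ [(6, 0), (5, 0), (6, 0)]) =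
      cw [(5, t)] ∧ cw ([(6, 0), (5, 0), (6, 0)] ++ [(9, t)] ++ [(6, 0), (5, 0), (6, 0)]) =
        cw [(9, t)] := by decide +kernel
  rw [h0, nb, ← ev_singleton (6, t), ← ev_singleton (5, t), ← ev_singleton (9, t), ← ev_append,
    ← ev_append, ← ev_append, ← ev_append]
  exact ⟨ev_eq_of (hc t).1, ev_eq_of (hc t).2⟩

/-- `X r ≤ B` from the two generators -/
theorem X_le_of {r : Fin 12} {B : Subgroup GL6} (h0 : gx r 0 ∈ B) (h1 : gx r 1 ∈ B) : X r ≤ B := by
  intro x hx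
  rcases X_cases hx with rfl | ⟨t, rfl⟩
  · exact one_mem _
  · have h6 : ∀ r : Fin 12, cw [(r, 2)] = cw [(r, 0), (r, 1)] := by decide +kernel
    match t with
    | 0 => exact h0
    | 1 => exact h1
    | 2 =>
      have h7 : gx r 2 = gx r 0 * gx r 1 := by
        have := ev_eq_of (h6 r)
        rw [ev_singleton] at this
        rw [this, show [(r, (0 : Fin 3)), (r, 1)] = [(r, 0)] ++ [(r, 1)] from rfl, ev_append,
          ev_singleton, ev_singleton]
      rw [h7]; exact mul_mem h0 h1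

section

variable (C : Cov z π) {k : ℕ → K} (hk : Lifts π k) (S : Tb z k)

include C hk S

theorem k10_comm {i : ℕ} (hi : i < 12) : k i * k 10 = k 10 * k i := by
  have h : ∀ i < 10, T0 i 10 = ([], 0) := by decide +kernel
  rcases lt_trichotomy i 10 with h1 | h1 | h1
  · have := cm0 S h1 (h i h1)
    rw [vl_nil, mul_one] at this
    exact this.symm
  · rw [h1]
  · have h2 : i = 11 := by omega
    subst h2
    have := cm0 S (i := 10) (l := 11) (A := []) (by norm_num) rfl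
    rw [vl_nil, mul_one] at this
    exact this

theorem k6_comm {i : ℕ} (hi : i ∈ [2, 3, 8, 9]) : k i * k 6 = k 6 * k i := by
  have h1 : ∀ i ∈ [2, 3], i < 6 ∧ T0 i 6 = ([], 0) := by decide +kernel
  have h2 : ∀ i ∈ [8, 9], 6 < i ∧ T0 6 i = ([], 0) := by decide +kernel
  have h3 : i ∈ [2, 3] ∨ i ∈ [8, 9] := by
    simp only [List.mem_cons, List.not_mem_nil, or_false] at hi ⊢
    (clear * - hi; tauto)
  rcases h3 with h | h
  · have := cm0 S (h1 i h).1 (h1 i h).2
    rw [vl_nil, mul_one] at this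
    exact this.symm
  · have := cm0 S (h2 i h).1 (h2 i h).2
    rw [vl_nil, mul_one] at this
    exact this

/-- the centralizer of `k 10` is the preimage of `P` -/
theorem mem_cent10 {x : K} : x ∈ centralizer ({k 10} : Set K) ↔ (π x : GL6) ∈ P := by
  constructor
  · intro hx
    rw [mem_centralizer_singleton_iff] at hx
    refine mem_P_of_comm (π x).2 ?_
    have h1 : (π (k 10) : GL6) = gx 11 0 := coe_k C hk S (by norm_num)
    rw [← h1, ← Subgroup.coe_mul, ← Subgroup.coe_mul, ← map_mul, ← map_mul, hx]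
  · intro hx
    have hzc : z ∈ centralizer ({k 10} : Set K) := mem_centralizer_singleton_iff.2 (C.zc _)
    refine mem_of_img C hzc ?_
    refine P_le_of_X (K := img π (centralizer ({k 10} : Set K))) ?_ hx
    have hgen : ∀ i < 12, gx (rt i) (tt i) ∈ img π (centralizer ({k 10} : Set K)) := by
      intro i hi
      rw [← coe_k C hk S hi]
      exact coe_mem_img (mem_centralizer_singleton_iff.2 (k10_comm C hk S hi))
    intro r hr
    obtain ⟨n, hn⟩ := exists_na C hk S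
    have hn10 : n * k 10 * n⁻¹ = k 10 ∨ n * k 10 * n⁻¹ = k 10 * z := by
      apply eq_or' C
      rw [map_mul, map_mul, map_inv, Subgroup.coe_mul, Subgroup.coe_mul, Subgroup.coe_inv, hn,
        coe_k C hk S (by norm_num)]
      exact (na_conj 0).2
    have h4 : ∀ t : Fin 3, gx 7 t ∈ img π (centralizer ({k 10} : Set K)) →
        gx 4 t ∈ img π (centralizer ({k 10} : Set K)) := by
      intro t ht
      obtain ⟨y, hy, hyt⟩ := mem_img.1 ht
      refine mem_img.2 ⟨n * y * n⁻¹, norm_cent C hn10 hy, ?_⟩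
      rw [map_mul, map_mul, map_inv, Subgroup.coe_mul, Subgroup.coe_mul, Subgroup.coe_inv, hn, hyt]
      exact (na_conj t).1
    have hr' : r = 4 ∨ ∃ i < 12, rt i = r ∧ tt i = 0 ∧ rt (i + 1) = r ∧ tt (i + 1) = 1 ∧ i + 1 < 12 := by
      revert hr; revert r; decide +kernel
    rcases hr' with rfl | ⟨i, hi, e1, e2, e3, e4, hi'⟩
    · exact X_le_of (h4 0 (hgen 0 (by norm_num))) (h4 1 (hgen 1 (by norm_num)))
    · refine X_le_of ?_ ?_
      · have := hgen i hi; rwa [e1, e2] at this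
      · have := hgen (i + 1) hi'; rwa [e3, e4] at this

theorem cent10_eq : centralizer ({k 10} : Set K) = pre π P := by
  ext x
  exact mem_cent10 C hk S

theorem k_mem_pre {B : Subgroup GL6} {i : ℕ} (hi : i < 12) (h : gx (rt i) (tt i) ∈ B) : k i ∈ pre π B := by
  rw [mem_pre, coe_k C hk S hi]; exact h

theorem perfect10 : ⁅centralizer ({k 10} : Set K), centralizer ({k 10} : Set K)⁆ =
    centralizer ({k 10} : Set K) := by
  rw [cent10_eq C hk S]
  refine perfect_pre C P_le_L perfect_P ?_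
  have h1 : k 5 * k 4 = k 4 * k 5 * z := by
    have := cm1 S (i := 4) (l := 5) (A := []) (by norm_num) rfl
    rwa [vl_nil, mul_one] at this
  have h2 : ⁅k 4, k 5⁆ = z := by
    have h3 : k 4 * k 5 = k 5 * k 4 * z := by
      rw [h1, mul_assoc, C.zz, mul_one]
    rw [commutatorElement_def, h3, ← C.zc (k 5 * k 4)]
    group
  have hX8 : X 8 ≤ P := (Q1_rs 8 (by simp)).trans Q1_le_P
  rw [← h2]
  exact commutator_mem_commutator (k_mem_pre C hk S (by norm_num) (hX8 (gx_mem_X _ _)))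
    (k_mem_pre C hk S (by norm_num) (hX8 (gx_mem_X _ _)))

/-! ### Square roots of `z` -/

/-- the preimage of `Y` is perfect and commutes with `k 6` -/
theorem root6_pre : ⁅pre π Y, pre π Y⁆ = pre π Y ∧ ∀ w ∈ pre π Y, w * k 6 = k 6 * w := by
  refine ⟨?_, ?_⟩
  · refine perfect_pre C Y_le_L Y_perfect ?_
    have m2 : k 2 ∈ pre π Y := k_mem_pre C hk S (by norm_num) (gx_mem_Y (by decide) _)
    have m3 : k 3 ∈ pre π Y := k_mem_pre C hk S (by norm_num) (gx_mem_Y (by decide) _)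
    have m8 : k 8 ∈ pre π Y := k_mem_pre C hk S (by norm_num) (gx_mem_Y (by decide) _)
    have m9 : k 9 ∈ pre π Y := k_mem_pre C hk S (by norm_num) (gx_mem_Y (by decide) _)
    -- the three commutators
    have c1 := cm0 S (i := 2) (l := 8) (A := [10]) (by norm_num) rfl
    have c2 := cm0 S (i := 2) (l := 9) (A := [11]) (by norm_num) rfl
    have c3 := cm1 S (i := 3) (l := 9) (A := [10, 11]) (by norm_num) rfl
    simp only [vl_cons, vl_nil, mul_one] at c1 c2 c3
    have hc : ∀ i < 10, k 10 * k i = k i * k 10 := fun i hi => (k10_comm C hk S (by omega)).symm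
    have h11 : ∀ i < 11, T0 i 11 = ([], 0) := by decide +kernel
    have hd : ∀ i < 11, k 11 * k i = k i * k 11 := by
      intro i hi
      have := cm0 S hi (h11 i hi)
      rwa [vl_nil, mul_one] at this
    have comm_of : ∀ a b c : K, b * a = a * b * c → (c * a = a * c) → (c * b = b * c) → ⁅b, a⁆ = c := by
      intro a b c h ha hb
      have h3 : a * b * c = c * (a * b) := by
        rw [← mul_assoc c, ha, mul_assoc a, ← hb, ← mul_assoc]
      rw [commutatorElement_def, h, h3]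
      group
    have e1 : ⁅k 8, k 2⁆ = k 10 := comm_of _ _ _ c1 (hc 2 (by norm_num)) (hc 8 (by norm_num))
    have e2 : ⁅k 9, k 2⁆ = k 11 := comm_of _ _ _ c2 (hd 2 (by norm_num)) (hd 9 (by norm_num))
    have e3 : ⁅k 9, k 3⁆ = k 10 * k 11 * z := by
      refine comm_of _ _ _ (by rw [c3]; group) ?_ ?_
      · calc k 10 * k 11 * z * k 3 = k 10 * k 11 * (z * k 3) := by group
          _ = k 10 * (k 11 * k 3) * z := by rw [C.zc]; group
          _ = k 10 * k 3 * k 11 * z := by rw [hd 3 (by norm_num)]; group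
          _ = _ := by rw [hc 3 (by norm_num)]; group
      · calc k 10 * k 11 * z * k 9 = k 10 * k 11 * (z * k 9) := by group
          _ = k 10 * (k 11 * k 9) * z := by rw [C.zc]; group
          _ = k 10 * k 9 * k 11 * z := by rw [hd 9 (by norm_num)]; group
          _ = _ := by rw [hc 9 (by norm_num)]; group
    have s10 : k 10 * k 10 = 1 := k10_sq C hk S
    have s11 : k 11 * k 11 = 1 := sq0 S rfl
    have hz : z = ⁅k 8, k 2⁆ * ⁅k 9, k 3⁆ * ⁅k 9, k 2⁆ := by
      rw [e1, e2, e3]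
      calc z = 1 * z := (one_mul z).symm
        _ = k 10 * k 10 * (z * (k 11 * k 11)) := by rw [s10, s11]; group
        _ = k 10 * k 10 * (k 11 * z * k 11) := by
            congr 1
            rw [← mul_assoc, C.zc]
        _ = _ := by group
    rw [hz]
    exact mul_mem (mul_mem (commutator_mem_commutator m8 m2) (commutator_mem_commutator m9 m3))
      (commutator_mem_commutator m9 m2)
  · intro w hw
    have hzc : z ∈ centralizer ({k 6} : Set K) := mem_centralizer_singleton_iff.2 (C.zc _)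
    suffices h : Y ≤ img π (centralizer ({k 6} : Set K)) from
      mem_centralizer_singleton_iff.1 (mem_of_img C hzc (h hw))
    obtain ⟨n, hn⟩ := exists_nb C hk S
    have hn6 : n * k 6 * n⁻¹ = k 6 ∨ n * k 6 * n⁻¹ = k 6 * z := by
      apply eq_or' C
      rw [map_mul, map_mul, map_inv, Subgroup.coe_mul, Subgroup.coe_mul, Subgroup.coe_inv, hn,
        coe_k C hk S (by norm_num)]
      exact (nb_conj 0).2
    have hgen : ∀ i ∈ [2, 3, 8, 9], gx (rt i) (tt i) ∈ img π (centralizer ({k 6} : Set K)) := by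
      intro i hi
      have h12 : ∀ i ∈ [2, 3, 8, 9], i < 12 := by decide
      rw [← coe_k C hk S (h12 i hi)]
      exact coe_mem_img (mem_centralizer_singleton_iff.2 (k6_comm C hk S hi))
    have h5 : ∀ t : Fin 3, gx 6 t ∈ img π (centralizer ({k 6} : Set K)) →
        gx 5 t ∈ img π (centralizer ({k 6} : Set K)) := by
      intro t ht
      obtain ⟨y, hy, hyt⟩ := mem_img.1 ht
      refine mem_img.2 ⟨n * y * n⁻¹, norm_cent C hn6 hy, ?_⟩
      rw [map_mul, map_mul, map_inv, Subgroup.coe_mul, Subgroup.coe_mul, Subgroup.coe_inv, hn, hyt]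
      exact (nb_conj t).1
    have hX6 : X 6 ≤ img π (centralizer ({k 6} : Set K)) :=
      X_le_of (hgen 2 (by simp)) (hgen 3 (by simp))
    have hX10 : X 10 ≤ img π (centralizer ({k 6} : Set K)) :=
      X_le_of (hgen 8 (by simp)) (hgen 9 (by simp))
    refine (closure_le _).2 ?_
    rintro _ ⟨r, hr, t, rfl⟩
    simp only [List.mem_cons, List.not_mem_nil, or_false] at hr
    rcases hr with rfl | rfl | rfl
    · exact h5 t (hX6 (gx_mem_X _ _))
    · exact hX6 (gx_mem_X _ _)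
    · exact hX10 (gx_mem_X _ _)

/-- a perfect subgroup containing `z` and commuting with `k 6` -/
theorem root6 : ∃ W : Subgroup K, ⁅W, W⁆ = W ∧ z ∈ W ∧ ∀ w ∈ W, w * k 6 = k 6 * w :=
  ⟨pre π Y, (root6_pre C hk S).1, z_mem_pre C _, (root6_pre C hk S).2⟩

end

end Cfsg.Agent.OddHalf.D9.G24.Inner

end

-- merged: Cfsg.Agent.OddHalf.D9.G24.Label
section

/-!
# Perfect double covers of `G₂(4)`: the label of `z`

No automorphism of `C(e)`, `e ≠ z` an involution, maps `e` to `z`.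
-/

set_option autoImplicit false
set_option linter.unusedVariables false
set_option linter.unusedSectionVars false

namespace Cfsg.Agent.OddHalf.D9.G24.Label

open Subgroup
open scoped commutatorElement
open Cfsg.Agent.StdG24.Mod6 Cfsg.Agent.OddHalf.D9.G24.Collect Cfsg.Agent.OddHalf.D9.G24.Tab
  Cfsg.Agent.OddHalf.D9.G24.Cover Cfsg.Agent.OddHalf.D9.G24.Split Cfsg.Agent.OddHalf.D9.G24.InvL
  Cfsg.Agent.OddHalf.D9.G24.Inner
open Cfsg.Agent.GTwoFour.Mdl (X P Q1 gx_mem_X X_cases X_sq mem_P_of_comm perfect_P P_le_of_X core_P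
  center_Q1 cent_Q1Z Q1_rs sq_Q1 X_le_L P_le_L Q1_le_P norm_Q1 Q1_PS PS)

variable {K : Type*} [Group K] {z : K} {π : K →* L}

theorem gx_ne (r : Fin 12) (t : Fin 3) : gx r t ≠ 1 := by
  intro h
  have h1 : ∀ (r : Fin 12) (t : Fin 3), cw [(r, t)] ≠ idC := by decide +kernel
  refine h1 r t ?_
  have h2 : ev [(r, t)] = ev [] := by rw [ev_singleton, h, ev_nil]
  exact ev_eq_iff.1 h2

theorem gx_ne_gx : gx 11 0 ≠ gx 11 1 := by
  intro h
  have h1 : cw [((11 : Fin 12), (0 : Fin 3))] ≠ cw [(11, 1)] := by decide +kernel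
  refine h1 (ev_eq_iff.1 ?_)
  rw [ev_singleton, ev_singleton, h]

/-- generation of `Q1` -/
theorem Q1_le_of {B : Subgroup GL6} (h : ∀ r ∈ ([6, 8, 9, 10, 11] : List (Fin 12)), X r ≤ B) : Q1 ≤ B := by
  intro q hq
  have hPS : ∀ rs : List (Fin 12), (∀ r ∈ rs, X r ≤ B) → ∀ n ∈ PS rs, n ∈ B := by
    intro rs
    induction rs with
    | nil => rintro _ n hn; rw [show n = 1 from hn]; exact one_mem _
    | cons r rs ih =>
      rintro h n ⟨x, hx, n', hn', rfl⟩
      exact mul_mem (h r List.mem_cons_self hx) (ih (fun s hs => h s (List.mem_cons_of_mem _ hs)) n' hn')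
  exact hPS _ h q (Q1_PS hq)

section

variable (C : Cov z π) {k : ℕ → K} (hk : Lifts π k) (S : Tb z k)

include C hk S

theorem k11_comm {i : ℕ} (hi : i < 12) : k i * k 11 = k 11 * k i := by
  have h : ∀ i < 11, T0 i 11 = ([], 0) := by decide +kernel
  rcases lt_or_eq_of_le (Nat.lt_succ_iff.1 hi) with h1 | h1
  · have := cm0 S h1 (h i h1)
    rw [vl_nil, mul_one] at this
    exact this.symm
  · rw [h1]

/-- `k 11` is central in the preimage of `P` -/
theorem comm11 {x : K} (hx : (π x : GL6) ∈ P) : x * k 11 = k 11 * x := by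
  have hzc : z ∈ centralizer ({k 11} : Set K) := mem_centralizer_singleton_iff.2 (C.zc _)
  refine mem_centralizer_singleton_iff.1 (mem_of_img C hzc ?_)
  refine P_le_of_X (K := img π (centralizer ({k 11} : Set K))) ?_ hx
  have hgen : ∀ i < 12, gx (rt i) (tt i) ∈ img π (centralizer ({k 11} : Set K)) := by
    intro i hi
    rw [← coe_k C hk S hi]
    exact coe_mem_img (mem_centralizer_singleton_iff.2 (k11_comm C hk S hi))
  intro r hr
  obtain ⟨n, hn⟩ := exists_na C hk S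
  have hn10 : n * k 11 * n⁻¹ = k 11 ∨ n * k 11 * n⁻¹ = k 11 * z := by
    apply eq_or' C
    rw [map_mul, map_mul, map_inv, Subgroup.coe_mul, Subgroup.coe_mul, Subgroup.coe_inv, hn,
      coe_k C hk S (by norm_num)]
    exact (na_conj 1).2
  have h4 : ∀ t : Fin 3, gx 7 t ∈ img π (centralizer ({k 11} : Set K)) →
      gx 4 t ∈ img π (centralizer ({k 11} : Set K)) := by
    intro t ht
    obtain ⟨y, hy, hyt⟩ := mem_img.1 ht
    refine mem_img.2 ⟨n * y * n⁻¹, norm_cent C hn10 hy, ?_⟩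
    rw [map_mul, map_mul, map_inv, Subgroup.coe_mul, Subgroup.coe_mul, Subgroup.coe_inv, hn, hyt]
    exact (na_conj t).1
  have hr' : r = 4 ∨ ∃ i < 12, rt i = r ∧ tt i = 0 ∧ rt (i + 1) = r ∧ tt (i + 1) = 1 ∧ i + 1 < 12 := by
    revert hr; revert r; decide +kernel
  rcases hr' with rfl | ⟨i, hi, e1, e2, e3, e4, hi'⟩
  · exact X_le_of (h4 0 (hgen 0 (by norm_num))) (h4 1 (hgen 1 (by norm_num)))
  · refine X_le_of ?_ ?_
    · have := hgen i hi; rwa [e1, e2] at this
    · have := hgen (i + 1) hi'; rwa [e3, e4] at this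

theorem comm10 {x : K} (hx : (π x : GL6) ∈ P) : x * k 10 = k 10 * x :=
  mem_centralizer_singleton_iff.1 ((mem_cent10 C hk S).2 hx)

/-- the preimage of `X 11` is central in the preimage of `P` -/
theorem comm_X11 {q : K} (hq : (π q : GL6) ∈ X 11) {x : K} (hx : (π x : GL6) ∈ P) : x * q = q * x := by
  have h1 : X 11 ≤ img π (centralizer ((pre π P : Subgroup K) : Set K)) := by
    refine X_le_of ?_ ?_
    · refine mem_img.2 ⟨k 10, ?_, coe_k C hk S (by norm_num)⟩
      rw [mem_centralizer_iff]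
      intro y hy
      exact comm10 C hk S hy
    · refine mem_img.2 ⟨k 11, ?_, coe_k C hk S (by norm_num)⟩
      rw [mem_centralizer_iff]
      intro y hy
      exact comm11 C hk S hy
  have hz : z ∈ centralizer ((pre π P : Subgroup K) : Set K) := by
    rw [mem_centralizer_iff]
    intro y _
    exact (C.zc y).symm
  exact mem_centralizer_iff.1 (mem_of_img C hz (h1 hq)) x hx

/-- the group of the elements whose commutator with `q` is in the central group `F` -/
theorem comm_mem {q : K} (hq : (π q : GL6) ∈ P) {F : Subgroup K}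
    (hF : ∀ f ∈ F, ∀ x, (π x : GL6) ∈ P → x * f = f * x)
    (hgen : ∀ i, 2 ≤ i → i < 12 → ⁅q, k i⁆ ∈ F) {y : K} (hy : (π y : GL6) ∈ Q1) : ⁅q, y⁆ ∈ F := by
  let T : Subgroup K :=
    { carrier := {y | (π y : GL6) ∈ P ∧ ⁅q, y⁆ ∈ F}
      one_mem' := ⟨by rw [map_one]; exact one_mem _, by rw [commutatorElement_one_right]; exact one_mem _⟩
      mul_mem' := by
        rintro a b ⟨ha, ha'⟩ ⟨hb, hb'⟩
        refine ⟨by rw [map_mul]; exact mul_mem ha hb, ?_⟩
        have h1 : ⁅q, a * b⁆ = ⁅q, a⁆ * (a * ⁅q, b⁆ * a⁻¹) := by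
          simp only [commutatorElement_def]; group
        have h2 : a * ⁅q, b⁆ * a⁻¹ = ⁅q, b⁆ := by rw [hF _ hb' a ha]; group
        rw [h1, h2]
        exact mul_mem ha' hb'
      inv_mem' := by
        rintro a ⟨ha, ha'⟩
        refine ⟨by rw [map_inv]; exact inv_mem ha, ?_⟩
        have h1 : ⁅q, a⁻¹⁆ = a⁻¹ * (⁅q, a⁆)⁻¹ * a⁻¹⁻¹ := by
          simp only [commutatorElement_def]; group
        have h2 : (π a⁻¹ : GL6) ∈ P := by rw [map_inv]; exact inv_mem ha
        rw [h1, hF _ (inv_mem ha') a⁻¹ h2, mul_inv_cancel_right]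
        exact inv_mem ha' }
  have hz : z ∈ T := by
    refine ⟨by rw [C.pz]; exact one_mem _, ?_⟩
    rw [commutatorElement_eq_one_iff_mul_comm.2 (C.zc q).symm]
    exact one_mem _
  have h1 : Q1 ≤ img π T := by
    refine Q1_le_of fun r hr => ?_
    have hr' : ∃ i < 12, 2 ≤ i ∧ rt i = r ∧ tt i = 0 ∧ rt (i + 1) = r ∧ tt (i + 1) = 1 ∧ i + 1 < 12 := by
      revert hr; revert r; decide +kernel
    have hX : X r ≤ P := (Q1_rs r hr).trans Q1_le_P
    obtain ⟨i, hi, h2, e1, e2, e3, e4, hi'⟩ := hr'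
    have hmem : ∀ j, 2 ≤ j → j < 12 → rt j = r → gx (rt j) (tt j) ∈ img π T := by
      intro j hj2 hj hjr
      rw [← coe_k C hk S hj]
      refine coe_mem_img ⟨?_, hgen j hj2 hj⟩
      rw [coe_k C hk S hj]
      exact hX (hjr ▸ gx_mem_X _ _)
    refine X_le_of ?_ ?_
    · have := hmem i h2 hi e1; rwa [e1, e2] at this
    · have := hmem (i + 1) (by omega) hi' e3; rwa [e3, e4] at this
  exact (mem_of_img C hz (h1 hy)).2

/-- elements of the preimage of `Q1` have order dividing 8 -/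
theorem pow_eight {y : K} (hy : (π y : GL6) ∈ Q1) : y ^ 8 = 1 := by
  have h1 := sq_Q1 _ hy
  have h2 := X_sq h1
  have h3 : (π (y ^ 4) : GL6) = 1 := by
    rw [map_pow, Subgroup.coe_pow]
    calc (π y : GL6) ^ 4 = (π y : GL6) * π y * ((π y : GL6) * π y) := by
          simp only [pow_succ, pow_zero, one_mul, mul_assoc]
      _ = 1 := h2
  have h4 : π (y ^ 4) = 1 := Subtype.ext h3
  rcases C.ker _ h4 with h | h
  · calc y ^ 8 = y ^ 4 * y ^ 4 := by rw [← pow_add]
      _ = 1 := by rw [h, one_mul]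
  · calc y ^ 8 = y ^ 4 * y ^ 4 := by rw [← pow_add]
      _ = 1 := by rw [h, C.zz]

/-- automorphisms of the preimage of `P` preserve the preimage of `Q1` -/
theorem map_Q1 (ψ : pre π P ≃* pre π P) (x : pre π P) (hx : (π (x : K) : GL6) ∈ Q1) :
    (π (ψ x : K) : GL6) ∈ Q1 := by
  let N : Subgroup K :=
    { carrier := {g | ∃ y : pre π P, (π (y : K) : GL6) ∈ Q1 ∧ (ψ y : K) = g}
      one_mem' := ⟨1, by rw [Subgroup.coe_one, map_one]; exact one_mem _, by rw [map_one, Subgroup.coe_one]⟩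
      mul_mem' := by
        rintro _ _ ⟨a, ha, rfl⟩ ⟨b, hb, rfl⟩
        exact ⟨a * b, by rw [Subgroup.coe_mul, map_mul]; exact mul_mem ha hb, by rw [map_mul, Subgroup.coe_mul]⟩
      inv_mem' := by
        rintro _ ⟨a, ha, rfl⟩
        exact ⟨a⁻¹, by rw [Subgroup.coe_inv, map_inv]; exact inv_mem ha, by rw [map_inv, Subgroup.coe_inv]⟩ }
  refine core_P (img π N) ?_ ?_ ?_ (coe_mem_img (π := π) (H := N) ⟨x, hx, rfl⟩)
  · intro g hg
    obtain ⟨_, ⟨y, _, rfl⟩, rfl⟩ := mem_img.1 hg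
    exact (ψ y).2
  · intro p hp g hg
    obtain ⟨_, ⟨y, hy, rfl⟩, rfl⟩ := mem_img.1 hg
    obtain ⟨m, hm⟩ := exists_lift C p (P_le_L hp)
    have hmP : m ∈ pre π P := by rw [mem_pre, hm]; exact hp
    set m' : pre π P := ⟨m, hmP⟩ with hm'
    refine mem_img.2 ⟨m * (ψ y : K) * m⁻¹, ⟨ψ.symm m' * y * (ψ.symm m')⁻¹, ?_, ?_⟩, ?_⟩
    · rw [Subgroup.coe_mul, Subgroup.coe_mul, Subgroup.coe_inv, map_mul, map_mul, map_inv,
        Subgroup.coe_mul, Subgroup.coe_mul, Subgroup.coe_inv]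
      exact norm_Q1 _ (ψ.symm m').2 _ hy
    · rw [map_mul, map_mul, map_inv, ψ.apply_symm_apply]
      rfl
    · rw [map_mul, map_mul, map_inv, Subgroup.coe_mul, Subgroup.coe_mul, Subgroup.coe_inv, hm]
  · rintro ⟨g, hg⟩
    obtain ⟨_, ⟨y, hy, rfl⟩, rfl⟩ := mem_img.1 hg
    refine ⟨3, Subtype.ext ?_⟩
    have h1 : y ^ 8 = 1 := Subtype.ext (by rw [Subgroup.coe_pow]; exact pow_eight C hk S hy)
    have h2 : (ψ y) ^ 8 = 1 := by rw [← map_pow, h1, map_one]
    have h3 : (ψ y : K) ^ 8 = 1 := by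
      have := congrArg (Subtype.val) h2
      rwa [Subgroup.coe_pow] at this
    change (π (ψ y : K) : GL6) ^ (2 ^ 3) = 1
    rw [show (2 : ℕ) ^ 3 = 8 by norm_num, ← Subgroup.coe_pow, ← map_pow, h3, map_one, Subgroup.coe_one]

/-- the key step: `q ∈ Q1^`, all `[q, y]` in `{1, e, b, e b}` -/
theorem label_aux (ψ : pre π P ≃* pre π P) {e b q : pre π P} (hq : (π (q : K) : GL6) ∈ Q1)
    (hqc : ∃ y : pre π P, q * y ≠ y * q)
    (hcomm : ∀ y : pre π P, (π (y : K) : GL6) ∈ Q1 → ⁅q, y⁆ = 1 ∨ ⁅q, y⁆ = e ∨ ⁅q, y⁆ = b ∨ ⁅q, y⁆ = e * b)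
    (he : (ψ e : K) = z) : False := by
  have h1 := map_Q1 C hk S ψ q hq
  have h2 : (π (ψ q : K) : GL6) ∉ X 11 := by
    intro h
    obtain ⟨y, hy⟩ := hqc
    apply hy
    apply ψ.injective
    rw [map_mul, map_mul]
    apply Subtype.ext
    rw [Subgroup.coe_mul, Subgroup.coe_mul]
    exact (comm_X11 C hk S h (ψ y).2).symm
  obtain ⟨⟨y0, hy0, h3⟩, ⟨y1, hy1, h4⟩⟩ := exists_comm h1 h2
  have key : ∀ y ∈ Q1, ∀ s : Fin 3, ⁅(π (ψ q : K) : GL6), y⁆ = gx 11 s → gx 11 s = (π (ψ b : K) : GL6) := by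
    intro y hy s hs
    obtain ⟨m, hm⟩ := exists_lift C y (P_le_L (Q1_le_P hy))
    have hmP : m ∈ pre π P := by rw [mem_pre, hm]; exact Q1_le_P hy
    set m' : pre π P := ⟨m, hmP⟩ with hm'
    have h5 : (π ((ψ.symm m' : pre π P) : K) : GL6) ∈ Q1 := map_Q1 C hk S ψ.symm m' (by
      change (π m : GL6) ∈ Q1
      rw [hm]; exact hy)
    have h7 : ∀ a b : pre π P, (π ((⁅a, b⁆ : pre π P) : K) : GL6) =
        ⁅(π (a : K) : GL6), (π (b : K) : GL6)⁆ := fun a b =>
      map_commutatorElement ((L.subtype.comp π).comp (pre π P).subtype) a b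
    have h6 : (π ((ψ ⁅q, ψ.symm m'⁆ : pre π P) : K) : GL6) = gx 11 s := by
      rw [map_commutatorElement, ψ.apply_symm_apply, h7, ← hs, ← hm]
    have hzero : (π ((ψ 1 : pre π P) : K) : GL6) = 1 := by
      rw [map_one, Subgroup.coe_one, map_one, Subgroup.coe_one]
    have hez : (π ((ψ e : pre π P) : K) : GL6) = 1 := by
      rw [he, C.pz]; rfl
    rcases hcomm _ h5 with h | h | h | h
    · rw [h, hzero] at h6; exact absurd h6.symm (gx_ne 11 s)
    · rw [h, hez] at h6; exact absurd h6.symm (gx_ne 11 s)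
    · rw [h] at h6; exact h6.symm
    · rw [h, map_mul, Subgroup.coe_mul, map_mul, Subgroup.coe_mul, hez, one_mul] at h6
      exact h6.symm
  exact gx_ne_gx ((key y0 hy0 0 h3).trans (key y1 hy1 1 h4).symm)

/-- the two witnesses: `q = k 2`, `b = k 11` for `e = k 10`; `q = k 3`, `b = k 11` for `e = k 10 z` -/
theorem comm2 {y : K} (hy : (π y : GL6) ∈ Q1) :
    ⁅k 2, y⁆ = 1 ∨ ⁅k 2, y⁆ = k 10 ∨ ⁅k 2, y⁆ = k 11 ∨ ⁅k 2, y⁆ = k 10 * k 11 := by
  have s10 : k 10 * k 10 = 1 := k10_sq C hk S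
  have s11 : k 11 * k 11 = 1 := sq0 S rfl
  have h10 : k 11 * k 10 = k 10 * k 11 := k10_comm C hk S (by norm_num)
  have hX : ∀ i, 2 ≤ i → i < 12 → (π (k i) : GL6) ∈ P := by
    intro i h2 hi
    have hr : ∀ i < 12, 2 ≤ i → rt i ∈ ([6, 8, 9, 10, 11] : List (Fin 12)) := by decide +kernel
    rw [coe_k C hk S hi]
    exact Q1_le_P (Q1_rs _ (hr i hi h2) (gx_mem_X _ _))
  let F := Cfsg.Agent.GTwoFour.OuterSyl.four (k 10) (k 11) s10 s11 h10.symm
  have hF : ∀ f ∈ F, ∀ x, (π x : GL6) ∈ P → x * f = f * x := by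
    intro f hf x hx
    have c10 := comm10 C hk S hx
    have c11 := comm11 C hk S hx
    rcases hf with h | h | h | h
    · rw [h, mul_one, one_mul]
    · rw [h]; exact c10
    · rw [h]; exact c11
    · rw [h, ← mul_assoc, c10, mul_assoc, c11, mul_assoc]
  refine comm_mem C hk S (F := F) (hX 2 le_rfl (by norm_num)) hF ?_ hy
  intro i h2 hi
  have hcase : i = 2 ∨ ((2 < i) ∧ ((T0 2 i = ([], 0)) ∨ T0 2 i = ([10], 0) ∨ T0 2 i = ([11], 0))) := by
    have : ∀ i < 12, 2 ≤ i → (i = 2 ∨ ((2 < i) ∧ ((T0 2 i = ([], 0)) ∨ T0 2 i = ([10], 0) ∨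
      T0 2 i = ([11], 0)))) := by decide +kernel
    exact this i hi h2
  have comm_of : ∀ c : K, (∀ x, (π x : GL6) ∈ P → x * c = c * x) → c * c = 1 →
      k i * k 2 = k 2 * k i * c → ⁅k 2, k i⁆ = c := by
    intro c hc hcc h
    have h3 : k 2 * k i = k i * k 2 * c := by rw [h, mul_assoc, hcc, mul_one]
    have h4 : k i * k 2 * c = c * (k i * k 2) := by
      have := hc (k i * k 2) (by
        rw [map_mul]; exact mul_mem (hX i h2 hi) (hX 2 le_rfl (by norm_num)))
      exact this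
    rw [commutatorElement_def, h3, h4]
    group
  rcases hcase with rfl | ⟨h3, h | h | h⟩
  · rw [commutatorElement_self]; exact one_mem _
  · have h4 := cm0 S h3 h
    rw [vl_nil, mul_one] at h4
    rw [commutatorElement_eq_one_iff_mul_comm.2 h4.symm]; exact one_mem _
  · have h4 := cm0 S h3 h
    simp only [vl_cons, vl_nil, mul_one] at h4
    right; left
    exact comm_of _ (fun x hx => comm10 C hk S hx) s10 h4
  · have h4 := cm0 S h3 h
    simp only [vl_cons, vl_nil, mul_one] at h4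
    right; right; left
    exact comm_of _ (fun x hx => comm11 C hk S hx) s11 h4

theorem comm3 {y : K} (hy : (π y : GL6) ∈ Q1) :
    ⁅k 3, y⁆ = 1 ∨ ⁅k 3, y⁆ = k 10 * z ∨ ⁅k 3, y⁆ = k 11 ∨ ⁅k 3, y⁆ = k 10 * z * k 11 := by
  have s10 : k 10 * k 10 = 1 := k10_sq C hk S
  have s11 : k 11 * k 11 = 1 := sq0 S rfl
  have h10 : k 11 * k 10 = k 10 * k 11 := k10_comm C hk S (by norm_num)
  have hzz := C.zz
  have hzc := C.zc
  have s10z : k 10 * z * (k 10 * z) = 1 := by
    calc k 10 * z * (k 10 * z) = k 10 * (z * k 10) * z := by group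
      _ = k 10 * k 10 * (z * z) := by rw [hzc]; group
      _ = 1 := by rw [s10, hzz, one_mul]
  have h10z : k 10 * z * k 11 = k 11 * (k 10 * z) := by
    calc k 10 * z * k 11 = k 10 * (z * k 11) := by group
      _ = k 10 * k 11 * z := by rw [hzc]; group
      _ = _ := by rw [← h10]; group
  have hX : ∀ i, 2 ≤ i → i < 12 → (π (k i) : GL6) ∈ P := by
    intro i h2 hi
    have hr : ∀ i < 12, 2 ≤ i → rt i ∈ ([6, 8, 9, 10, 11] : List (Fin 12)) := by decide +kernel
    rw [coe_k C hk S hi]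
    exact Q1_le_P (Q1_rs _ (hr i hi h2) (gx_mem_X _ _))
  let F := Cfsg.Agent.GTwoFour.OuterSyl.four (k 10 * z) (k 11) s10z s11 h10z
  have c10z : ∀ x, (π x : GL6) ∈ P → x * (k 10 * z) = k 10 * z * x := by
    intro x hx
    calc x * (k 10 * z) = (x * k 10) * z := by group
      _ = k 10 * (x * z) := by rw [comm10 C hk S hx]; group
      _ = _ := by rw [← hzc]; group
  have hF : ∀ f ∈ F, ∀ x, (π x : GL6) ∈ P → x * f = f * x := by
    intro f hf x hx
    have c10 := c10z x hx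
    have c11 := comm11 C hk S hx
    rcases hf with h | h | h | h
    · rw [h, mul_one, one_mul]
    · rw [h]; exact c10
    · rw [h]; exact c11
    · rw [h]
      calc x * (k 10 * z * k 11) = (x * (k 10 * z)) * k 11 := by group
        _ = (k 10 * z) * (x * k 11) := by rw [c10]; group
        _ = _ := by rw [c11]; group
  refine comm_mem C hk S (F := F) (hX 3 (by norm_num) (by norm_num)) hF ?_ hy
  intro i h2 hi
  have hcase : i = 2 ∨ i = 3 ∨ ((3 < i) ∧ ((T0 3 i = ([], 0)) ∨ T0 3 i = ([11], 0) ∨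
      T0 3 i = ([10, 11], 1))) := by
    have : ∀ i < 12, 2 ≤ i → (i = 2 ∨ i = 3 ∨ ((3 < i) ∧ ((T0 3 i = ([], 0)) ∨ T0 3 i = ([11], 0) ∨
      T0 3 i = ([10, 11], 1)))) := by decide +kernel
    exact this i hi h2
  have comm_of : ∀ c : K, (∀ x, (π x : GL6) ∈ P → x * c = c * x) → c * c = 1 →
      k i * k 3 = k 3 * k i * c → ⁅k 3, k i⁆ = c := by
    intro c hc hcc h
    have h3 : k 3 * k i = k i * k 3 * c := by rw [h, mul_assoc, hcc, mul_one]
    have h4 : k i * k 3 * c = c * (k i * k 3) := by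
      have := hc (k i * k 3) (by
        rw [map_mul]; exact mul_mem (hX i h2 hi) (hX 3 (by norm_num) (by norm_num)))
      exact this
    rw [commutatorElement_def, h3, h4]
    group
  rcases hcase with rfl | rfl | ⟨h3, h | h | h⟩
  · have h4 := cm0 S (i := 2) (l := 3) (A := []) (by norm_num) rfl
    rw [vl_nil, mul_one] at h4
    rw [commutatorElement_eq_one_iff_mul_comm.2 h4]; exact one_mem _
  · rw [commutatorElement_self]; exact one_mem _
  · have h4 := cm0 S h3 h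
    rw [vl_nil, mul_one] at h4
    rw [commutatorElement_eq_one_iff_mul_comm.2 h4.symm]; exact one_mem _
  · have h4 := cm0 S h3 h
    simp only [vl_cons, vl_nil, mul_one] at h4
    right; right; left
    exact comm_of _ (fun x hx => comm11 C hk S hx) s11 h4
  · have h4 := cm1 S h3 h
    simp only [vl_cons, vl_nil, mul_one] at h4
    right; right; right
    refine comm_of _ (fun x hx => hF _ (Or.inr (Or.inr (Or.inr rfl))) x hx) ?_ ?_
    · calc k 10 * z * k 11 * (k 10 * z * k 11) = k 10 * z * (k 11 * (k 10 * z)) * k 11 := by group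
        _ = k 10 * z * (k 10 * z) * (k 11 * k 11) := by rw [← h10z]; group
        _ = 1 := by rw [s10z, s11, one_mul]
    · rw [h4]
      calc k 3 * k i * (k 10 * k 11) * z = k 3 * k i * (k 10 * (k 11 * z)) := by group
        _ = _ := by rw [← hzc]; group

/-- **Label.** -/
theorem label {e : K} (he : e = k 10 ∨ e = k 10 * z) (ψ : pre π P ≃* pre π P)
    (heP : e ∈ pre π P) : ((ψ ⟨e, heP⟩ : pre π P) : K) ≠ z := by
  intro hz
  have hr : ∀ i < 12, 2 ≤ i → rt i ∈ ([6, 8, 9, 10, 11] : List (Fin 12)) := by decide +kernel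
  have hQ : ∀ i, 2 ≤ i → i < 12 → (π (k i) : GL6) ∈ Q1 := by
    intro i h2 hi
    rw [coe_k C hk S hi]
    exact Q1_rs _ (hr i hi h2) (gx_mem_X _ _)
  have hP : ∀ i, 2 ≤ i → i < 12 → k i ∈ pre π P := fun i h2 hi => Q1_le_P (hQ i h2 hi)
  have hne : ∀ i, i < 12 → k i ≠ 1 := by
    intro i hi h
    have h1 := coe_k C hk S hi
    rw [h, map_one] at h1
    exact gx_ne _ _ h1.symm
  rcases he with rfl | rfl
  · refine label_aux C hk S ψ (e := ⟨k 10, heP⟩) (b := ⟨k 11, hP 11 (by norm_num) (by norm_num)⟩)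
      (q := ⟨k 2, hP 2 (by norm_num) (by norm_num)⟩) (hQ 2 (by norm_num) (by norm_num)) ?_ ?_ hz
    · refine ⟨⟨k 8, hP 8 (by norm_num) (by norm_num)⟩, fun h => ?_⟩
      have h1 : k 2 * k 8 = k 8 * k 2 := congrArg Subtype.val h
      have h2 := cm0 S (i := 2) (l := 8) (A := [10]) (by norm_num) rfl
      simp only [vl_cons, vl_nil, mul_one] at h2
      rw [h1] at h2
      exact hne 10 (by norm_num) (mul_eq_left.1 h2.symm)
    · intro y hy
      rcases comm2 C hk S hy with h | h | h | h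
      · exact Or.inl (Subtype.ext h)
      · exact Or.inr (Or.inl (Subtype.ext h))
      · exact Or.inr (Or.inr (Or.inl (Subtype.ext h)))
      · exact Or.inr (Or.inr (Or.inr (Subtype.ext h)))
  · refine label_aux C hk S ψ (e := ⟨k 10 * z, heP⟩) (b := ⟨k 11, hP 11 (by norm_num) (by norm_num)⟩)
      (q := ⟨k 3, hP 3 (by norm_num) (by norm_num)⟩) (hQ 3 (by norm_num) (by norm_num)) ?_ ?_ hz
    · refine ⟨⟨k 8, hP 8 (by norm_num) (by norm_num)⟩, fun h => ?_⟩
      have h1 : k 3 * k 8 = k 8 * k 3 := congrArg Subtype.val h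
      have h2 := cm0 S (i := 3) (l := 8) (A := [11]) (by norm_num) rfl
      simp only [vl_cons, vl_nil, mul_one] at h2
      rw [h1] at h2
      exact hne 11 (by norm_num) (mul_eq_left.1 h2.symm)
    · intro y hy
      rcases comm3 C hk S hy with h | h | h | h
      · exact Or.inl (Subtype.ext h)
      · exact Or.inr (Or.inl (Subtype.ext h))
      · exact Or.inr (Or.inr (Or.inl (Subtype.ext h)))
      · exact Or.inr (Or.inr (Or.inr (Subtype.ext h)))

end

end Cfsg.Agent.OddHalf.D9.G24.Label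

end

-- merged: Cfsg.Agent.OddHalf.D9.G24.KFacts
section

/-!
# Perfect double covers of `G₂(4)`: the structure `Def.KFacts`
-/

set_option autoImplicit false
set_option linter.unusedVariables false
set_option linter.unusedSectionVars false

namespace Cfsg.Agent.OddHalf.D9.G24.KFacts

open Subgroup
open scoped commutatorElement
open Cfsg.Agent.StdG24.Mod6 Cfsg.Agent.OddHalf.D9.G24.Collect Cfsg.Agent.OddHalf.D9.G24.Tab
  Cfsg.Agent.OddHalf.D9.G24.Cover Cfsg.Agent.OddHalf.D9.G24.Split Cfsg.Agent.OddHalf.D9.G24.InvL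
  Cfsg.Agent.OddHalf.D9.G24.Inner Cfsg.Agent.OddHalf.D9.G24.Label
open Cfsg.Agent.GTwoFour.Mdl (X P Q1)

variable {K : Type*} [Group K] {z : K} {π : K →* L}

/-- centralizers of conjugates -/
theorem mem_cent_conj {e c x : K} (h : x * e * x⁻¹ = c) {y : K} :
    y ∈ centralizer ({e} : Set K) ↔ x * y * x⁻¹ ∈ centralizer ({c} : Set K) := by
  rw [mem_centralizer_singleton_iff, mem_centralizer_singleton_iff, ← h]
  constructor
  · intro hy
    calc x * y * x⁻¹ * (x * e * x⁻¹) = x * (y * e) * x⁻¹ := by group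
      _ = x * (e * y) * x⁻¹ := by rw [hy]
      _ = _ := by group
  · intro hy
    calc y * e = x⁻¹ * (x * y * x⁻¹ * (x * e * x⁻¹)) * x := by group
      _ = x⁻¹ * (x * e * x⁻¹ * (x * y * x⁻¹)) * x := by rw [hy]
      _ = _ := by group

theorem cent_eq_map {e c x : K} (h : x * e * x⁻¹ = c) :
    centralizer ({c} : Set K) = (centralizer ({e} : Set K)).map (MulAut.conj x).toMonoidHom := by
  ext y
  constructor
  · intro hy
    refine ⟨x⁻¹ * y * x, (mem_cent_conj h).2 ?_, ?_⟩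
    · have : x * (x⁻¹ * y * x) * x⁻¹ = y := by group
      rwa [this]
    · change x * (x⁻¹ * y * x) * x⁻¹ = y
      group
  · rintro ⟨w, hw, rfl⟩
    exact (mem_cent_conj h).1 hw

theorem perfect_conj {e c x : K} (h : x * e * x⁻¹ = c)
    (hp : ⁅centralizer ({c} : Set K), centralizer ({c} : Set K)⁆ = centralizer ({c} : Set K)) :
    ⁅centralizer ({e} : Set K), centralizer ({e} : Set K)⁆ = centralizer ({e} : Set K) := by
  have h' : x⁻¹ * c * x⁻¹⁻¹ = e := by rw [← h]; group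
  rw [cent_eq_map h', ← map_commutator, hp]

section

variable (C : Cov z π) {k : ℕ → K} (hk : Lifts π k) (S : Tb z k)

include C hk S

theorem cent_z (c : K) : centralizer ({c * z} : Set K) = centralizer ({c} : Set K) := by
  ext y
  rw [mem_centralizer_singleton_iff, mem_centralizer_singleton_iff]
  constructor
  · intro h
    have h1 : y * c * z = c * y * z := by
      calc y * c * z = y * (c * z) := by group
        _ = c * (z * y) := by rw [h]; group
        _ = c * y * z := by rw [C.zc]; group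
    exact mul_right_cancel h1
  · intro h
    calc y * (c * z) = y * c * z := by group
      _ = c * (y * z) := by rw [h]; group
      _ = c * z * y := by rw [← C.zc]; group

/-- the involutions of `K` -/
theorem inv_cases {e : K} (hee : e * e = 1) (he1 : e ≠ 1) (hez : e ≠ z) :
    ∃ x, x * e * x⁻¹ = k 10 ∨ x * e * x⁻¹ = k 10 * z := by
  have hp1 : (π e : GL6) ≠ 1 := by
    intro h
    rcases C.ker e (Subtype.ext h) with h | h
    · exact he1 h
    · exact hez h
  have hp2 : (π e : GL6) * π e = 1 := by rw [← Subgroup.coe_mul, ← map_mul, hee, map_one]; rfl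
  rcases conj_inv (π e).2 hp2 hp1 with ⟨g, hg, h⟩ | ⟨g, hg, h⟩
  · obtain ⟨x, hx⟩ := exists_lift C g hg
    refine ⟨x, eq_or' C ?_⟩
    rw [map_mul, map_mul, map_inv, Subgroup.coe_mul, Subgroup.coe_mul, Subgroup.coe_inv, hx, h,
      coe_k C hk S (by norm_num)]
    rfl
  · exfalso
    obtain ⟨x, hx⟩ := exists_lift C g hg
    have h1 : x * e * x⁻¹ = k 6 ∨ x * e * x⁻¹ = k 6 * z := by
      apply eq_or' C
      rw [map_mul, map_mul, map_inv, Subgroup.coe_mul, Subgroup.coe_mul, Subgroup.coe_inv, hx, h,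
        coe_k C hk S (by norm_num)]
      rfl
    have h2 : x * e * x⁻¹ * (x * e * x⁻¹) = 1 := by
      calc x * e * x⁻¹ * (x * e * x⁻¹) = x * (e * e) * x⁻¹ := by group
        _ = 1 := by rw [hee]; group
    have h6 := k6_sq C hk S
    rcases h1 with h1 | h1
    · rw [h1, h6] at h2; exact C.z1 h2
    · rw [h1] at h2
      have h3 : k 6 * z * (k 6 * z) = z := by
        calc k 6 * z * (k 6 * z) = k 6 * (z * k 6) * z := by group
          _ = k 6 * k 6 * (z * z) := by rw [C.zc]; group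
          _ = z := by rw [h6, C.zz, mul_one]
      rw [h3] at h2
      exact C.z1 h2

/-- the square roots of `z` in `K` -/
theorem root_cases {v : K} (hv : v * v = z) : ∃ x, x * v * x⁻¹ = k 6 ∨ x * v * x⁻¹ = k 6 * z := by
  have hp1 : (π v : GL6) ≠ 1 := by
    intro h
    rcases C.ker v (Subtype.ext h) with h | h
    · rw [h, one_mul] at hv; exact C.z1 hv.symm
    · rw [h, C.zz] at hv; exact C.z1 hv.symm
  have hp2 : (π v : GL6) * π v = 1 := by rw [← Subgroup.coe_mul, ← map_mul, hv, C.pz]; rfl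
  rcases conj_inv (π v).2 hp2 hp1 with ⟨g, hg, h⟩ | ⟨g, hg, h⟩
  · exfalso
    obtain ⟨x, hx⟩ := exists_lift C g hg
    have h1 : x * v * x⁻¹ = k 10 ∨ x * v * x⁻¹ = k 10 * z := by
      apply eq_or' C
      rw [map_mul, map_mul, map_inv, Subgroup.coe_mul, Subgroup.coe_mul, Subgroup.coe_inv, hx, h,
        coe_k C hk S (by norm_num)]
      rfl
    have h2 : x * v * x⁻¹ * (x * v * x⁻¹) = z := by
      calc x * v * x⁻¹ * (x * v * x⁻¹) = x * (v * v) * x⁻¹ := by group
        _ = z := by rw [hv, ← C.zc]; group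
    have h10 := k10_sq C hk S
    rcases h1 with h1 | h1
    · rw [h1, h10] at h2; exact C.z1 h2.symm
    · rw [h1] at h2
      have h3 : k 10 * z * (k 10 * z) = 1 := by
        calc k 10 * z * (k 10 * z) = k 10 * (z * k 10) * z := by group
          _ = k 10 * k 10 * (z * z) := by rw [C.zc]; group
          _ = 1 := by rw [h10, C.zz, mul_one]
      rw [h3] at h2
      exact C.z1 h2.symm
  · obtain ⟨x, hx⟩ := exists_lift C g hg
    refine ⟨x, eq_or' C ?_⟩
    rw [map_mul, map_mul, map_inv, Subgroup.coe_mul, Subgroup.coe_mul, Subgroup.coe_inv, hx, h,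
      coe_k C hk S (by norm_num)]
    rfl

theorem conj_inv_K {e e' : K} (hee : e * e = 1) (he1 : e ≠ 1) (hez : e ≠ z) (hee' : e' * e' = 1)
    (he1' : e' ≠ 1) (hez' : e' ≠ z) : ∃ x : K, x * e * x⁻¹ = e' ∨ x * e * x⁻¹ = e' * z := by
  obtain ⟨x, hx⟩ := inv_cases C hk S hee he1 hez
  obtain ⟨y, hy⟩ := inv_cases C hk S hee' he1' hez'
  refine ⟨y⁻¹ * x, ?_⟩
  have h0 : y⁻¹ * x * e * (y⁻¹ * x)⁻¹ = y⁻¹ * (x * e * x⁻¹) * y := by group
  have hz : ∀ w : K, y⁻¹ * (w * z) * y = y⁻¹ * w * y * z := by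
    intro w
    calc y⁻¹ * (w * z) * y = y⁻¹ * w * (z * y) := by group
      _ = _ := by rw [C.zc]; group
  have hc : ∀ w : K, y * e' * y⁻¹ = w → y⁻¹ * w * y = e' := by
    intro w hw; rw [← hw]; group
  rw [h0]
  rcases hx with hx | hx <;> rcases hy with hy | hy
  · left; rw [hx]; exact hc _ hy
  · right
    rw [hx]
    have h1 := hc _ hy
    rw [hz] at h1
    calc y⁻¹ * k 10 * y = y⁻¹ * k 10 * y * (z * z) := by rw [C.zz, mul_one]
      _ = _ := by rw [← mul_assoc, h1]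
  · right; rw [hx, hz, hc _ hy]
  · left; rw [hx]; exact hc _ hy

theorem cperf_K {e : K} (hee : e * e = 1) (he1 : e ≠ 1) (hez : e ≠ z) :
    ⁅centralizer ({e} : Set K), centralizer ({e} : Set K)⁆ = centralizer ({e} : Set K) := by
  obtain ⟨x, hx | hx⟩ := inv_cases C hk S hee he1 hez
  · exact perfect_conj hx (perfect10 C hk S)
  · refine perfect_conj hx ?_
    rw [cent_z C hk S]
    exact perfect10 C hk S

theorem label_K {e : K} (hee : e * e = 1) (he1 : e ≠ 1) (hez : e ≠ z)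
    (θ : centralizer ({e} : Set K) ≃* centralizer ({e} : Set K)) :
    ((θ ⟨e, mem_centralizer_singleton_iff.2 rfl⟩ : centralizer ({e} : Set K)) : K) ≠ z := by
  intro hθ
  obtain ⟨x, hx⟩ := inv_cases C hk S hee he1 hez
  obtain ⟨c, hc⟩ : ∃ c, x * e * x⁻¹ = c := ⟨_, rfl⟩
  rw [hc] at hx
  have hcP : centralizer ({c} : Set K) = pre π P := by
    rcases hx with h | h
    · rw [h, cent10_eq C hk S]
    · rw [h, cent_z C hk S, cent10_eq C hk S]
  have hmem : ∀ y, y ∈ centralizer ({e} : Set K) ↔ x * y * x⁻¹ ∈ pre π P := by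
    intro y; rw [← hcP]; exact mem_cent_conj hc
  -- the isomorphism
  let φ : centralizer ({e} : Set K) ≃* pre π P :=
    { toFun := fun y => ⟨x * y * x⁻¹, (hmem y).1 y.2⟩
      invFun := fun y => ⟨x⁻¹ * y * x, (hmem _).2 (by
        have : x * (x⁻¹ * (y : K) * x) * x⁻¹ = y := by group
        rw [this]; exact y.2)⟩
      left_inv := fun y => Subtype.ext (by
        change x⁻¹ * (x * (y : K) * x⁻¹) * x = y
        group)
      right_inv := fun y => Subtype.ext (by
        change x * (x⁻¹ * (y : K) * x) * x⁻¹ = y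
        group)
      map_mul' := fun a b => Subtype.ext (by
        change x * ((a : K) * b) * x⁻¹ = x * a * x⁻¹ * (x * b * x⁻¹)
        group) }
  have hcm : c ∈ pre π P := by
    rw [← hcP]; exact mem_centralizer_singleton_iff.2 rfl
  refine label C hk S hx ((φ.symm.trans θ).trans φ) hcm ?_
  have h1 : φ.symm ⟨c, hcm⟩ = ⟨e, mem_centralizer_singleton_iff.2 rfl⟩ := Subtype.ext (by
    change x⁻¹ * c * x = e
    rw [← hc]; group)
  change ((φ (θ (φ.symm ⟨c, hcm⟩)) : pre π P) : K) = z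
  rw [h1]
  change x * ((θ ⟨e, mem_centralizer_singleton_iff.2 rfl⟩ : centralizer ({e} : Set K)) : K) * x⁻¹ = z
  rw [hθ, ← C.zc]; group

theorem root_K {v : K} (hv : v * v = z) : ∃ W : Subgroup K, ⁅W, W⁆ = W ∧ z ∈ W ∧ ∀ w ∈ W, w * v = v * w := by
  obtain ⟨W, hW, hzW, hc⟩ := root6 C hk S
  obtain ⟨x, hx⟩ := root_cases C hk S hv
  refine ⟨W.map (MulAut.conj x⁻¹).toMonoidHom, ?_, ?_, ?_⟩
  · rw [← map_commutator, hW]
  · exact ⟨z, hzW, by change x⁻¹ * z * x⁻¹⁻¹ = z; rw [← C.zc]; group⟩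
  · rintro _ ⟨w, hw, rfl⟩
    change x⁻¹ * w * x⁻¹⁻¹ * v = v * (x⁻¹ * w * x⁻¹⁻¹)
    have h1 : w * (x * v * x⁻¹) = x * v * x⁻¹ * w := by
      rcases hx with h | h
      · rw [h]; exact hc w hw
      · rw [h]
        calc w * (k 6 * z) = w * k 6 * z := by group
          _ = k 6 * (w * z) := by rw [hc w hw]; group
          _ = k 6 * z * w := by rw [← C.zc]; group
    calc x⁻¹ * w * x⁻¹⁻¹ * v = x⁻¹ * (w * (x * v * x⁻¹)) * x := by group
      _ = x⁻¹ * (x * v * x⁻¹ * w) * x := by rw [h1]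
      _ = _ := by group

end

/-! ### Automorphisms -/

theorem center_L {c : L} (hc : ∀ x : L, c * x = x * c) : c = 1 :=
  Cfsg.Agent.GTwoFour.RedAut.center_triv Cfsg.Agent.StdG24.Ax6.ax6 hc

theorem cen_K (C : Cov z π) {x : K} (hx : ∀ y, x * y = y * x) : x = 1 ∨ x = z := by
  apply C.ker
  apply center_L
  intro y
  obtain ⟨w, rfl⟩ := C.surj y
  rw [← map_mul, ← map_mul, hx]

theorem aut_z (C : Cov z π) (α : MulAut K) : α z = z := by
  have h1 : ∀ y, α z * y = y * α z := by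
    intro y
    obtain ⟨w, rfl⟩ := α.surjective y
    rw [← map_mul, ← map_mul, C.zc]
  rcases cen_K C h1 with h | h
  · exact absurd (α.injective (h.trans (map_one α).symm)) C.z1
  · exact h

/-- the automorphism of `L` induced by an automorphism of `K` -/
theorem exists_induced (C : Cov z π) (α : MulAut K) : ∃ β : MulAut L, ∀ x, β (π x) = π (α x) := by
  have hker : ∀ (γ : MulAut K) (x y : K), π x = π y → π (γ x) = π (γ y) := by
    intro γ x y h
    rcases C.eq_or h with h1 | h1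
    · rw [h1]
    · rw [h1, map_mul, aut_z C γ, map_mul, C.pz, mul_one]
  obtain ⟨f, hf⟩ : ∃ f : MulAut K → L → L, ∀ γ x, f γ (π x) = π (γ x) :=
    ⟨fun γ y => π (γ (C.surj y).choose), fun γ x => hker γ _ _ (C.surj (π x)).choose_spec⟩
  refine ⟨{ toFun := f α, invFun := f α⁻¹, left_inv := ?_, right_inv := ?_, map_mul' := ?_ }, hf α⟩
  · intro y
    obtain ⟨x, rfl⟩ := C.surj y
    rw [hf, hf, MulAut.inv_apply_self]
  · intro y
    obtain ⟨x, rfl⟩ := C.surj y
    rw [hf, hf, MulAut.apply_inv_self]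
  · intro y y'
    obtain ⟨x, rfl⟩ := C.surj y
    obtain ⟨x', rfl⟩ := C.surj y'
    rw [← map_mul, hf, hf, hf, map_mul, map_mul]

/-- an automorphism of a perfect cover trivial on the quotient is trivial -/
theorem eq_one_of_induced (C : Cov z π) (hp : commutator K = ⊤) {α : MulAut K}
    (h : ∀ x, π (α x) = π x) : ∀ x, α x = x := by
  have h1 : ∀ x, ∃ c : K, (∀ y, c * y = y * c) ∧ α x = x * c := by
    intro x
    rcases C.eq_or (h x) with h2 | h2
    · exact ⟨1, fun y => by rw [one_mul, mul_one], by rw [h2, mul_one]⟩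
    · exact ⟨z, C.zc, h2⟩
  have h2 : (⊤ : Subgroup K) ≤ (MonoidHom.eqLocus α.toMonoidHom (MonoidHom.id K)) := by
    rw [← hp, commutator_def, commutator_le]
    intro x _ y _
    obtain ⟨c, hc, hcx⟩ := h1 x
    obtain ⟨d, hd, hdy⟩ := h1 y
    change α ⁅x, y⁆ = ⁅x, y⁆
    rw [map_commutatorElement, hcx, hdy]
    exact Cfsg.Agent.McLLyComp.CoverMT.comm_mul hc hd
  exact fun x => h2 (mem_top x)

/-- an automorphism inducing an inner automorphism is inner -/
theorem inner_of_induced (C : Cov z π) (hp : commutator K = ⊤) {α : MulAut K} {c : K}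
    (h : ∀ x, π (α x) = π c * π x * (π c)⁻¹) : α = MulAut.conj c := by
  have h1 := eq_one_of_induced C hp (α := (MulAut.conj c)⁻¹ * α) (by
    intro x
    have h2 : ((MulAut.conj c)⁻¹ * α) x = c⁻¹ * α x * c := by
      rw [MulAut.mul_apply, ← map_inv, MulAut.conj_apply, inv_inv]
    rw [h2, map_mul, map_mul, h, map_inv]
    group)
  ext x
  have h3 := h1 x
  rw [MulAut.mul_apply] at h3
  have h4 := congrArg (MulAut.conj c) h3
  rwa [MulAut.apply_inv_self] at h4

/-- the inputs on automorphisms of `L = G₂(4)` -/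
structure AutL (sg : MulAut L) : Prop where
  sg0 : ∀ r : Fin 12, sg ⟨gx r 0, gx_mem r 0⟩ = ⟨gx r 0, gx_mem r 0⟩
  sg1 : ∀ r : Fin 12, sg ⟨gx r 1, gx_mem r 1⟩ = ⟨gx r 2, gx_mem r 2⟩
  outer_conj : ∀ b : MulAut L, (∀ x, b (b x) = x) → (¬ ∃ c, ∀ x, b x = c * x * c⁻¹) →
    ∃ g : L, ∀ x, b x = g * sg (g⁻¹ * x * g) * g⁻¹
  sq_inner : ∀ b : MulAut L, ∃ c, ∀ x, b (b x) = c * x * c⁻¹
  /-- `SL₃(2)` -/
  sub : ∃ Y : Subgroup L, ⁅Y, Y⁆ = Y ∧ (∀ y ∈ Y, sg y = y) ∧ (⟨gx 6 0, gx_mem 6 0⟩ : L) ∈ Y ∧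
    (⟨gx 10 0, gx_mem 10 0⟩ : L) ∈ Y

theorem exp2_K (C : Cov z π) (hp : commutator K = ⊤) {sg : MulAut L} (A : AutL sg) (α : MulAut K) :
    ∃ c, α * α = MulAut.conj c := by
  obtain ⟨β, hβ⟩ := exists_induced C α
  obtain ⟨c, hc⟩ := A.sq_inner β
  obtain ⟨d, rfl⟩ := C.surj c
  refine ⟨d, inner_of_induced C hp fun x => ?_⟩
  rw [MulAut.mul_apply, ← hβ, ← hβ, hc]

section

variable (C : Cov z π) {k : ℕ → K} (hk : Lifts π k) (S : Tb z k) {sg : MulAut L} (A : AutL sg)

include C hk S A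

/-- the case of an automorphism inducing the field automorphism -/
theorem out_sg (hp : commutator K = ⊤) {α : MulAut K} (hα : ∀ x, α (α x) = x)
    (hs : ∀ x, π (α x) = sg (π x)) :
    ∃ c, α c * c⁻¹ ≠ 1 ∧ ∃ W : Subgroup K, ⁅W, W⁆ = W ∧ (∀ w ∈ W, α w = w) ∧ α c * c⁻¹ ∈ W := by
  have hgen : ∀ i < 12, π (k i) = ⟨gx (rt i) (tt i), gx_mem _ _⟩ := fun i hi => hk.lift i hi
  -- the perfect subgroup
  obtain ⟨Y, hY, hYs, h6, h10⟩ := A.sub
  have hW' : ∀ x ∈ Y.comap π, α x = x ∨ α x = x * z := by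
    intro x hx
    apply C.eq_or
    rw [hs, hYs _ hx]
  set B : Subgroup K := Y.comap π with hB
  set W : Subgroup K := ⁅B, B⁆ with hW
  have hBW : ∀ x ∈ B, ∃ w ∈ W, ∃ c : K, (∀ y, c * y = y * c) ∧ x = w * c := by
    intro x hx
    have h1 : (π x) ∈ (⁅B, B⁆ : Subgroup K).map π := by
      rw [map_commutator, map_comap_eq_self_of_surjective C.surj, hY]; exact hx
    obtain ⟨w, hw, hwx⟩ := h1
    rcases C.eq_or hwx.symm with h | h
    · exact ⟨w, hw, 1, fun y => by rw [one_mul, mul_one], by rw [mul_one]; exact h⟩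
    · exact ⟨w, hw, z, C.zc, h⟩
  have hWp : ⁅W, W⁆ = W := by
    refine le_antisymm (commutator_le_self _) ?_
    rw [hW, commutator_le]
    intro x hx y hy
    obtain ⟨w, hw, c, hc, rfl⟩ := hBW x hx
    obtain ⟨v, hv, d, hd, rfl⟩ := hBW y hy
    rw [Cfsg.Agent.McLLyComp.CoverMT.comm_mul hc hd]
    exact commutator_mem_commutator hw hv
  have hWα : ∀ w ∈ W, α w = w := by
    have h1 : W ≤ MonoidHom.eqLocus α.toMonoidHom (MonoidHom.id K) := by
      rw [hW, commutator_le]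
      intro x hx y hy
      change α ⁅x, y⁆ = ⁅x, y⁆
      rw [map_commutatorElement]
      have h2 : ∀ x ∈ B, ∃ c : K, (∀ y, c * y = y * c) ∧ α x = x * c := by
        intro x hx
        rcases hW' x hx with h | h
        · exact ⟨1, fun y => by rw [one_mul, mul_one], by rw [mul_one]; exact h⟩
        · exact ⟨z, C.zc, h⟩
      obtain ⟨c, hc, hcx⟩ := h2 x hx
      obtain ⟨d, hd, hdy⟩ := h2 y hy
      rw [hcx, hdy]
      exact Cfsg.Agent.McLLyComp.CoverMT.comm_mul hc hd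
    exact fun w hw => h1 hw
  -- `k 10 ∈ W`
  have c1 := cm0 S (i := 2) (l := 8) (A := [10]) (by norm_num) rfl
  simp only [vl_cons, vl_nil, mul_one] at c1
  have hk10 : ⁅k 8, k 2⁆ = k 10 := by
    have ha := (k10_comm C hk S (i := 2) (by norm_num)).symm
    have hb := (k10_comm C hk S (i := 8) (by norm_num)).symm
    have h3 : k 2 * k 8 * k 10 = k 10 * (k 2 * k 8) := by
      rw [← mul_assoc (k 10), ha, mul_assoc (k 2) (k 10), hb, ← mul_assoc]
    rw [commutatorElement_def, c1, h3]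
    group
  have m8 : k 8 ∈ B := by
    rw [hB, mem_comap, hgen 8 (by norm_num)]; exact h10
  have m2 : k 2 ∈ B := by
    rw [hB, mem_comap, hgen 2 (by norm_num)]; exact h6
  have m10 : k 10 ∈ W := by rw [← hk10]; exact commutator_mem_commutator m8 m2
  have hk10ne : k 10 ≠ 1 := by
    intro h
    have h1 := coe_k C hk S (i := 10) (by norm_num)
    rw [h, map_one] at h1
    exact gx_ne _ _ h1.symm
  -- the action on `k 11`
  have hX : ∀ r : Fin 12, gx r 2 = gx r 0 * gx r 1 := by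
    intro r
    have h6 : cw [(r, 2)] = cw [(r, 0), (r, 1)] := by revert r; decide +kernel
    have := ev_eq_of h6
    rw [ev_singleton] at this
    rw [this, show [(r, (0 : Fin 3)), (r, 1)] = [(r, 0)] ++ [(r, 1)] from rfl, ev_append,
      ev_singleton, ev_singleton]
  have hsg2 : ∀ i, i + 1 < 12 → rt (i + 1) = rt i → tt i = 0 → tt (i + 1) = 1 →
      α (k (i + 1)) = k i * k (i + 1) ∨ α (k (i + 1)) = k i * k (i + 1) * z := by
    intro i hi h1 h2 h3
    apply C.eq_or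
    rw [hs, map_mul, hgen i (by omega), hgen (i + 1) hi]
    have h4 : (⟨gx (rt (i + 1)) (tt (i + 1)), gx_mem _ _⟩ : L) = ⟨gx (rt i) 1, gx_mem _ _⟩ := by
      apply Subtype.ext
      change gx (rt (i + 1)) (tt (i + 1)) = gx (rt i) 1
      rw [h1, h3]
    have h5 : (⟨gx (rt i) (tt i), gx_mem _ _⟩ : L) = ⟨gx (rt i) 0, gx_mem _ _⟩ := by
      apply Subtype.ext
      change gx (rt i) (tt i) = gx (rt i) 0
      rw [h2]
    rw [h4, h5, A.sg1]
    apply Subtype.ext
    exact hX (rt i)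
  have hsg0 : ∀ i, i < 12 → tt i = 0 → α (k i) = k i ∨ α (k i) = k i * z := by
    intro i hi h2
    apply C.eq_or
    rw [hs, hgen i hi]
    have h5 : (⟨gx (rt i) (tt i), gx_mem _ _⟩ : L) = ⟨gx (rt i) 0, gx_mem _ _⟩ := by
      apply Subtype.ext
      change gx (rt i) (tt i) = gx (rt i) 0
      rw [h2]
    rw [h5, A.sg0]
  -- `α (k 6) = k 6 z`
  have h66 := k6_sq C hk S
  have h6z : α (k 6) = k 6 * z := by
    have hz := aut_z C α
    have h7 := hsg2 6 (by norm_num) rfl rfl rfl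
    have h8 : k 7 = α (k 6) * k 6 * k 7 := by
      rcases h7 with h7 | h7
      · calc k 7 = α (α (k 7)) := (hα _).symm
          _ = α (k 6) * (k 6 * k 7) := by rw [h7, map_mul, h7]
          _ = _ := by group
      · calc k 7 = α (α (k 7)) := (hα _).symm
          _ = α (k 6) * (k 6 * k 7 * z) * z := by rw [h7, map_mul, map_mul, h7, hz]
          _ = α (k 6) * k 6 * k 7 * (z * z) := by group
          _ = _ := by rw [C.zz, mul_one]
    have h9 : α (k 6) * k 6 = 1 := mul_eq_right.1 h8.symm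
    calc α (k 6) = α (k 6) * (k 6 * (k 6 * z)) := by rw [← mul_assoc (k 6), h66, C.zz, mul_one]
      _ = α (k 6) * k 6 * (k 6 * z) := by group
      _ = k 6 * z := by rw [h9, one_mul]
  have s11 : k 11 * k 11 = 1 := sq0 S rfl
  rcases hsg2 10 (by norm_num) rfl rfl rfl with h11 | h11
  · refine ⟨k 11, ?_, W, hWp, hWα, ?_⟩
    · rw [h11, mul_inv_cancel_right]; exact hk10ne
    · rw [h11, mul_inv_cancel_right]; exact m10
  · have h12 : α (k 11 * k 6) * (k 11 * k 6)⁻¹ = k 10 := by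
      rw [map_mul, h11, h6z]
      calc k 10 * k 11 * z * (k 6 * z) * (k 11 * k 6)⁻¹
          = k 10 * k 11 * (z * k 6) * z * (k 6)⁻¹ * (k 11)⁻¹ := by group
        _ = k 10 * k 11 * k 6 * (z * z) * (k 6)⁻¹ * (k 11)⁻¹ := by rw [C.zc]; group
        _ = k 10 := by rw [C.zz]; group
    refine ⟨k 11 * k 6, ?_, W, hWp, hWα, ?_⟩
    · rw [h12]; exact hk10ne
    · rw [h12]; exact m10

theorem out_K (hp : commutator K = ⊤) {α : MulAut K} (hα : ∀ x, α (α x) = x)
    (ho : ∀ c, α ≠ MulAut.conj c) :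
    ∃ c, α c * c⁻¹ ≠ 1 ∧ ∃ W : Subgroup K, ⁅W, W⁆ = W ∧ (∀ w ∈ W, α w = w) ∧ α c * c⁻¹ ∈ W := by
  obtain ⟨β, hβ⟩ := exists_induced C α
  have h1 : ∀ x, β (β x) = x := by
    intro x
    obtain ⟨y, rfl⟩ := C.surj x
    rw [hβ, hβ, hα]
  have h2 : ¬ ∃ c, ∀ x, β x = c * x * c⁻¹ := by
    rintro ⟨c, hc⟩
    obtain ⟨d, rfl⟩ := C.surj c
    exact ho d (inner_of_induced C hp fun x => by rw [← hβ, hc])
  obtain ⟨g, hg⟩ := A.outer_conj β h1 h2
  obtain ⟨y, rfl⟩ := C.surj g
  set γ : MulAut K := (MulAut.conj y)⁻¹ * α * MulAut.conj y with hγ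
  have hγx : ∀ x, γ x = y⁻¹ * α (y * x * y⁻¹) * y := by
    intro x
    rw [hγ, MulAut.mul_apply, MulAut.mul_apply, ← map_inv, MulAut.conj_apply, MulAut.conj_apply, inv_inv]
  obtain ⟨c, hc1, W, hW, hWγ, hcW⟩ := out_sg C hk S A hp (α := γ) (by
    intro x
    rw [hγx, hγx]
    have : y * (y⁻¹ * α (y * x * y⁻¹) * y) * y⁻¹ = α (y * x * y⁻¹) := by group
    rw [this, hα]
    group) (by
    intro x
    have e0 : π (y * x * y⁻¹) = π y * π x * (π y)⁻¹ := by rw [map_mul, map_mul, map_inv]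
    have e1 : π (α (y * x * y⁻¹)) = β (π y * π x * (π y)⁻¹) := by rw [← hβ, e0]
    have e2 : (π y)⁻¹ * (π y * π x * (π y)⁻¹) * π y = π x := by group
    rw [hγx, map_mul, map_mul, map_inv, e1, hg, e2]
    group)
  have h3 : α (y * c * y⁻¹) * (y * c * y⁻¹)⁻¹ = y * (γ c * c⁻¹) * y⁻¹ := by
    rw [hγx]; group
  refine ⟨y * c * y⁻¹, ?_, W.map (MulAut.conj y).toMonoidHom, ?_, ?_, ?_⟩
  · rw [h3]
    intro h
    apply hc1
    calc γ c * c⁻¹ = y⁻¹ * (y * (γ c * c⁻¹) * y⁻¹) * y := by group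
      _ = 1 := by rw [h]; group
  · rw [← map_commutator, hW]
  · rintro _ ⟨w, hw, rfl⟩
    change α (y * w * y⁻¹) = y * w * y⁻¹
    have h4 := hWγ w hw
    rw [hγx] at h4
    calc α (y * w * y⁻¹) = y * (y⁻¹ * α (y * w * y⁻¹) * y) * y⁻¹ := by group
      _ = _ := by rw [h4]
  · rw [h3]
    exact ⟨_, hcW, rfl⟩

end

/-- **The facts on perfect double covers of `G₂(4)`.** -/
theorem kfacts (C : Cov z π) (hp : commutator K = ⊤) {sg : MulAut L} (A : AutL sg) :
    Def.KFacts z := by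
  obtain ⟨k, hk, S⟩ := exists_table_true C hp
  exact
    { zz := C.zz
      z1 := C.z1
      zc := fun y => (C.zc y).symm
      cen := fun x hx => cen_K C hx
      perf := hp
      conj := fun e e' h1 h2 h3 h4 h5 h6 => conj_inv_K C hk S h1 h2 h3 h4 h5 h6
      cperf := fun e h1 h2 h3 => cperf_K C hk S h1 h2 h3
      label := fun e h1 h2 h3 θ => label_K C hk S h1 h2 h3 θ
      root := fun v hv => root_K C hk S hv
      out := fun α h1 h2 => out_K C hk S A hp h1 h2
      exp2 := fun α => exp2_K C hp A α }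

end Cfsg.Agent.OddHalf.D9.G24.KFacts

end

private theorem dce_457a65571c85 : _root_.True := by
  try have : _root_.True := by simp only [_root_.Cfsg.Agent.OddHalf.D9.G24.Collect.zb.eq_1]
  try have : _root_.True := by simp only [_root_.Cfsg.Agent.OddHalf.D9.G24.InvL.na.eq_1]
  try have : _root_.True := by simp only [_root_.Cfsg.Agent.OddHalf.D9.G24.Collect.dot.eq_2]
  try have : _root_.True := by simp only [_root_.Cfsg.Agent.OddHalf.D9.G24.Collect.xorSel.eq_def]
  try have : _root_.True := by simp only [_root_.Cfsg.Agent.OddHalf.D9.G24.Collect.V.eq_1]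
  try have : _root_.True := by simp only [_root_.Cfsg.Agent.OddHalf.D9.G24.Collect.VV.eq_1]
  try have : _root_.True := by simp only [_root_.Cfsg.Agent.OddHalf.D9.G24.InvL.nb.eq_1]
  try have : _root_.True := by simp only [_root_.Cfsg.Agent.OddHalf.D9.G24.Collect.vl.eq_1]
  try have : _root_.True := by simp only [_root_.Cfsg.Agent.OddHalf.D9.G24.Split.UK.eq_1]
  try have : _root_.True := by simp only [_root_.Cfsg.Agent.OddHalf.D9.G24.Inner.img.eq_1]
  try have : _root_.True := by simp only [_root_.Cfsg.Agent.OddHalf.D9.G24.Cover.sg.eq_1]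
  try have : _root_.True := by simp only [_root_.Cfsg.Agent.OddHalf.D9.G24.Tab.T0.eq_1]
  try have : _root_.True := by simp only [_root_.Cfsg.Agent.OddHalf.D9.G24.Split.A.eq_1]
  try have : _root_.True := by simp only [_root_.Cfsg.Agent.OddHalf.D9.G24.Collect.dot.eq_1]
  try have : _root_.True := by simp only [_root_.Cfsg.Agent.OddHalf.D9.G24.Tab.am.eq_1]
  try have : _root_.True := by simp only [_root_.Cfsg.Agent.OddHalf.D9.G24.Tab.W.eq_1]
  try have : _root_.True := by simp only [_root_.Cfsg.Agent.OddHalf.D9.G24.Split.U.eq_1]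
  try have : _root_.True := by simp only [_root_.Cfsg.Agent.OddHalf.D9.G24.Tab.gw.eq_1]
  try have : _root_.True := by simp only [_root_.Cfsg.Agent.OddHalf.D9.G24.Collect.dot.eq_def]
  exact _root_.True.intro
end

-- part: OddHalf/D9/G24/Row_mg
section
prune_inst 0x1000000122000000180000200000401000000000000000004000000000004020000000206002000000885020040000030800000210000020000800480401a00000020090480000000000008000000000000000000000000000000000000000000000000
set_option linter.all false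
open scoped Cfsg.Agent.FastGrp

-- part: OddHalf/D9/G24/Row
section
-- merged: Cfsg.Agent.OddHalf.D9.G24.Glue
section

/-!
# From `K / Z(K) ≅ G₂(4)`, `|Z(K)| = 2` to the model
-/

set_option autoImplicit false

namespace Cfsg.Agent.OddHalf.D9.G24.Glue

open Subgroup
open Cfsg.Agent.StdG24.Mod6 Cfsg.Agent.OddHalf.D9.G24.Cover

universe u

/-- a group with centre of order two and central quotient `G₂(4)` -/
theorem exists_cov {K : Type u} [Group K] (hc : Nat.card ↥(center K) = 2)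
    (hX : Cut.XG24 (K ⧸ center K)) : ∃ (z : K) (π : K →* L), Cov z π ∧ ∀ x, π x = 1 ↔ x ∈ center K := by
  obtain ⟨F, i1, i2, hF, ⟨e⟩⟩ := hX
  obtain ⟨f⟩ := Cfsg.Agent.StdG24.Iso6.equiv_chev F hF
  let π : K →* L := (e.trans f.symm).toMonoidHom.comp (QuotientGroup.mk' (center K))
  have hπ : ∀ x, π x = 1 ↔ x ∈ center K := by
    intro x
    change (e.trans f.symm) (QuotientGroup.mk' (center K) x) = 1 ↔ _
    rw [map_eq_one_iff _ (e.trans f.symm).injective]
    exact QuotientGroup.eq_one_iff x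
  have hcc : (center K : Set K).ncard = 2 := hc
  obtain ⟨a, b, hab, hs⟩ := Set.ncard_eq_two.1 hcc
  -- the nontrivial element
  obtain ⟨z, hz1, hz⟩ : ∃ z : K, z ≠ 1 ∧ (center K : Set K) = {1, z} := by
    have h1 : (1 : K) ∈ (center K : Set K) := one_mem _
    rw [hs] at h1
    rcases h1 with h | h
    · exact ⟨b, fun hb => hab (h.symm.trans hb.symm), by rw [hs, ← h]⟩
    · have h' : (1 : K) = b := h
      exact ⟨a, fun ha => hab (ha.trans h'), by rw [hs, ← h', Set.pair_comm]⟩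
  have hzc : z ∈ center K := by
    have : z ∈ (center K : Set K) := by rw [hz]; exact Or.inr rfl
    exact this
  refine ⟨z, π, ⟨?_, (hπ z).2 hzc, ?_, hz1, fun x => (mem_center_iff.1 hzc x).symm⟩, hπ⟩
  · intro y
    obtain ⟨x, hx⟩ := QuotientGroup.mk'_surjective (center K) ((e.trans f.symm).symm y)
    exact ⟨x, by change (e.trans f.symm) (QuotientGroup.mk' (center K) x) = y; rw [hx]; simp⟩
  · intro x hx
    have h1 : x ∈ (center K : Set K) := (hπ x).1 hx
    rw [hz] at h1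
    exact h1

/-- **The K-facts of a perfect group with centre of order two and central quotient `G₂(4)`.** -/
theorem exists_kfacts {K : Type u} [Group K] (hc : Nat.card ↥(center K) = 2)
    (hX : Cut.XG24 (K ⧸ center K)) (hp : commutator K = ⊤) {sg : MulAut L} (A : KFacts.AutL sg) :
    ∃ z : K, z ∈ center K ∧ Def.KFacts z := by
  obtain ⟨z, π, C, hπ⟩ := exists_cov hc hX
  exact ⟨z, (hπ z).1 C.pz, KFacts.kfacts C hp A⟩

end Cfsg.Agent.OddHalf.D9.G24.Glue

end

-- merged: Cfsg.Agent.OddHalf.D9.AmbOf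
section

/-!
# D9: the frame `M12Glue.Amb` from `Ctx`, `Std`, `Cyc`

`amb_of`: `K` standard of maximal order, `C(K)` with cyclic Sylow 2-subgroups, `z` an involution of `Z(K)`:
`K ⊴ C(z)`, `C(K)` is a cyclic 2-group whose involution is `z`.
`row_two`: a row of D9 with `|Z(K)| = 2` from a `K`-free kill and facts on `K`.
-/

set_option autoImplicit false

namespace Cfsg.Agent.OddHalf.D9.AmbOf

open Subgroup Cfsg Cfsg.Agent.OddHalf.Iface Cfsg.Agent.OddHalf.Front.FE Cfsg.Agent.OddHalf.D9.M12Glue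

universe u

variable {G : Type u} [Group G]

theorem start_eq [Finite G] {K : Subgroup G} {t q z : G} (h : Start0 K t q) (hzK : z ∈ K)
    (hz : ∀ k ∈ K, k * z = z * k) (hz1 : z ≠ 1) (hzz : z * z = 1) : z = t :=
  h.uniq (h.cK z (h.Kt z hzK) hz) hzz hz1

theorem amb_of_start [Finite G] {K : Subgroup G} {z q : G} (h : Start0 K z q) (hzK : z ∈ K) : Amb z K := by
  have hr : ∀ r : G, (∀ k ∈ K, r * k = k * r) → r ∈ zpowers q := fun r hr =>
    h.cK r (hr z hzK) fun x hx => (hr x hx).symm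
  refine ⟨hzK, ?_, ?_, ?_, ?_⟩
  · intro x hx k hk
    exact (mem_normalizer_iff.1 (h.nK x hx) k).1 hk
  · intro r hrK
    obtain ⟨n, hn⟩ := h.pQ ⟨r, hr r hrK⟩
    exact ⟨n, congrArg Subtype.val hn⟩
  · intro r hrK hrr
    by_cases h1 : r = 1
    · exact Or.inl h1
    · exact Or.inr (h.uniq (hr r hrK) hrr h1)
  · intro r s hrK hsK
    obtain ⟨a, rfl⟩ := mem_zpowers_iff.1 (hr r hrK)
    obtain ⟨b, rfl⟩ := mem_zpowers_iff.1 (hr s hsK)
    rw [← zpow_add, ← zpow_add, add_comm]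

/-- **The frame.** -/
theorem amb_of (C : Ctx G) {K : Subgroup G} (S : Std0 G K) (hc : Cyc K) {z : G} (hzK : z ∈ K)
    (hz : ∀ k ∈ K, k * z = z * k) (hz1 : z ≠ 1) (hzz : z * z = 1) : Amb z K := by
  have := C.fin
  obtain ⟨t, q, h⟩ := exists_start0 C S hc
  obtain rfl := start_eq h hzK hz hz1 hzz
  exact amb_of_start h hzK

/-- `K` is quasisimple -/
theorem quasisimple {K : Subgroup G} (S : Std0 G K) : IsQuasisimple ↥K := S.std.1

/-- **Rows with `|Z(K)| = 2`**: `F K z` are facts on `K` (for an involution `z ∈ Z(K)`), `kill` a contradiction at the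
level of `G`. -/
theorem row_two (P : (X : Type u) → [Group X] → Prop) (F : (K : Type u) → [Group K] → K → Prop)
    (facts : ∀ (K : Type u) [Group K] [Finite K], IsQuasisimple K → Nat.card ↥(center K) = 2 →
      P (K ⧸ center K) → ∀ z : K, z ≠ 1 → z * z = 1 → (∀ y, z * y = y * z) → F K z)
    (kill : ∀ (G : Type u) [Group G], Ctx G → ∀ (K : Subgroup G) (z : G) (A : Amb z K),
      F ↥K ⟨z, A.zK⟩ → False) : Cut.Row.{u} (fun K _ => Cut.Two P K) := by
  intro G _ C K S hc ⟨h2, hP⟩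
  have := C.fin
  obtain ⟨⟨z, hz⟩, hz1, hzu⟩ := Nat.card_eq_two_iff' (1 : ↥(center ↥K)) |>.1 h2
  have hzc : ∀ y, z * y = y * z := fun y => (mem_center_iff.1 hz y).symm
  have hz1' : z ≠ 1 := fun h => hz1 (Subtype.ext h)
  have hzz : z * z = 1 := by
    by_contra hne
    have h3 := hzu (⟨z, hz⟩ * ⟨z, hz⟩) (fun h => hne (congrArg Subtype.val h))
    have h4 : z * z = z := congrArg Subtype.val h3
    exact hz1' (mul_eq_left.1 h4)
  have A : Amb (z : G) K := amb_of C S hc z.2 (fun k hk => (congrArg Subtype.val (hzc ⟨k, hk⟩)).symm)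
    (fun h => hz1' (Subtype.ext h)) (congrArg Subtype.val hzz)
  exact kill G C K z A (facts ↥K (quasisimple S) h2 hP z hz1' hzz hzc)

end Cfsg.Agent.OddHalf.D9.AmbOf

end

-- merged: Cfsg.Agent.OddHalf.D9.KillRow
section

/-!
# D9: the frame of `Kill` from `Ctx`, `Std`, `Cyc`; the rows

* `fr_of`: `K` standard of maximal order, `C(K)` with cyclic Sylow 2-subgroups, `z` an involution of `Z(K)`, `K / Z(K)`
  with the Schreier property: the frame `Kill.Fr K z`.
* `row_two`: a row of D9 with `|Z(K)| = 2` from the facts `KF` on `K`; `row_four`: with `Z(K)` of order 4.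
-/

set_option autoImplicit false

namespace Cfsg.Agent.OddHalf.D9.KillRow

open Subgroup Cfsg Cfsg.Agent.OddHalf.Iface Cfsg.Agent.OddHalf.D9.M12Glue Cfsg.Agent.OddHalf.D9.Kill
  Cfsg.Agent.Schreier.Basic
open scoped commutatorElement

universe u

/-! ### The Schreier property of a perfect central extension -/

theorem map_center {C : Type*} [Group C] (φ : MulAut C) : (center C).map φ.toMonoidHom = center C := by
  ext x
  constructor
  · rintro ⟨y, hy, rfl⟩
    rw [mem_center_iff]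
    intro g
    have h1 := mem_center_iff.1 hy (φ.symm g)
    have h2 := congrArg φ h1
    rwa [map_mul, map_mul, MulEquiv.apply_symm_apply] at h2
  · intro hx
    refine ⟨φ.symm x, ?_, MulEquiv.apply_symm_apply φ x⟩
    change φ.symm x ∈ center C
    rw [mem_center_iff]
    intro g
    apply φ.injective
    rw [map_mul, map_mul, MulEquiv.apply_symm_apply]
    exact mem_center_iff.1 hx (φ g)

/-- the action on the quotient by the centre -/
def quo (C : Type*) [Group C] : MulAut C →* MulAut (C ⧸ center C) where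
  toFun φ := QuotientGroup.congr (center C) (center C) φ (map_center φ)
  map_one' := by
    ext x
    induction x using QuotientGroup.induction_on with
    | H c => rfl
  map_mul' φ ψ := by
    ext x
    induction x using QuotientGroup.induction_on with
    | H c => rfl

theorem quo_mk {C : Type*} [Group C] (φ : MulAut C) (c : C) :
    quo C φ (QuotientGroup.mk c) = QuotientGroup.mk (φ c) := rfl

/-- the Schreier property from the quotient by the centre -/
theorem sch_of_center {C : Type*} [Group C] (hperf : commutator C = ⊤) (h : Sch (C ⧸ center C)) : Sch C := by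
  intro D hD φ hφ
  obtain ⟨y, hy⟩ := h (D.map (quo C)) (map_perfect _ hD) ⟨φ, hφ, rfl⟩
  obtain ⟨c, rfl⟩ := QuotientGroup.mk_surjective y
  have h2 : ∀ x : C, (c * x * c⁻¹)⁻¹ * φ x ∈ center C := by
    intro x
    have h3 := DFunLike.congr_fun hy (QuotientGroup.mk x)
    rw [MulAut.conj_apply, quo_mk] at h3
    rw [← QuotientGroup.eq]
    exact h3
  let δ : C →* center C :=
    { toFun := fun x => ⟨(c * x * c⁻¹)⁻¹ * φ x, h2 x⟩
      map_one' := by
        apply Subtype.ext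
        simp
      map_mul' := fun x y => by
        apply Subtype.ext
        change (c * (x * y) * c⁻¹)⁻¹ * φ (x * y) = (c * x * c⁻¹)⁻¹ * φ x * ((c * y * c⁻¹)⁻¹ * φ y)
        have h3 := mem_center_iff.1 (h2 x) (c * y * c⁻¹)⁻¹
        calc (c * (x * y) * c⁻¹)⁻¹ * φ (x * y) = (c * y * c⁻¹)⁻¹ * ((c * x * c⁻¹)⁻¹ * φ x) * φ y := by
              rw [map_mul]; group
          _ = _ := by rw [h3]; group }
  have h4 : ∀ x, δ x = 1 := by
    intro x
    have h5 : commutator C ≤ δ.ker := by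
      rw [_root_.commutator_def, commutator_le]
      intro a _ b _
      rw [MonoidHom.mem_ker, map_commutatorElement]
      exact commutatorElement_eq_one_iff_mul_comm.2 (Subtype.ext (mem_center_iff.1 (δ b).2 (δ a)))
    rw [hperf] at h5
    exact h5 (mem_top x)
  refine ⟨c, ?_⟩
  ext x
  have h5 : (c * x * c⁻¹)⁻¹ * φ x = 1 := congrArg Subtype.val (h4 x)
  rw [inv_mul_eq_one] at h5
  rw [MulAut.conj_apply, h5]

/-! ### The frame -/

variable {G : Type u} [Group G]

/-- the action of a subgroup of `C(z)` on `K` -/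
def act {K P : Subgroup G} {z : G} (hK : ∀ h, h * z = z * h → ∀ k ∈ K, h * k * h⁻¹ ∈ K)
    (hP : ∀ x ∈ P, x * z = z * x) : ↥P →* MulAut ↥K where
  toFun h :=
    { toFun := fun k => ⟨(h : G) * k * (h : G)⁻¹, hK h (hP h h.2) k k.2⟩
      invFun := fun k => ⟨(h : G)⁻¹ * k * (h : G), by
        have := hK ((h⁻¹ : ↥P) : G) (hP _ (h⁻¹).2) k k.2
        simpa using this⟩
      left_inv := fun k => Subtype.ext (by
        change (h : G)⁻¹ * ((h : G) * k * (h : G)⁻¹) * (h : G) = k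
        group)
      right_inv := fun k => Subtype.ext (by
        change (h : G) * ((h : G)⁻¹ * k * (h : G)) * (h : G)⁻¹ = k
        group)
      map_mul' := fun k k' => Subtype.ext (by
        change (h : G) * (k * k') * (h : G)⁻¹ = (h : G) * k * (h : G)⁻¹ * ((h : G) * k' * (h : G)⁻¹)
        group) }
  map_one' := by
    ext k
    change ((1 : ↥P) : G) * k * ((1 : ↥P) : G)⁻¹ = k
    simp
  map_mul' h h' := by
    ext k
    change ((h * h' : ↥P) : G) * k * ((h * h' : ↥P) : G)⁻¹ = (h : G) * ((h' : G) * k * (h' : G)⁻¹) * (h : G)⁻¹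
    rw [Subgroup.coe_mul]
    group

/-- perfect subgroups of `C(z)` lie in `K` -/
theorem perfect_le {K : Subgroup G} {z : G} (A : Amb z K) (hs : Sch ↥K) {P : Subgroup G}
    (hPz : ∀ x ∈ P, x * z = z * x) (hP : ⁅P, P⁆ = P) : P ≤ K := by
  have hpt : ⁅(⊤ : Subgroup ↥P), (⊤ : Subgroup ↥P)⁆ = ⊤ := by
    apply map_injective P.subtype_injective
    rw [map_commutator, ← MonoidHom.range_eq_map, range_subtype, hP]
  have h1 : (act A.norm hPz).range ≤ (MulAut.conj : ↥K →* MulAut ↥K).range := by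
    apply hs
    rw [MonoidHom.range_eq_map, ← map_commutator, hpt]
  have h2 : ∀ p ∈ P, ∃ k ∈ K, ∀ x ∈ K, (k⁻¹ * p) * x = x * (k⁻¹ * p) := by
    intro p hp
    obtain ⟨k, hk⟩ := h1 ⟨⟨p, hp⟩, rfl⟩
    refine ⟨k, k.2, fun x hx => ?_⟩
    have h3 : MulAut.conj k ⟨x, hx⟩ = act A.norm hPz ⟨p, hp⟩ ⟨x, hx⟩ := by rw [hk]
    have h4 : (k : G) * x * (k : G)⁻¹ = p * x * p⁻¹ := congrArg Subtype.val h3
    calc (k : G)⁻¹ * p * x = (k : G)⁻¹ * (p * x * p⁻¹) * p := by group
      _ = (k : G)⁻¹ * (k * x * (k : G)⁻¹) * p := by rw [h4]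
      _ = x * ((k : G)⁻¹ * p) := by group
  rw [← hP, commutator_le]
  intro p hp q hq
  obtain ⟨k, hk, hkc⟩ := h2 p hp
  obtain ⟨l, hl, hld⟩ := h2 q hq
  obtain ⟨c, hc⟩ : ∃ c, c = k⁻¹ * p := ⟨_, rfl⟩
  obtain ⟨d, hd⟩ : ∃ d, d = l⁻¹ * q := ⟨_, rfl⟩
  rw [← hc] at hkc
  rw [← hd] at hld
  have hpc : p = k * c := by rw [hc]; group
  have hqd : q = l * d := by rw [hd]; group
  have hcd := A.comm c d (fun x hx => hkc x hx) (fun x hx => hld x hx)
  have h3 : p * q = k * l * (c * d) := by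
    rw [hpc, hqd]
    calc k * c * (l * d) = k * (c * l) * d := by group
      _ = k * (l * c) * d := by rw [hkc l hl]
      _ = _ := by group
  have h4 : q * p = l * k * (c * d) := by
    rw [hpc, hqd]
    calc l * d * (k * c) = l * (d * k) * c := by group
      _ = l * (k * d) * c := by rw [hld k hk]
      _ = l * k * (d * c) := by group
      _ = _ := by rw [hcd]
  have h5 : ⁅p, q⁆ = k * l * (l * k)⁻¹ := by
    calc ⁅p, q⁆ = p * q * (q * p)⁻¹ := by rw [commutatorElement_def]; group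
      _ = _ := by rw [h3, h4]; group
  rw [h5]
  exact K.mul_mem (K.mul_mem hk hl) (K.inv_mem (K.mul_mem hl hk))

/-- an involution of a simple group commutes with another conjugate -/
theorem exists_ne [Finite G] [IsSimpleGroup G] (hna : ¬ IsMulCommutative G) {z : G} (zz : z * z = 1) (z1 : z ≠ 1) :
    ∃ g : G, g * z * g⁻¹ ≠ z ∧ g * z * g⁻¹ * z = z * (g * z * g⁻¹) := by
  by_contra hcon
  push Not at hcon
  refine Cfsg.Agent.J2Type.SimpleRed.not_isolated z
    ⟨orderOf_eq_prime (by rw [pow_two]; exact zz) z1, fun g hg => ?_⟩ ?_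
  · by_contra hne
    exact hcon g hne hg.symm
  · by_contra hcon2
    push Not at hcon2
    exact hna ⟨⟨hcon2⟩⟩

/-- **The frame.** -/
theorem fr_of_amb [Finite G] [IsSimpleGroup G] (hna : ¬ IsMulCommutative G) {K : Subgroup G} {z : G} (A : Amb z K)
    (zz : z * z = 1) (z1 : z ≠ 1) (Kz : ∀ k ∈ K, k * z = z * k) (hs : Sch ↥K) : Fr K z where
  zz := zz
  z1 := z1
  zK := A.zK
  Kz := Kz
  nrm := A.norm
  perf _ hP hPP := perfect_le A hs (fun _ hx => hP hx) hPP
  inv e _ hee he := A.one e he hee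
  ne := exists_ne hna zz z1

/-- **The frame**, from the standing hypotheses. -/
theorem fr_of (C : Ctx G) {K : Subgroup G} (S : Std0 G K) (hc : Cyc K) {z : G} (hzK : z ∈ K)
    (hz : ∀ k ∈ K, k * z = z * k) (hz1 : z ≠ 1) (hzz : z * z = 1) (hs : Sch (↥K ⧸ center ↥K)) : Fr K z := by
  have := C.fin
  have := C.simple
  exact fr_of_amb C.na (AmbOf.amb_of C S hc hzK hz hz1 hzz) hzz hz1 hz
    (sch_of_center S.std.1.1.commutator_eq_top hs)

/-! ### The rows -/

/-- The facts on `K` for the kill. -/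
def KF {K : Type u} [Group K] (z : K) : Prop := ((∃ C : Set K, PF z C) ∨ NoBad z) ∧ Outer z

theorem false_of_kf {K : Subgroup G} {z : ↥K} (F : Fr K (z : G)) (h : KF z) : False := by
  obtain ⟨⟨C, h1⟩ | h1, h2⟩ := h
  · exact F.false_pf h1 h2
  · exact F.false h1 h2

/-- the facts on the groups with `|Z(K)| = 2`, `K / Z(K)` with the property `P` -/
def Facts (P : (X : Type u) → [Group X] → Prop) : Prop :=
  ∀ (L : Type u) [Group L] [Finite L], IsQuasisimple L → Nat.card ↥(center L) = 2 → P (L ⧸ center L) →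
    ∀ c : L, c ≠ 1 → c * c = 1 → (∀ y, c * y = y * c) → KF c

/-- **Rows with `|Z(K)| = 2`.** -/
theorem row_two {P : (X : Type u) → [Group X] → Prop}
    (hs : ∀ (X : Type u) [Group X] [Finite X] [IsSimpleGroup X], ¬ IsMulCommutative X → P X → Sch X)
    (F : Facts P) : Cut.Row.{u} (fun K _ => Cut.Two P K) := by
  intro G _ C K S hc ⟨h2, hP⟩
  have := C.fin
  have := S.simple
  obtain ⟨⟨z, hz⟩, hz1, hzu⟩ := Nat.card_eq_two_iff' (1 : ↥(center ↥K)) |>.1 h2
  have hzc : ∀ y, z * y = y * z := fun y => (mem_center_iff.1 hz y).symm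
  have hz1' : z ≠ 1 := fun h => hz1 (Subtype.ext h)
  have hzz : z * z = 1 := by
    by_contra hne
    have h3 := hzu (⟨z, hz⟩ * ⟨z, hz⟩) (fun h => hne (congrArg Subtype.val h))
    have h4 : z * z = z := congrArg Subtype.val h3
    exact hz1' (mul_eq_left.1 h4)
  exact false_of_kf (fr_of C S hc z.2 (fun k hk => (congrArg Subtype.val (hzc ⟨k, hk⟩)).symm)
    (fun h => hz1' (Subtype.ext h)) (congrArg Subtype.val hzz) (hs _ S.quo_na hP))
    (F ↥K S.std.1 h2 hP z hz1' hzz hzc)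

end Cfsg.Agent.OddHalf.D9.KillRow

end

-- merged: Cfsg.Agent.OddHalf.D9.G24.Row
section

/-!
# The row `2.G₂(4)` of D9

`NoBad z` and `Outer z` of `Kill` from `Def.KFacts z`; `row`: the row from `KillRow.row_two`.
-/

set_option autoImplicit false

namespace Cfsg.Agent.OddHalf.D9.G24.Row

open Subgroup Cfsg.Agent.OddHalf.D9.Kill Cfsg.Agent.OddHalf.Iface Cfsg.Agent.Schreier.Basic
open scoped commutatorElement

universe u

variable {K : Type u} [Group K] {z : K}

theorem Ce_eq (f : K) : Ce f = centralizer ({f} : Set K) := by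
  ext x
  rw [mem_Ce, mem_centralizer_singleton_iff]

theorem Pr_eq {S : Subgroup K} (h : ⁅S, S⁆ = S) : Pr S = S := le_antisymm (Pr_le _) (le_Pr le_rfl h)

theorem Pr_Ce (F : Def.KFacts z) {f : K} (hff : f * f = 1) (h1 : f ≠ 1) (hz : f ≠ z) :
    Pr (Ce f) = centralizer ({f} : Set K) := by
  rw [Ce_eq, Pr_eq (F.cperf f hff h1 hz)]

theorem res (F : Def.KFacts z) {f : K} (hff : f * f = 1) (h1 : f ≠ 1) (hz : f ≠ z) : z ∈ Pr (Ce f) := by
  rw [Pr_Ce F hff h1 hz, mem_centralizer_singleton_iff]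
  exact (F.zc f).symm

theorem cent_z (F : Def.KFacts z) (c : K) : centralizer ({c * z} : Set K) = centralizer ({c} : Set K) := by
  ext y
  rw [mem_centralizer_singleton_iff, mem_centralizer_singleton_iff]
  constructor
  · intro h
    have h1 : y * c * z = c * y * z := by
      calc y * c * z = y * (c * z) := by group
        _ = c * (z * y) := by rw [h]; group
        _ = c * y * z := by rw [← F.zc]; group
    exact mul_right_cancel h1
  · intro h
    calc y * (c * z) = y * c * z := by group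
      _ = c * (y * z) := by rw [h]; group
      _ = c * z * y := by rw [F.zc]; group

theorem noBad (F : Def.KFacts z) : NoBad z where
  res _ h1 h2 h3 := res F h1 h2 h3
  bad := by
    rintro f f' hff hf1 hfz hff' hf1' hfz' ⟨hf, hz, hf', hz', φ, h1, h2⟩
    obtain ⟨k, hk⟩ := F.conj f f' hff hf1 hfz hff' hf1' hfz'
    have hcent : centralizer ({k * f * k⁻¹} : Set K) = centralizer ({f'} : Set K) := by
      rcases hk with hk | hk
      · rw [hk]
      · rw [hk, cent_z F]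
    have hmem : ∀ y, y ∈ centralizer ({f'} : Set K) ↔ k⁻¹ * y * k ∈ centralizer ({f} : Set K) := by
      intro y
      rw [← hcent, mem_centralizer_singleton_iff, mem_centralizer_singleton_iff]
      constructor
      · intro h
        calc k⁻¹ * y * k * f = k⁻¹ * (y * (k * f * k⁻¹)) * k := by group
          _ = k⁻¹ * (k * f * k⁻¹ * y) * k := by rw [h]
          _ = _ := by group
      · intro h
        calc y * (k * f * k⁻¹) = k * (k⁻¹ * y * k * f) * k⁻¹ := by group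
          _ = k * (f * (k⁻¹ * y * k)) * k⁻¹ := by rw [h]
          _ = _ := by group
    let ψ : centralizer ({f'} : Set K) ≃* centralizer ({f} : Set K) :=
      { toFun := fun y => ⟨k⁻¹ * y * k, (hmem y).1 y.2⟩
        invFun := fun y => ⟨k * y * k⁻¹, (hmem _).2 (by
          have : k⁻¹ * (k * (y : K) * k⁻¹) * k = y := by group
          rw [this]; exact y.2)⟩
        left_inv := fun y => Subtype.ext (by
          change k * (k⁻¹ * (y : K) * k) * k⁻¹ = y
          group)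
        right_inv := fun y => Subtype.ext (by
          change k⁻¹ * (k * (y : K) * k⁻¹) * k = y
          group)
        map_mul' := fun a b => Subtype.ext (by
          change k⁻¹ * ((a : K) * b) * k = k⁻¹ * a * k * (k⁻¹ * b * k)
          group) }
    let e1 : ↥(Pr (Ce f)) ≃* centralizer ({f} : Set K) := MulEquiv.subgroupCongr (Pr_Ce F hff hf1 hfz)
    let e2 : ↥(Pr (Ce f')) ≃* centralizer ({f'} : Set K) := MulEquiv.subgroupCongr (Pr_Ce F hff' hf1' hfz')
    refine F.label f hff hf1 hfz ((e1.symm.trans φ).trans (e2.trans ψ)) ?_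
    have h3 : e1.symm ⟨f, mem_centralizer_singleton_iff.2 rfl⟩ = ⟨f, hf⟩ := rfl
    change ((ψ (e2 (φ (e1.symm ⟨f, mem_centralizer_singleton_iff.2 rfl⟩))) : centralizer ({f} : Set K)) : K) = z
    rw [h3, h1]
    change k⁻¹ * z * k = z
    rw [mul_assoc, ← F.zc k]
    group

/-- `z ∈ Pr (C(k))` for noncentral `k` with central square -/
theorem res_of_sq (F : Def.KFacts z) {k : K} (hk : ∃ x, k * x ≠ x * k) (hkk : ∀ x, k * k * x = x * (k * k)) :
    z ∈ Pr (Ce k) := by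
  obtain ⟨x, hx⟩ := hk
  rcases F.cen (k * k) hkk with h | h
  · refine res F h ?_ ?_
    · rintro rfl; exact hx (by group)
    · rintro rfl; exact hx (F.zc x).symm
  · obtain ⟨W, hW, hz, hc⟩ := F.root k h
    exact le_Pr (fun w hw => hc w hw) hW hz

/-- outer involutory automorphisms -/
theorem out (F : Def.KFacts z) {α : MulAut K} (hα : α * α = 1) (ho : ∀ k : K, α ≠ MulAut.conj k) :
    ∃ x ∈ Pr (Fx α), x ≠ 1 ∧ ∃ q : K, α q = q * x := by
  obtain ⟨k, h1, W, hW, hWα, hk⟩ := F.out α (fun x => by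
    rw [← MulAut.mul_apply, hα, MulAut.one_apply]) ho
  refine ⟨(α k * k⁻¹)⁻¹, inv_mem (le_Pr (fun w hw => hWα w hw) hW hk), inv_ne_one.2 h1, k⁻¹, ?_⟩
  rw [map_inv]
  group

theorem outer (F : Def.KFacts z) : Outer z := by
  intro α hα h1 hf
  by_cases ho : ∀ k : K, α ≠ MulAut.conj k
  · exact Or.inr (out F hα ho)
  push Not at ho
  obtain ⟨k, rfl⟩ := ho
  left
  rw [Fx_conj]
  have hkk : ∀ x, k * k * x = x * (k * k) := by
    intro x
    have h2 := DFunLike.congr_fun hα x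
    rw [MulAut.mul_apply, MulAut.conj_apply, MulAut.conj_apply, MulAut.one_apply] at h2
    calc k * k * x = k * (k * x * k⁻¹) * k⁻¹ * (k * k) := by group
      _ = _ := by rw [h2]
  refine res_of_sq F ?_ hkk
  by_contra hx
  push Not at hx
  apply h1
  ext x
  rw [MulAut.conj_apply, MulAut.one_apply, hx x]
  group

theorem kf (F : Def.KFacts z) : KillRow.KF z := ⟨Or.inr (noBad F), outer F⟩

/-! ### The row -/

theorem sch (X : Type u) [Group X] [Finite X] [IsSimpleGroup X] (h : Cut.XG24 X) : Sch X := by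
  obtain ⟨F, i1, i2, hF, ⟨e⟩⟩ := h
  have : IsSimpleGroup ↥(Lie.chevG2.group F) := e.symm.isSimpleGroup
  exact Sch.of_equiv e.symm (Cfsg.Agent.Schreier.Chev.sch_g2 F)

theorem facts {sg : MulAut Cfsg.Agent.StdG24.Mod6.L} (A : KFacts.AutL sg) :
    KillRow.Facts.{u} (fun X _ => Cut.XG24 X) := by
  intro L _ _ hq h2 hX c hc1 hcc hc
  have hp : commutator L = ⊤ := hq.1.commutator_eq_top
  obtain ⟨z, hz, F⟩ := Glue.exists_kfacts h2 hX hp A
  have : c = z := by
    rcases F.cen c hc with h | h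
    · exact absurd h hc1
    · exact h
  rw [this]
  exact kf F

/-- **D9, row `2.G₂(4)`.** -/
theorem row {sg : MulAut Cfsg.Agent.StdG24.Mod6.L} (A : KFacts.AutL sg) :
    Cut.Row.{u} (fun K _ => Cut.Two (fun X _ => Cut.XG24 X) K) :=
  KillRow.row_two (fun X _ _ _ _ h => sch X h) (facts A)

end Cfsg.Agent.OddHalf.D9.G24.Row

end
end

-- part: OddHalf/D9/G24/OutMain
section
-- merged: Cfsg.Agent.OddHalf.D9.G24.OutL
section

/-!
# The outer automorphisms of `G₂(4)` (helper928)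

`sg` is the field automorphism of the six-dimensional model `Mod6.L`: `sg (x_r(t)) = x_r(t²)`.

* `outer_conj` : every outer involutory automorphism is conjugate to `sg` (Sylow and the argument of Lang on the
  maximal unipotent subgroup);
* `sq_inner` : the square of every automorphism is inner;
* `Y` : a perfect subgroup fixed by `sg` containing the long root elements `x_r(1)`.
-/

set_option autoImplicit false

namespace Cfsg.Agent.OddHalf.D9.G24.OutL

open Subgroup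
open Cfsg.Agent.SporRec.GF4
open Cfsg.Agent.StdG24.Mod6
open Cfsg.Agent.GTwoFour Cfsg.Agent.GTwoFour.Mdl
open scoped commutatorElement

/-! ### the field automorphism -/

/-- The Frobenius automorphism of `𝔽₄`. -/
def fr : F4 ≃+* F4 where
  toFun x := x * x
  invFun x := x * x
  left_inv := by decide
  right_inv := by decide
  map_mul' := by decide
  map_add' := by decide

theorem fr_fr : ∀ x : F4, fr (fr x) = x := by decide

/-- The entrywise Frobenius automorphism. -/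
def sG : GL6 ≃* GL6 := Units.mapEquiv (RingEquiv.mapMatrix fr).toMulEquiv

theorem sG_coe (g : GL6) (i j : Fin 6) : (sG g : Mat) i j = fr ((g : Mat) i j) := rfl

theorem sG_sG (g : GL6) : sG (sG g) = g := by
  apply Units.ext
  funext i j
  rw [sG_coe, sG_coe, fr_fr]

/-- The action on the parameters `1, w, v`. -/
def f3 : Fin 3 → Fin 3 := ![0, 2, 1]

theorem gx_check' : ((List.finRange 12).all fun r => (List.finRange 3).all fun t => (List.finRange 6).all fun i =>
    (List.finRange 6).all fun j => decide (fr (matOf (xc r t) i j) = matOf (xc r (f3 t)) i j)) = true := by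
  decide +kernel

theorem gx_check (r : Fin 12) (t : Fin 3) (i j : Fin 6) :
    fr (matOf (xc r t) i j) = matOf (xc r (f3 t)) i j :=
  of_decide_eq_true (List.all_eq_true.1 (List.all_eq_true.1 (List.all_eq_true.1 (List.all_eq_true.1 gx_check' r
    (List.mem_finRange r)) t (List.mem_finRange t)) i (List.mem_finRange i)) j (List.mem_finRange j))

theorem sG_gx (r : Fin 12) (t : Fin 3) : sG (gx r t) = gx r (f3 t) := by
  apply Units.ext
  funext i j
  exact gx_check r t i j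

theorem sG_X (r : Fin 12) : ∀ x ∈ X r, sG x ∈ X r := by
  intro x hx
  rcases X_cases hx with rfl | ⟨t, rfl⟩
  · rw [map_one]; exact one_mem _
  · rw [sG_gx]; exact gx_mem_X r _

theorem sG_L : ∀ x ∈ L, sG x ∈ L := by
  intro x hx
  have h : L ≤ L.comap sG.toMonoidHom := by
    rw [L, closure_le]
    rintro _ ⟨r, t, rfl⟩
    show sG (gx r t) ∈ L
    rw [sG_gx]
    exact gx_mem _ _
  exact h hx

theorem sG_mulSub {K N : Subgroup GL6} {h : ∀ k ∈ K, ∀ n ∈ N, k * n * k⁻¹ ∈ N} (hK : ∀ x ∈ K, sG x ∈ K)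
    (hN : ∀ x ∈ N, sG x ∈ N) : ∀ x ∈ mulSub K N h, sG x ∈ mulSub K N h := by
  rintro _ ⟨k, hk, n, hn, rfl⟩
  exact ⟨sG k, hK k hk, sG n, hN n hn, map_mul sG k n⟩

theorem sG_W4 : ∀ x ∈ W4, sG x ∈ W4 := sG_mulSub (sG_X 10) (sG_X 11)
theorem sG_N9 : ∀ x ∈ N9, sG x ∈ N9 := sG_mulSub (sG_X 9) sG_W4
theorem sG_N8 : ∀ x ∈ N8, sG x ∈ N8 := sG_mulSub (sG_X 8) sG_N9
theorem sG_Q1 : ∀ x ∈ Q1, sG x ∈ Q1 := sG_mulSub (sG_X 6) sG_N8
theorem sG_U : ∀ x ∈ U, sG x ∈ U := sG_mulSub (sG_X 7) sG_Q1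

/-- **The field automorphism.** -/
def sg : MulAut L where
  toFun x := ⟨sG x, sG_L x x.2⟩
  invFun x := ⟨sG x, sG_L x x.2⟩
  left_inv x := Subtype.ext (sG_sG x)
  right_inv x := Subtype.ext (sG_sG x)
  map_mul' x y := Subtype.ext (map_mul sG (x : GL6) y)

theorem coe_sg (x : L) : ((sg x : L) : GL6) = sG x := rfl

theorem sg_sg (x : L) : sg (sg x) = x := Subtype.ext (sG_sG x)

theorem sg_mul_sg : sg * sg = 1 := by
  ext x : 1
  exact sg_sg x

/-- `sg (x_r(t)) = x_r(t²)`. -/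
theorem sg_gx (r : Fin 12) (t : Fin 3) : sg ⟨gx r t, gx_mem r t⟩ = ⟨gx r (f3 t), gx_mem r _⟩ :=
  Subtype.ext (sG_gx r t)

theorem sg_gx0 (r : Fin 12) : sg ⟨gx r 0, gx_mem r 0⟩ = ⟨gx r 0, gx_mem r 0⟩ := sg_gx r 0
theorem sg_gx1 (r : Fin 12) : sg ⟨gx r 1, gx_mem r 1⟩ = ⟨gx r 2, gx_mem r 2⟩ := sg_gx r 1
/-! ### Lang's argument -/

theorem ne_check : ∀ r : Fin 12, xc r 1 ≠ xc r 2 := by decide +kernel

theorem gx_ne12 (r : Fin 12) : gx r 1 ≠ gx r 2 := fun h =>
  ne_check r (((Cd_gx r 1).eq_iff (Cd_gx r 2)).1 h)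

theorem add_check : ∀ r : Fin 12, cw [(r, 1), (r, 2)] = cw [(r, 0)] := by decide +kernel

theorem gx_12 (r : Fin 12) : gx r 1 * gx r 2 = gx r 0 := by
  have h := ev_eq_of (add_check r)
  rwa [ev_singleton, show ev [(r, 1), (r, 2)] = gx r 1 * gx r 2 from by
    rw [show ([(r, 1), (r, 2)] : Wd) = [(r, 1)] ++ [(r, 2)] from rfl, ev_append, ev_singleton, ev_singleton]] at h

theorem X_fix {r : Fin 12} {u : GL6} (hu : u ∈ X r) (h : u * sG u = 1) : u = 1 ∨ u = gx r 0 := by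
  have h' : sG u = u := by
    have := eq_inv_of_mul_eq_one_right h
    rwa [X_inv hu] at this
  rcases X_cases hu with rfl | ⟨t, rfl⟩
  · exact Or.inl rfl
  · rw [sG_gx] at h'
    match t with
    | 0 => exact Or.inr rfl
    | 1 => exact absurd (show gx r 2 = gx r 1 from h').symm (gx_ne12 r)
    | 2 => exact absurd (show gx r 1 = gx r 2 from h') (gx_ne12 r)

theorem lang_step {r : Fin 12} {N : Subgroup GL6} {h : ∀ k ∈ X r, ∀ n ∈ N, k * n * k⁻¹ ∈ N}
    (hd : ∀ g ∈ X r, g ∈ N → g = 1) (hN : ∀ n ∈ N, sG n ∈ N)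
    (ih : ∀ u ∈ N, u * sG u = 1 → ∃ v ∈ L, u = v⁻¹ * sG v) :
    ∀ u ∈ mulSub (X r) N h, u * sG u = 1 → ∃ v ∈ L, u = v⁻¹ * sG v := by
  rintro _ ⟨x, hx, n, hn, rfl⟩ hu
  have h1 : x * sG x = 1 := by
    apply hd _ (mul_mem hx (sG_X r x hx))
    have h2 : x * sG x = ((sG x)⁻¹ * n * (sG x)⁻¹⁻¹ * sG n)⁻¹ := by
      rw [eq_inv_iff_mul_eq_one, ← hu, map_mul]
      group
    rw [h2]
    exact inv_mem (mul_mem (h _ (inv_mem (sG_X r x hx)) n hn) (hN n hn))
  rcases X_fix hx h1 with rfl | rfl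
  · rw [one_mul] at hu ⊢
    exact ih n hn hu
  · set v0 := gx r 1 with hv0
    have hs : sG v0 = gx r 2 := sG_gx r 1
    have e1 : v0 * (gx r 0 * n) * (sG v0)⁻¹ = sG v0 * n * (sG v0)⁻¹ := by
      have e2 : v0 * gx r 0 = sG v0 := by
        rw [← gx_12 r, hs, hv0, ← mul_assoc, gx_sq, one_mul]
      rw [← mul_assoc v0, e2]
    have hmem : v0 * (gx r 0 * n) * (sG v0)⁻¹ ∈ N := by
      rw [e1]
      exact h _ (sG_X r _ (gx_mem_X r 1)) n hn
    have hprod : v0 * (gx r 0 * n) * (sG v0)⁻¹ * sG (v0 * (gx r 0 * n) * (sG v0)⁻¹) = 1 := by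
      rw [map_mul sG (v0 * (gx r 0 * n)), map_inv, sG_sG, map_mul sG v0]
      calc v0 * (gx r 0 * n) * (sG v0)⁻¹ * (sG v0 * sG (gx r 0 * n) * v0⁻¹)
          = v0 * ((gx r 0 * n) * sG (gx r 0 * n)) * v0⁻¹ := by group
        _ = 1 := by rw [hu]; group
    obtain ⟨v1, hv1, he⟩ := ih _ hmem hprod
    refine ⟨v1 * v0, mul_mem hv1 (gx_mem r 1), ?_⟩
    rw [map_mul, mul_inv_rev]
    calc gx r 0 * n = v0⁻¹ * (v0 * (gx r 0 * n) * (sG v0)⁻¹) * sG v0 := by group
      _ = v0⁻¹ * (v1⁻¹ * sG v1) * sG v0 := by rw [he]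
      _ = _ := by group

theorem lang_X (r : Fin 12) : ∀ u ∈ X r, u * sG u = 1 → ∃ v ∈ L, u = v⁻¹ * sG v := by
  intro u hu h
  rcases X_fix hu h with rfl | rfl
  · exact ⟨1, one_mem _, by rw [map_one]; group⟩
  · refine ⟨gx r 1, gx_mem r 1, ?_⟩
    rw [sG_gx, gx_inv]
    exact (gx_12 r).symm

theorem lang_W4 : ∀ u ∈ W4, u * sG u = 1 → ∃ v ∈ L, u = v⁻¹ * sG v :=
  lang_step disj10 (sG_X 11) (lang_X 11)
theorem lang_N9 : ∀ u ∈ N9, u * sG u = 1 → ∃ v ∈ L, u = v⁻¹ * sG v :=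
  lang_step disj9 sG_W4 lang_W4
theorem lang_N8 : ∀ u ∈ N8, u * sG u = 1 → ∃ v ∈ L, u = v⁻¹ * sG v :=
  lang_step disj8 sG_N9 lang_N9
theorem lang_Q1 : ∀ u ∈ Q1, u * sG u = 1 → ∃ v ∈ L, u = v⁻¹ * sG v :=
  lang_step disj6 sG_N8 lang_N8
theorem lang_U : ∀ u ∈ U, u * sG u = 1 → ∃ v ∈ L, u = v⁻¹ * sG v :=
  lang_step disj71 sG_Q1 lang_Q1

/-! ### outer automorphisms -/

/-- the square of every automorphism is inner -/
theorem sq_inner (b : MulAut L) : ∃ c : L, ∀ x, b (b x) = c * x * c⁻¹ := Cfsg.Agent.StdG24.Ax6.ax6.sq_inner b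

theorem mul_inner (a b : MulAut L) (ha : ¬ ∃ c : L, ∀ x, a x = c * x * c⁻¹)
    (hb : ¬ ∃ c : L, ∀ x, b x = c * x * c⁻¹) : ∃ c : L, ∀ x, a (b x) = c * x * c⁻¹ :=
  Cfsg.Agent.StdG24.Ax6.ax6.mul_inner a b ha hb

/-- `sg` is not inner -/
theorem sg_outer : ¬ ∃ c : L, ∀ x, sg x = c * x * c⁻¹ := by
  rintro ⟨c, hc⟩
  have h1 : (c : GL6) * gx 11 0 = gx 11 0 * (c : GL6) := by
    have h := congrArg Subtype.val (hc ⟨gx 11 0, gx_mem 11 0⟩)
    rw [coe_sg] at h
    have h' : sG (gx 11 0) = (c : GL6) * gx 11 0 * (c : GL6)⁻¹ := h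
    rw [sG_gx] at h'
    have h2 : gx 11 0 = (c : GL6) * gx 11 0 * (c : GL6)⁻¹ := h'
    calc (c : GL6) * gx 11 0 = (c : GL6) * gx 11 0 * (c : GL6)⁻¹ * c := by group
      _ = gx 11 0 * c := by rw [← h2]
  have hP : (c : GL6) ∈ P := mem_P_of_comm c.2 h1
  have h3 : (c : GL6) * gx 11 1 = gx 11 1 * c := Z_comm hP (gx_mem_X 11 1)
  have h := congrArg Subtype.val (hc ⟨gx 11 1, gx_mem 11 1⟩)
  have h' : sG (gx 11 1) = (c : GL6) * gx 11 1 * (c : GL6)⁻¹ := h
  rw [h3, mul_inv_cancel_right, sG_gx] at h'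
  exact gx_ne12 11 (show gx 11 2 = gx 11 1 from h').symm

theorem conj_sg_aux : ∀ k ∈ zpowers sg, ∀ n ∈ (MulAut.conj (G := L)).range, k * n * k⁻¹ ∈ (MulAut.conj (G := L)).range := by
  rintro k - _ ⟨g, rfl⟩
  refine ⟨k g, ?_⟩
  ext x : 1
  simp only [MulAut.conj_apply, MulAut.mul_apply, map_mul, map_inv, MulAut.apply_inv_self]

theorem zpowers_sg {k : MulAut L} (hk : k ∈ zpowers sg) : k = 1 ∨ k = sg := by
  obtain ⟨i, rfl⟩ := mem_zpowers_iff.1 hk
  rcases Int.even_or_odd' i with ⟨j, rfl | rfl⟩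
  · left
    rw [zpow_mul, show sg ^ (2 : ℤ) = 1 from by rw [zpow_two, sg_mul_sg], one_zpow]
  · right
    rw [zpow_add, zpow_mul, show sg ^ (2 : ℤ) = 1 from by rw [zpow_two, sg_mul_sg], one_zpow, one_mul, zpow_one]

/-- the maximal unipotent subgroup in `L` -/
def UL : Subgroup L := U.subgroupOf L

theorem U_le : U ≤ L := by rw [← sup_eq]; exact U_le_L

theorem conj_UL_aux : ∀ k ∈ zpowers sg, ∀ n ∈ UL.map (MulAut.conj (G := L)), k * n * k⁻¹ ∈ UL.map (MulAut.conj (G := L)) := by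
  rintro k hk _ ⟨g, hg, rfl⟩
  have hkg : k g ∈ UL := by
    rcases zpowers_sg hk with rfl | rfl
    · exact hg
    · exact sG_U g hg
  refine ⟨k g, hkg, ?_⟩
  ext x : 1
  simp only [MulAut.conj_apply, MulAut.mul_apply, map_mul, map_inv, MulAut.apply_inv_self]

/-- `Inn(L)⟨sg⟩` -/
def CA : Subgroup (MulAut L) := mulSub (zpowers sg) (MulAut.conj (G := L)).range conj_sg_aux
/-- `Inn(U)⟨sg⟩` -/
def SA : Subgroup (MulAut L) := mulSub (zpowers sg) (UL.map (MulAut.conj (G := L))) conj_UL_aux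

theorem conj_inj : Function.Injective (MulAut.conj (G := L)) := by
  rw [injective_iff_map_eq_one]
  intro c hc
  apply RedAut.center_triv Cfsg.Agent.StdG24.Ax6.ax6
  intro x
  have h := congrArg (fun f : MulAut L => f x) hc
  have h' : c * x * c⁻¹ = x := h
  calc c * x = c * x * c⁻¹ * c := by group
    _ = x * c := by rw [h']

theorem sg_not_conj {f : MulAut L} (hf : f ∈ (MulAut.conj (G := L)).range) : f ≠ sg := by
  rintro rfl
  obtain ⟨c, hc⟩ := hf
  exact sg_outer ⟨c, fun x => by rw [← hc]; rfl⟩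

theorem disj_C : ∀ g ∈ zpowers sg, g ∈ (MulAut.conj (G := L)).range → g = 1 := by
  intro g hg hr
  rcases zpowers_sg hg with h | h
  · exact h
  · exact absurd h (sg_not_conj hr)

theorem map_le_range : UL.map (MulAut.conj (G := L)) ≤ (MulAut.conj (G := L)).range := by
  rintro _ ⟨g, -, rfl⟩
  exact ⟨g, rfl⟩

theorem sg_ne_one : sg ≠ 1 := fun h => sg_not_conj (one_mem _) h.symm

theorem card_zp : Nat.card (zpowers sg) = 2 := by
  rw [Nat.card_zpowers]
  exact orderOf_eq_prime (by rw [pow_two, sg_mul_sg]) sg_ne_one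

theorem card_CA : Nat.card CA = 2 * 251596800 := by
  rw [CA, card_mulSub disj_C, card_zp]
  congr 1
  rw [← Cfsg.Agent.StdG24.Ord6.card_L]
  exact (Nat.card_congr (MonoidHom.ofInjective conj_inj).toEquiv).symm

theorem card_SA : Nat.card SA = 2 ^ 13 := by
  rw [SA, card_mulSub (fun g h1 h2 => disj_C g h1 (map_le_range h2)), card_zp]
  have h1 : Nat.card (UL.map (MulAut.conj (G := L))) = Nat.card UL :=
    Nat.card_congr (UL.equivMapOfInjective _ conj_inj).symm.toEquiv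
  have h2 : Nat.card UL = Nat.card U := Nat.card_congr (subgroupOfEquivOfLe U_le).toEquiv
  have h3 : Nat.card U = 2 ^ 12 := by rw [← card_U, sup_eq]
  rw [h1, h2, h3]
  norm_num

theorem SA_le : SA ≤ CA := mulSub_le le_left (map_le_range.trans le_right)

theorem finite_L : Finite L := Nat.finite_of_card_ne_zero (by rw [Cfsg.Agent.StdG24.Ord6.card_L]; norm_num)

theorem not_dvd : ¬ 2 ∣ SA.relIndex CA := by
  have h := OuterFour.card_mul_relIndex SA_le
  rw [card_SA, card_CA] at h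
  omega

/-- **Every outer involutory automorphism is conjugate to the field automorphism.** -/
theorem outer_conj (b : MulAut L) (hb : ∀ x, b (b x) = x) (ho : ¬ ∃ c : L, ∀ x, b x = c * x * c⁻¹) :
    ∃ g : L, ∀ x, b x = g * sg (g⁻¹ * x * g) * g⁻¹ := by
  have := finite_L
  have : Fact (Nat.Prime 2) := ⟨Nat.prime_two⟩
  have hbb : b * b = 1 := by
    ext x : 1
    exact hb x
  -- `b ∈ CA`
  have hbC : b ∈ CA := by
    obtain ⟨c, hc⟩ := mul_inner sg b sg_outer ho
    refine ⟨sg, mem_zpowers _, MulAut.conj c, ⟨c, rfl⟩, ?_⟩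
    ext x : 1
    show b x = sg (c * x * c⁻¹)
    rw [← hc, sg_sg]
  have hXp : IsPGroup 2 (zpowers b) := by
    apply IsPGroup.of_card (n := 1)
    rw [Nat.card_zpowers, pow_one]
    apply orderOf_eq_prime (by rw [pow_two, hbb])
    rintro rfl
    exact ho ⟨1, fun x => by simp⟩
  have hSp : IsPGroup 2 SA := IsPGroup.of_card card_SA
  obtain ⟨c, hcC, hc⟩ := OuterFour.exists_conj_le (zpowers_le.2 hbC) hSp hXp not_dvd
  have h1 := hc b (mem_zpowers b)
  obtain ⟨k, hk, _, ⟨g, rfl⟩, rfl⟩ := hcC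
  -- remove `k`
  have hkS : k ∈ SA := le_left hk
  have h2 : MulAut.conj g * b * (MulAut.conj g)⁻¹ ∈ SA := by
    have h3 := mul_mem (mul_mem (inv_mem hkS) h1) hkS
    have e : k⁻¹ * (k * MulAut.conj g * b * (k * MulAut.conj g)⁻¹) * k =
        MulAut.conj g * b * (MulAut.conj g)⁻¹ := by group
    rwa [e] at h3
  obtain ⟨k', hk', _, ⟨u, hu, rfl⟩, he⟩ := h2
  have hk1 : k' = sg := by
    rcases zpowers_sg hk' with rfl | h
    · exfalso
      apply ho
      refine ⟨g⁻¹ * u * g, fun x => ?_⟩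
      have h3 : b = (MulAut.conj g)⁻¹ * MulAut.conj u * MulAut.conj g := by
        rw [one_mul] at he
        rw [← he]
        group
      rw [h3]
      simp only [MulAut.mul_apply, MulAut.conj_apply, MulAut.conj_inv_apply]
      group
    · exact h
  subst hk1
  -- `u' = sg u`
  have hu' : sG u ∈ U := sG_U u hu
  set u' : L := sg u with hu'def
  have he' : MulAut.conj g * b * (MulAut.conj g)⁻¹ = MulAut.conj u' * sg := by
    rw [he]
    ext x : 1
    simp only [MulAut.mul_apply, MulAut.conj_apply, map_mul, map_inv]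
    rfl
  have hsq : MulAut.conj (u' * sg u') = 1 := by
    have h3 : MulAut.conj g * b * (MulAut.conj g)⁻¹ * (MulAut.conj g * b * (MulAut.conj g)⁻¹) = 1 := by
      calc MulAut.conj g * b * (MulAut.conj g)⁻¹ * (MulAut.conj g * b * (MulAut.conj g)⁻¹)
          = MulAut.conj g * (b * b) * (MulAut.conj g)⁻¹ := by group
        _ = 1 := by rw [hbb]; group
    rw [he'] at h3
    rw [← h3]
    ext x : 1
    simp only [MulAut.mul_apply, MulAut.conj_apply, map_mul, map_inv, sg_sg]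
  have hone : u' * sg u' = 1 := conj_inj (hsq.trans (map_one _).symm)
  obtain ⟨v, hv, hve⟩ := lang_U (sG u) hu' (congrArg Subtype.val hone)
  have hve' : u' = (⟨v, hv⟩ : L)⁻¹ * sg ⟨v, hv⟩ := Subtype.ext hve
  set w : L := ⟨v, hv⟩ with hw
  refine ⟨(w * g)⁻¹, fun x => ?_⟩
  have hbe : b = (MulAut.conj g)⁻¹ * (MulAut.conj u' * sg) * MulAut.conj g := by
    rw [← he']
    group
  rw [hbe, hve']
  simp only [MulAut.mul_apply, MulAut.conj_apply, MulAut.conj_inv_apply, map_mul, map_inv, mul_inv_rev, inv_inv]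
  group

/-! ### the perfect subgroup `SL₃(2)` of the centralizer -/

/-- `⟨x_r(1) : r long⟩ = SL₃(2)` -/
def Y : Subgroup L := closure {x | ∃ r ∈ ([0, 1, 5, 6, 10, 11] : List (Fin 12)), x = ⟨gx r 0, gx_mem r 0⟩}

theorem gx_mem_Y {r : Fin 12} (hr : r ∈ ([0, 1, 5, 6, 10, 11] : List (Fin 12))) :
    (⟨gx r 0, gx_mem r 0⟩ : L) ∈ Y := subset_closure ⟨r, hr, rfl⟩

theorem sg_Y : ∀ y ∈ Y, sg y = y := by
  intro y hy
  induction hy using closure_induction with
  | mem x hx => obtain ⟨r, -, rfl⟩ := hx; exact sg_gx0 r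
  | one => exact map_one _
  | mul x y _ _ hx hy => rw [map_mul, hx, hy]
  | inv x _ hx => rw [map_inv, hx]

theorem comm_check : ∀ r ∈ ([0, 1, 5, 6, 10, 11] : List (Fin 12)),
    ∃ s ∈ ([0, 1, 5, 6, 10, 11] : List (Fin 12)), ∃ t ∈ ([0, 1, 5, 6, 10, 11] : List (Fin 12)),
      cw (cmw [(s, 0)] [(t, 0)]) = cw [(r, 0)] := by decide +kernel

theorem Y_perfect : ⁅Y, Y⁆ = Y := by
  apply le_antisymm
  · rw [commutator_le]
    intro a ha b hb
    rw [commutatorElement_def]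
    exact mul_mem (mul_mem (mul_mem ha hb) (inv_mem ha)) (inv_mem hb)
  · nth_rewrite 1 [Y]
    rw [closure_le]
    rintro _ ⟨r, hr, rfl⟩
    obtain ⟨s, hs, t, ht, h⟩ := comm_check r hr
    have h1 := ev_eq_of h
    rw [ev_cmw, ev_singleton, ev_singleton, ev_singleton] at h1
    have h2 : (⟨gx r 0, gx_mem r 0⟩ : L) = ⁅(⟨gx s 0, gx_mem s 0⟩ : L), (⟨gx t 0, gx_mem t 0⟩ : L)⁆ :=
      Subtype.ext h1.symm
    rw [h2]
    exact commutator_mem_commutator (gx_mem_Y hs) (gx_mem_Y ht)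

/-- The centralizer of the field automorphism contains a perfect subgroup containing `x_6(1), x_10(1), x_11(1)`. -/
theorem exists_Y : ∃ Y : Subgroup L, ⁅Y, Y⁆ = Y ∧ (∀ y ∈ Y, sg y = y) ∧ (⟨gx 6 0, gx_mem 6 0⟩ : L) ∈ Y ∧
    (⟨gx 10 0, gx_mem 10 0⟩ : L) ∈ Y ∧ (⟨gx 11 0, gx_mem 11 0⟩ : L) ∈ Y :=
  ⟨Y, Y_perfect, sg_Y, gx_mem_Y (by decide), gx_mem_Y (by decide), gx_mem_Y (by decide)⟩

end Cfsg.Agent.OddHalf.D9.G24.OutL

end

-- merged: Cfsg.Agent.OddHalf.D9.G24.OutMain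
section

/-!
# The facts on the automorphisms of `G₂(4)` for the row `2.G₂(4)` (helper928)
-/

set_option autoImplicit false

namespace Cfsg.Agent.OddHalf.D9.G24.OutL

open Subgroup
open Cfsg.Agent.StdG24.Mod6

/-- **The facts on the field automorphism.** -/
theorem autL_sg : KFacts.AutL sg where
  sg0 := sg_gx0
  sg1 := sg_gx1
  outer_conj := outer_conj
  sq_inner := sq_inner
  sub := by
    obtain ⟨Y, h1, h2, h3, h4, -⟩ := exists_Y
    exact ⟨Y, h1, h2, h3, h4⟩

theorem autL : ∃ sg : MulAut L, KFacts.AutL sg := ⟨sg, autL_sg⟩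

end Cfsg.Agent.OddHalf.D9.G24.OutL

end
end

private theorem dce_4d379e203a7b : _root_.True := by
  try have : _root_.True := by simp only [_root_.Cfsg.Agent.OddHalf.D9.G24.OutL.Y.eq_1]
  try have : _root_.True := by simp only [_root_.Cfsg.Agent.OddHalf.D9.G24.OutL.CA.eq_1]
  try have : _root_.True := by simp only [_root_.Cfsg.Agent.StdG24.Mod6.L.eq_1]
  try have : _root_.True := by simp only [_root_.Cfsg.Agent.OddHalf.D9.G24.OutL.SA.eq_1]
  exact _root_.True.intro
end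

-- part: OddHalf/D3/TwoFull
section
prune_inst 0x34000500502200000018001000000440000000020040000000a005020008004080000001082006000000084000000040021800104010000000000000480001a00000000200000000000000008000080c00000000000000000000000000000000000000000
set_option linter.all false
open scoped Cfsg.Agent.FastGrp

-- merged: Cfsg.Agent.OddHalf.D3.Spread.FullFalse
section

/-!
# ODD D3b, n = 2, the case (F), in the form of helper245 (#10525)
-/

set_option autoImplicit false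
set_option linter.style.haveILetI false

namespace Cfsg.Agent.OddHalf.D3.Spread

open Subgroup Cfsg
open Cfsg.Agent.OddHalf.D3.ThreeDefs Cfsg.Agent.OddHalf.D3.ThreeFam

universe u

variable {G : Type u} [Group G]

/-- a subgroup which contains a conjugate of every 2-subgroup has odd index -/
theorem not_dvd_relIndex [Finite G] {S A : Subgroup G} (hSA : S ≤ A) (hS : IsPGroup 2 S)
    (h : ∀ R : Subgroup G, R ≤ A → IsPGroup 2 R → ∃ k ∈ A, cj k R ≤ S) : ¬ 2 ∣ S.relIndex A := by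
  haveI : Fact (Nat.Prime 2) := ⟨Nat.prime_two⟩
  intro hdvd
  let R : Sylow 2 A := default
  let R' : Subgroup G := (R : Subgroup A).map A.subtype
  have hR' : R' ≤ A := map_subtype_le _
  obtain ⟨k, -, hk⟩ := h R' hR' (R.isPGroup'.map _)
  have h1 : Nat.card R' ≤ Nat.card S := by
    rw [← card_cj k R']
    exact card_le_of_le hk
  have h2 : Nat.card R' = Nat.card (R : Subgroup A) :=
    (Nat.card_congr ((R : Subgroup A).equivMapOfInjective A.subtype (subtype_injective A)).toEquiv).symm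
  -- `S` in a Sylow subgroup of `A`
  obtain ⟨Q, hQ⟩ := IsPGroup.exists_le_sylow (P := S.subgroupOf A) (p := 2) hS.comap_subtype
  have h3 : Nat.card (S.subgroupOf A) = Nat.card S := Nat.card_congr (subgroupOfEquivOfLe hSA).toEquiv
  have h4 : Nat.card (Q : Subgroup A) = Nat.card (R : Subgroup A) := Nat.card_congr (Sylow.equiv Q R).toEquiv
  have h5 : S.subgroupOf A = (Q : Subgroup A) := by
    apply Subgroup.eq_of_le_of_card_ge hQ
    rw [h3, h4, ← h2]
    exact h1
  rw [relIndex, h5] at hdvd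
  exact Q.not_dvd_index hdvd

/-- **(F)**, the form of #10525. -/
theorem full_false [Finite G] {𝓒 : Set (Set (Subgroup G))} (F : Fam 𝓒) {c d : Set (Subgroup G)} (hc : c ∈ 𝓒)
    (hd : d ∈ 𝓒) (hcd : c ≠ d) (hle : Swap.AtMostTwo d) {A A' M M' S : Subgroup G} (hA : A ∈ c) (hA' : A' ∈ c)
    (hAA : A ≠ A') (hM : M ∈ d) (hM' : M' ∈ d) (hMM : M ≠ M') (hs : IsSimpleGroup A)
    (hS : S ≤ A ∧ IsPGroup 2 S ∧ ∀ R : Subgroup G, R ≤ A → IsPGroup 2 R → ∃ k ∈ A, cj k R ≤ S)
    (hab : ∀ x ∈ S, ∀ y ∈ S, x * y = y * x)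
    (h1 : ∀ a ∈ S, a * a = 1 → a ≠ 1 → ∃ u ∈ M, u * u = 1 ∧ a * u ∈ A')
    {a' u u' : G} (ha' : a' ∈ A') (ha2 : a' * a' = 1) (ha1 : a' ≠ 1) (hu : u ∈ M) (hu2 : u * u = 1) (hu' : u' ∈ M')
    (hu2' : u' * u' = 1) (hau : a' * u ∈ S) (hau' : a' * u' ∈ S) (hnot : ¬ A ≤ St d) : False := by
  haveI : Fact (Nat.Prime 2) := ⟨Nat.prime_two⟩
  obtain ⟨hSA, hSp, hSs⟩ := hS
  have hSi := not_dvd_relIndex hSA hSp hSs
  have hcomm : ∀ x ∈ A, ∀ y ∈ A', x * y = y * x := F.comm c hc A hA A' hA' hAA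
  -- centralizers of the involutions of `S`
  have hcen : ∀ a ∈ S, a * a = 1 → a ≠ 1 → ∀ g ∈ A, g * a = a * g → g ∈ St d := by
    intro a ha haa ha1 g hg hga
    obtain ⟨v, hv, hvv, hav⟩ := h1 a ha haa ha1
    have hv1 : v ≠ 1 := by
      rintro rfl
      rw [mul_one] at hav
      exact ha1 (F.inter_same hc hA hA' hAA (hSA ha) hav haa)
    refine F.cen hd (F.inU_of_mem hd hM hv hvv hv1) ?_
    have e : v = a * (a * v) := by rw [← mul_assoc, haa, one_mul]
    have h2 := hcomm g hg _ hav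
    rw [e]
    calc a * (a * v) * g = a * ((a * v) * g) := mul_assoc _ _ _
      _ = a * (g * (a * v)) := by rw [h2]
      _ = (a * g) * (a * v) := by group
      _ = (g * a) * (a * v) := by rw [hga]
      _ = g * (a * (a * v)) := by group
  set b : G := a' * u with hb
  set b' : G := a' * u' with hb'
  have hub : u = a' * b := by rw [hb, ← mul_assoc, ha2, one_mul]
  have hub' : u' = a' * b' := by rw [hb', ← mul_assoc, ha2, one_mul]
  have hba : b * a' = a' * b := hcomm b (hSA hau) a' ha'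
  have hba' : b' * a' = a' * b' := hcomm b' (hSA hau') a' ha'
  have hbb : b * b = 1 := by
    have h2 : u * u = b * b := by
      rw [hub]
      calc a' * b * (a' * b) = a' * (b * a') * b := by group
        _ = a' * (a' * b) * b := by rw [hba]
        _ = (a' * a') * (b * b) := by group
        _ = b * b := by rw [ha2, one_mul]
    rw [← h2, hu2]
  have hbb' : b' * b' = 1 := by
    have h2 : u' * u' = b' * b' := by
      rw [hub']
      calc a' * b' * (a' * b') = a' * (b' * a') * b' := by group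
        _ = a' * (a' * b') * b' := by rw [hba']
        _ = (a' * a') * (b' * b') := by group
        _ = b' * b' := by rw [ha2, one_mul]
    rw [← h2, hu2']
  have hA'M : ∀ {X}, X ∈ d → a' ∉ X := by
    intro X hX ha
    exact ha1 (F.inter_inv hc hd hcd hA' hX ha' ha ha2)
  have hb1 : b ≠ 1 := by
    intro h
    rw [h, mul_one] at hub
    exact hA'M hM (hub ▸ hu)
  have hb1' : b' ≠ 1 := by
    intro h
    rw [h, mul_one] at hub'
    exact hA'M hM' (hub' ▸ hu')
  have hu1 : u ≠ 1 := by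
    rintro rfl
    have h2 : a' ∈ A := hSA (by rw [hb, mul_one] at hau; exact hau)
    exact ha1 (F.inter_same hc hA hA' hAA h2 ha' ha2)
  have hu1' : u' ≠ 1 := by
    rintro rfl
    have h2 : a' ∈ A := hSA (by rw [hb', mul_one] at hau'; exact hau')
    exact ha1 (F.inter_same hc hA hA' hAA h2 ha' ha2)
  -- the Sylow subgroup
  let P : Sylow 2 A := IsPGroup.toSylow (P := S.subgroupOf A) (hSp.comap_subtype) hSi
  have hP : ∀ x : A, x ∈ (P : Subgroup A) ↔ (x : G) ∈ S := fun x => Iff.rfl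
  have hYtop : (St d).subgroupOf A ≠ ⊤ := fun h => hnot (subgroupOf_eq_top.1 h)
  obtain ⟨⟨n, hnA⟩, hn, hodd, hna⟩ := exists_odd_conj_inv P
    (fun x hx y hy => Subtype.ext (hab x ((hP x).1 hx) y ((hP y).1 hy))) hYtop
    (fun a ha haa ha1 g hga => mem_subgroupOf.2 (hcen a ((hP a).1 ha) (congrArg Subtype.val haa)
      (fun h => ha1 (Subtype.ext h)) g g.2 (congrArg Subtype.val (mem_centralizer_singleton_iff.1 hga))))
    (a := ⟨b, hSA hau⟩) (b := ⟨b', hSA hau'⟩) ((hP _).2 hau) (Subtype.ext hbb)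
    (fun h => hb1 (congrArg Subtype.val h)) ((hP _).2 hau') (Subtype.ext hbb')
    (fun h => hb1' (congrArg Subtype.val h))
  have hna' : n * b * n⁻¹ = b' := congrArg Subtype.val hna
  rw [orderOf_mk] at hodd
  have hnS : ∀ x ∈ S, n * x * n⁻¹ ∈ S := by
    intro x hx
    exact (hP _).1 ((mem_normalizer_iff.1 hn ⟨x, hSA hx⟩).1 ((hP _).2 hx))
  have hcn : ∀ m ∈ A, ∀ x : G, m * (a' * x) * m⁻¹ = a' * (m * x * m⁻¹) := by
    intro m hm x
    have h2 := hcomm m hm a' ha'
    calc m * (a' * x) * m⁻¹ = (m * a') * x * m⁻¹ := by group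
      _ = (a' * m) * x * m⁻¹ := by rw [h2]
      _ = a' * (m * x * m⁻¹) := by group
  have hnu : n * u * n⁻¹ = u' := by rw [hub, hcn n hnA, hna', ← hub']
  have hmn : n * u * n⁻¹ ∈ cj n M := conj_mem_cj hu
  rw [hnu] at hmn
  obtain ⟨hcjs, hcjM⟩ := eq_of_inv F (F.conj n d hd) hd (cj_mem_cjs hM) hM' hmn hu' hu2' hu1'
  have hMn : cj n M' = M := by
    rcases Swap.two_cases hle hM hM' hMM.symm (mem_St.2 hcjs) with h | h
    · exact absurd (h.1.symm.trans hcjM) hMM
    · exact h.2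
  have hMM' : cj (n * n) M = M := by rw [cj_mul, hcjM, hMn]
  have h5 : n * n * u * (n * n)⁻¹ ∈ M := by
    have := conj_mem_cj (g := n * n) hu
    rwa [hMM'] at this
  have h6 : n * n * u * (n * n)⁻¹ = a' * (n * (n * b * n⁻¹) * n⁻¹) := by
    calc n * n * u * (n * n)⁻¹ = n * (n * u * n⁻¹) * n⁻¹ := by group
      _ = n * (n * (a' * b) * n⁻¹) * n⁻¹ := by rw [hub]
      _ = a' * (n * (n * b * n⁻¹) * n⁻¹) := by rw [hcn n hnA, hcn n hnA]
  have h7 : b⁻¹ * (n * (n * b * n⁻¹) * n⁻¹) = 1 := by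
    have h8 : b⁻¹ * (n * (n * b * n⁻¹) * n⁻¹) = u⁻¹ * (n * n * u * (n * n)⁻¹) := by
      rw [h6, hub]
      group
    have h9 : b⁻¹ * (n * (n * b * n⁻¹) * n⁻¹) ∈ S := mul_mem (inv_mem hau) (hnS _ (hnS _ hau))
    refine F.inter_two hc hd hcd hA hM hSp (hSA h9) ?_ h9
    rw [h8]
    exact mul_mem (inv_mem hu) h5
  have h10 : n * (n * b * n⁻¹) * n⁻¹ = b := (inv_mul_eq_one.1 h7).symm
  have h9 : Commute (n ^ 2) b := by
    change n ^ 2 * b = b * n ^ 2
    calc n ^ 2 * b = n * (n * b * n⁻¹) * n⁻¹ * n ^ 2 := by rw [pow_two]; group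
      _ = b * n ^ 2 := by rw [h10]
  have h11 : Commute n b := by
    obtain ⟨k, hk⟩ := hodd
    have h12 : (n ^ 2) ^ (k + 1) = n := by
      rw [← pow_mul]
      have : 2 * (k + 1) = orderOf n + 1 := by omega
      rw [this, pow_succ, pow_orderOf_eq_one, one_mul]
    rw [← h12]
    exact h9.pow_left _
  have h13 : b' = b := by
    rw [← hna', h11.eq]
    group
  have h14 : u = u' := by rw [hub, hub', h13]
  exact hu1 (F.inter_same hd hM hM' hMM hu (h14 ▸ hu') hu2)

end Cfsg.Agent.OddHalf.D3.Spread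

end

-- merged: Cfsg.Agent.OddHalf.D3.TwoFull
section

/-!
# ODD D3 (iii), `n = 2`: the full case (text of helper133, bb ODD 9195, (3))
-/

set_option autoImplicit false

namespace Cfsg.Agent.OddHalf.D3.TwoFull

open Cfsg.Agent.OddHalf.D3.ThreeDefs Cfsg.Agent.OddHalf.D3.ThreeFam Cfsg.Agent.OddHalf.D3.ThreeMain
open Cfsg.Agent.OddHalf.D3.Swap Cfsg.Agent.OddHalf.D3.TwoCfg Cfsg.Agent.OddHalf.D3.TwoNF
open Cfsg.Agent.OddHalf.D3.TwoKey

universe u

variable {G : Type u} [Group G]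

/-! ### Abelian Sylow 2-subgroups -/

/-- Burnside -/
theorem burnside [Finite G] {T X : Subgroup G} (hT : IsSyl T X) (hab : ∀ x ∈ T, ∀ y ∈ T, x * y = y * x) {x g : G}
    (hx : x ∈ T) (hg : g ∈ X) (hgx : g * x * g⁻¹ ∈ T) : ∃ n ∈ X, cj n T = T ∧ n * x * n⁻¹ = g * x * g⁻¹ := by
  set y := g * x * g⁻¹ with hy
  set Cy : Subgroup G := X ⊓ Subgroup.centralizer ({y} : Set G) with hCy
  have hTC : T ≤ Cy := by
    intro t ht
    refine Subgroup.mem_inf.mpr ⟨hT.1 ht, ?_⟩
    rw [Subgroup.mem_centralizer_singleton_iff]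
    exact hab t ht y hgx
  have hS := hT.le (inf_le_left : Cy ≤ X) hTC
  have hgT : cj g T ≤ Cy := by
    intro t ht
    rw [mem_cj] at ht
    refine Subgroup.mem_inf.mpr ⟨?_, ?_⟩
    · have : t = g * (g⁻¹ * t * g) * g⁻¹ := by group
      rw [this]
      exact mul_mem (mul_mem hg (hT.1 ht)) (inv_mem hg)
    · rw [Subgroup.mem_centralizer_singleton_iff, hy]
      have h1 := hab _ ht x hx
      calc t * (g * x * g⁻¹) = g * ((g⁻¹ * t * g) * x) * g⁻¹ := by group
        _ = g * (x * (g⁻¹ * t * g)) * g⁻¹ := by rw [h1]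
        _ = g * x * g⁻¹ * t := by group
  obtain ⟨k, hk, hkT⟩ := hS.2.2 (cj g T) hgT (hT.2.1.map _)
  rw [Subgroup.mem_inf, Subgroup.mem_centralizer_singleton_iff] at hk
  refine ⟨k * g, mul_mem hk.1 hg, ?_, ?_⟩
  · rw [cj_mul]
    refine Subgroup.eq_of_le_of_card_ge hkT ?_
    rw [card_cj, card_cj]
  · calc k * g * x * (k * g)⁻¹ = k * (g * x * g⁻¹) * k⁻¹ := by group
      _ = k * y * k⁻¹ := by rw [← hy]
      _ = y := by rw [hk.2]; group

/-- an element of `T` with a commuting conjugate is moved by the normaliser of `T` -/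
theorem fus [Finite G] {T X : Subgroup G} (hT : IsSyl T X) (hab : ∀ x ∈ T, ∀ y ∈ T, x * y = y * x) {u l : G}
    (hu : u ∈ T) (hl : l ∈ X) (hc : u * (l * u * l⁻¹) = (l * u * l⁻¹) * u) (hne : l * u * l⁻¹ ≠ u) :
    ∃ n ∈ X, cj n T = T ∧ n * u * n⁻¹ ≠ u := by
  set Cu : Subgroup G := X ⊓ Subgroup.centralizer ({u} : Set G) with hCu
  have hTC : T ≤ Cu := by
    intro t ht
    refine Subgroup.mem_inf.mpr ⟨hT.1 ht, ?_⟩
    rw [Subgroup.mem_centralizer_singleton_iff]
    exact hab t ht u hu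
  have hS := hT.le (inf_le_left : Cu ≤ X) hTC
  have hz : cj l (Subgroup.zpowers u) ≤ Cu := by
    have h1 : Subgroup.zpowers (l * u * l⁻¹) ≤ Cu := by
      rw [Subgroup.zpowers_le, Subgroup.mem_inf, Subgroup.mem_centralizer_singleton_iff]
      exact ⟨mul_mem (mul_mem hl (hT.1 hu)) (inv_mem hl), hc.symm⟩
    refine le_trans ?_ h1
    intro x hx
    rw [mem_cj] at hx
    obtain ⟨k, hk⟩ := Subgroup.mem_zpowers_iff.mp hx
    refine Subgroup.mem_zpowers_iff.mpr ⟨k, ?_⟩
    rw [conj_zpow, hk]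
    group
  have hz2 : IsPGroup 2 (cj l (Subgroup.zpowers u)) :=
    (hT.2.1.to_le (by rw [Subgroup.zpowers_le]; exact hu)).map _
  obtain ⟨k, hk, hkT⟩ := hS.2.2 _ hz hz2
  rw [Subgroup.mem_inf, Subgroup.mem_centralizer_singleton_iff] at hk
  have h1 : (k * l) * u * (k * l)⁻¹ ∈ T := by
    have h2 := hkT (conj_mem_cj (g := k) (conj_mem_cj (g := l) (Subgroup.mem_zpowers u)))
    have e : k * (l * u * l⁻¹) * k⁻¹ = (k * l) * u * (k * l)⁻¹ := by group
    rwa [e] at h2
  obtain ⟨n, hn, hnT, hnu⟩ := burnside hT hab hu (mul_mem hk.1 hl) h1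
  refine ⟨n, hn, hnT, ?_⟩
  rw [hnu]
  intro h2
  apply hne
  calc l * u * l⁻¹ = k⁻¹ * ((k * l) * u * (k * l)⁻¹) * k := by group
    _ = k⁻¹ * u * k := by rw [h2]
    _ = u := by rw [mul_assoc, ← hk.2]; group

/-- **Averaging**: an involution `u` of the abelian Sylow subgroup `T` of `X` is `z` modulo `B` for some `z` fixed by
`N_X(T)`, if `[u, N_X(T)] ≤ B` -/
theorem average [Finite G] {T X B : Subgroup G} (hT : IsSyl T X) (hab : ∀ x ∈ T, ∀ y ∈ T, x * y = y * x)
    {u : G} (hu : u ∈ T) (hu2 : u * u = 1) (hB : ∀ n ∈ X, cj n T = T → u * (n * u * n⁻¹) ∈ B) :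
    ∃ z ∈ T, z * z = 1 ∧ (∀ n ∈ X, cj n T = T → n * z * n⁻¹ = z) ∧ u * z ∈ B := by
  have hp : Fact (Nat.Prime 2) := ⟨Nat.prime_two⟩
  let N : Subgroup G := X ⊓ Nm ({T} : Set (Subgroup G))
  have hN : ∀ n ∈ N, cj n T = T := fun n hn => (Subgroup.mem_inf.mp hn).2 T rfl
  have hN' : ∀ n ∈ X, cj n T = T → n ∈ N := by
    intro n hn hnT
    refine Subgroup.mem_inf.mpr ⟨hn, ?_⟩
    intro A hA
    rw [Set.mem_singleton_iff] at hA
    rw [hA]; exact hnT
  have hTN : T ≤ N := fun t ht => hN' t (hT.1 ht) (cj_eq_of_mem ht)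
  let _ : CommGroup T := { (inferInstance : Group T) with mul_comm := fun a b => Subtype.ext (hab a a.2 b b.2) }
  let act : MulAction N T :=
    { smul := fun q n => ⟨(q : G) * n * (q : G)⁻¹, conj_mem_of_cj (hN q q.2) n.2⟩
      one_smul := fun n => Subtype.ext (by change ((1 : N) : G) * n * ((1 : N) : G)⁻¹ = n; simp)
      mul_smul := fun a b n => Subtype.ext (by
        change ((a * b : N) : G) * n * ((a * b : N) : G)⁻¹ = (a : G) * ((b : G) * n * (b : G)⁻¹) * (a : G)⁻¹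
        push_cast; group) }
  have hsm : ∀ (q : N) (n : T), ((q • n : T) : G) = (q : G) * n * (q : G)⁻¹ := fun _ _ => rfl
  let u' : T := ⟨u, hu⟩
  -- the orbit has odd length
  have hodd : Odd (Nat.card (MulAction.orbit N u')) := by
    have hTs : T.subgroupOf N ≤ MulAction.stabilizer N u' := by
      intro t ht
      rw [MulAction.mem_stabilizer_iff]
      apply Subtype.ext
      have h1 := hab t ht u hu
      rw [hsm]
      change (t : G) * u * (t : G)⁻¹ = u
      rw [h1]; group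
    have hSN := hT.le (inf_le_left : N ≤ X) hTN
    have h2 : IsPGroup 2 (T.subgroupOf N) := hT.2.1.of_injective (Subgroup.subgroupOfEquivOfLe hTN).toMonoidHom
      (Subgroup.subgroupOfEquivOfLe hTN).injective
    obtain ⟨P, hP⟩ := h2.exists_le_sylow
    have hPT : (P : Subgroup N).map N.subtype = T := hSN.eq (Subgroup.map_subtype_le _) (P.2.map _) (by
      intro s hs
      exact ⟨⟨s, hTN hs⟩, hP hs, rfl⟩)
    have hPle : (P : Subgroup N) ≤ MulAction.stabilizer N u' := by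
      refine le_trans ?_ hTs
      intro x hx
      have : (x : G) ∈ (P : Subgroup N).map N.subtype := ⟨x, hx, rfl⟩
      rw [hPT] at this
      exact this
    have h3 : (MulAction.stabilizer N u').index ∣ (P : Subgroup N).index := Subgroup.index_dvd_of_le hPle
    have h4 : ¬ 2 ∣ (P : Subgroup N).index := Sylow.not_dvd_index P
    rw [MulAction.index_stabilizer] at h3
    rw [← Nat.not_even_iff_odd, even_iff_two_dvd]
    intro h5
    apply h4
    refine dvd_trans ?_ h3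
    rwa [Nat.card_coe_set_eq] at h5
  let _ : Fintype (MulAction.orbit N u') := Fintype.ofFinite _
  let z : T := ∏ x : MulAction.orbit N u', (x : T)
  have hsq : ∀ x : MulAction.orbit N u', (x : T) * x = 1 := by
    rintro ⟨_, n, rfl⟩
    apply Subtype.ext
    change ((n • u' : T) : G) * ((n • u' : T) : G) = 1
    rw [hsm]
    calc (n : G) * (u' : G) * (n : G)⁻¹ * ((n : G) * (u' : G) * (n : G)⁻¹) = (n : G) * (u * u) * (n : G)⁻¹ := by
          change (n : G) * u * (n : G)⁻¹ * ((n : G) * u * (n : G)⁻¹) = _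
          group
      _ = 1 := by rw [hu2]; group
  refine ⟨z, z.2, ?_, ?_, ?_⟩
  · have h1 : z * z = 1 := by
      change (∏ x : MulAction.orbit N u', (x : T)) * ∏ x : MulAction.orbit N u', (x : T) = 1
      rw [← Finset.prod_mul_distrib]
      exact Finset.prod_eq_one fun x _ => hsq x
    exact congrArg Subtype.val h1
  · intro n hn hnT
    let n' : N := ⟨n, hN' n hn hnT⟩
    let φ : T →* T := MonoidHom.mk' (fun t => n' • t) (by
      intro a b
      apply Subtype.ext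
      change (n' : G) * (a * b : G) * (n' : G)⁻¹ = ((n' : G) * a * (n' : G)⁻¹) * ((n' : G) * b * (n' : G)⁻¹)
      group)
    have h1 : φ z = z := by
      change φ (∏ x : MulAction.orbit N u', (x : T)) = ∏ x : MulAction.orbit N u', (x : T)
      rw [map_prod]
      exact Fintype.prod_equiv (MulAction.toPerm n' : Equiv.Perm (MulAction.orbit N u')) _ _ (fun x => rfl)
    exact congrArg Subtype.val h1
  · have h1 : ∏ x : MulAction.orbit N u', (u' * (x : T)) ∈ B.subgroupOf T := by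
      refine Subgroup.prod_mem _ ?_
      rintro ⟨_, n, rfl⟩ -
      exact hB n (Subgroup.mem_inf.mp n.2).1 (hN n n.2)
    rw [Finset.prod_mul_distrib, Finset.prod_const, Finset.card_univ, ← Nat.card_eq_fintype_card] at h1
    obtain ⟨m, hm⟩ := hodd
    have h2 : u' ^ Nat.card (MulAction.orbit N u') = u' := by
      rw [hm, pow_succ, pow_mul, pow_two]
      have : u' * u' = 1 := Subtype.ext hu2
      rw [this, one_pow, one_mul]
    rw [h2] at h1
    exact h1

/-- an odd power which is a 2-element -/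
theorem exists_odd_pow [Finite G] (x : G) : ∃ m k : ℕ, (x ^ (2 * m + 1)) ^ 2 ^ k = 1 := by
  obtain ⟨k, m, hm, h⟩ := Nat.exists_eq_two_pow_mul_odd (orderOf_pos x).ne'
  obtain ⟨r, hr⟩ := hm
  refine ⟨r, k, ?_⟩
  rw [← hr, ← pow_mul, mul_comm, ← h, pow_orderOf_eq_one]

/-! ### The full case -/

section
variable {𝓒 : Set (Set (Subgroup G))} {Q : Subgroup G}

/-- all intersections with members are Sylow -/
structure FL (𝓒 : Set (Set (Subgroup G))) (Q : Subgroup G) : Prop extends Cfg 𝓒 Q where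
  syl : ∀ c ∈ 𝓒, Q ≤ Nm c → ∀ A ∈ c, IsSyl (Q ⊓ A) A

/-- `Q ∩ C(M)` is abelian -/
theorem QC_abelian [Finite G] (F : Fam2 𝓒) (C : FL 𝓒 Q) {d : Set (Subgroup G)} (hd : d ∈ 𝓒) (hQd : Q ≤ Nm d)
    {M : Subgroup G} (hM : M ∈ d) : ∀ x ∈ QC Q M, ∀ y ∈ QC Q M, x * y = y * x := by
  obtain ⟨c, hc, hQc, hcd⟩ := C.other d
  obtain ⟨A, hA, -⟩ := F.two c hc ⊥
  obtain ⟨A', hA', hne⟩ := F.two c hc A
  refine RigidSyl.abelian (F.simple c hc A hA) (F.inv c hc A hA) (C.pg.to_le QC_le)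
    (fun p hp => hQc (QC_le hp) A hA) (C.syl c hc hQc A hA) ?_ ?_
  · intro p hp s hs
    exact comm_of_two F.toFam C.pg hd hc (Ne.symm hcd) hQd hQc hM hA' hp (inf_le_QC F.toFam hc hA' hA (Ne.symm hne) hs)
  · intro p hp hpA
    exact eq_one_of_two F.toFam C.pg hd hc (Ne.symm hcd) hM hA hp (mem_QC.mpr ⟨QC_le hp, hpA⟩)

theorem inf_abelian [Finite G] (F : Fam2 𝓒) (C : FL 𝓒 Q) {d : Set (Subgroup G)} (hd : d ∈ 𝓒) (hQd : Q ≤ Nm d)
    {M : Subgroup G} (hM : M ∈ d) : ∀ x ∈ Q ⊓ M, ∀ y ∈ Q ⊓ M, x * y = y * x := by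
  obtain ⟨M', hM', hne⟩ := F.two d hd M
  intro x hx y hy
  exact QC_abelian F C hd hQd hM' x (inf_le_QC F.toFam hd hM' hM (Ne.symm hne) hx) y
    (inf_le_QC F.toFam hd hM' hM (Ne.symm hne) hy)

/-- the situation of two classes `c ≠ d`, `A ∈ c`, `M ∈ d` -/
structure Sit (𝓒 : Set (Set (Subgroup G))) (Q : Subgroup G) (c d : Set (Subgroup G)) (A M : Subgroup G) : Prop where
  hc : c ∈ 𝓒
  hd : d ∈ 𝓒
  hcd : c ≠ d
  hQc : Q ≤ Nm c
  hQd : Q ≤ Nm d
  hA : A ∈ c
  hM : M ∈ d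

theorem Sit.symm {c d : Set (Subgroup G)} {A M : Subgroup G} (S : Sit 𝓒 Q c d A M) : Sit 𝓒 Q d c M A :=
  ⟨S.hd, S.hc, Ne.symm S.hcd, S.hQd, S.hQc, S.hM, S.hA⟩

section sit
variable {c d : Set (Subgroup G)} {A M : Subgroup G} (S : Sit 𝓒 Q c d A M)

include S in
theorem Sit.norm : ∀ w ∈ QC Q M, cj w A = A := fun _ hw => S.hQc (QC_le hw) A S.hA

include S in
theorem Sit.comm (F : Fam2 𝓒) (hQ : IsPGroup 2 Q) : ∀ p ∈ Q ⊓ A, ∀ w ∈ QC Q M, p * w = w * p := by
  intro p hp w hw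
  obtain ⟨A', hA', hne⟩ := F.two c S.hc A
  exact comm_of_two F.toFam hQ S.hc S.hd S.hcd S.hQc S.hQd hA' S.hM
    (inf_le_QC F.toFam S.hc hA' S.hA (Ne.symm hne) hp) hw

/-- the group `A (Q ∩ C(M))` -/
def Sit.X : Subgroup G := mulSub A (QC Q M) S.norm

/-- its Sylow subgroup `(Q ∩ A)(Q ∩ C(M))` -/
def Sit.T (F : Fam2 𝓒) (hQ : IsPGroup 2 Q) : Subgroup G := mulSub (Q ⊓ A) (QC Q M) (comm_cj (S.comm F hQ))

theorem Sit.T_le_Q (F : Fam2 𝓒) (hQ : IsPGroup 2 Q) : S.T F hQ ≤ Q := mulSub_le inf_le_left QC_le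

theorem Sit.T_inf (F : Fam2 𝓒) (hQ : IsPGroup 2 Q) {x : G} (hx : x ∈ S.T F hQ) (hxA : x ∈ A) : x ∈ Q ⊓ A :=
  Subgroup.mem_inf.mpr ⟨S.T_le_Q F hQ hx, hxA⟩

theorem Sit.syl [Finite G] (F : Fam2 𝓒) (C : FL 𝓒 Q) : IsSyl (S.T F C.pg) S.X := by
  have hTX : S.T F C.pg ≤ S.X := mulSub_le (inf_le_right.trans le_mulSub_left) le_mulSub_right
  have hT2 : IsPGroup 2 (S.T F C.pg) := C.pg.to_le (S.T_le_Q F C.pg)
  obtain ⟨T', hT'X, hT', hTT', hcon⟩ := exists_syl hT2 hTX
  have h1 : T' ≤ S.T F C.pg := by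
    intro x hx
    obtain ⟨a, ha, p, hp, rfl⟩ := hT'X hx
    have hpT : p ∈ S.T F C.pg := le_mulSub_right hp
    have haT : a ∈ T' := by
      have : a = a * p * p⁻¹ := by group
      rw [this]
      exact mul_mem hx (inv_mem (hTT' hpT))
    have h2 : T' ⊓ A = Q ⊓ A := (C.syl c S.hc S.hQc A S.hA).eq inf_le_right (hT'.to_le inf_le_left)
      (le_inf (le_mulSub_left.trans hTT') inf_le_right)
    have h3 : a ∈ Q ⊓ A := by
      rw [← h2]; exact Subgroup.mem_inf.mpr ⟨haT, ha⟩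
    exact ⟨a, h3, p, hp, rfl⟩
  have h2 : T' = S.T F C.pg := le_antisymm h1 hTT'
  subst h2
  exact ⟨hT'X, hT', hcon⟩

theorem Sit.abelian [Finite G] (F : Fam2 𝓒) (C : FL 𝓒 Q) :
    ∀ x ∈ S.T F C.pg, ∀ y ∈ S.T F C.pg, x * y = y * x := by
  rintro _ ⟨a, ha, p, hp, rfl⟩ _ ⟨b, hb, q, hq, rfl⟩
  have h1 := S.comm F C.pg a ha q hq
  have h2 := S.comm F C.pg b hb p hp
  have h3 := inf_abelian F C S.hc S.hQc S.hA a ha b hb
  have h4 := QC_abelian F C S.hd S.hQd S.hM p hp q hq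
  calc a * p * (b * q) = a * (p * b) * q := by group
    _ = a * (b * p) * q := by rw [h2]
    _ = (a * b) * (p * q) := by group
    _ = (b * a) * (q * p) := by rw [h3, h4]
    _ = b * (a * q) * p := by group
    _ = b * (q * a) * p := by rw [h1]
    _ = b * q * (a * p) := by group

/-- an element moving `u` -/
theorem Sit.exists_mover [Finite G] (F : Fam2 𝓒) (C : FL 𝓒 Q) {u : G} (hu : u ∈ QC Q M) (hu2 : u * u = 1)
    (hu1 : u ≠ 1) : ∃ l ∈ A, cj l (S.T F C.pg) = S.T F C.pg ∧ l * u * l⁻¹ ≠ u := by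
  have huA : ∃ a ∈ A, u * a ≠ a * u := by
    by_contra hcon
    push Not at hcon
    exact hu1 (eq_one_of_two F.toFam C.pg S.hd S.hc (Ne.symm S.hcd) S.hM S.hA hu (mem_QC.mpr ⟨QC_le hu, hcon⟩))
  obtain ⟨l0, hl0, hne, hcom⟩ := F.zst c S.hc A S.hA u hu2 (S.hQc (QC_le hu) A S.hA) huA
  have huT : u ∈ S.T F C.pg := le_mulSub_right hu
  obtain ⟨n, ⟨a, ha, p, hp, rfl⟩, hnT, hnu⟩ := fus (S.syl F C) (S.abelian F C) huT (le_mulSub_left hl0) hcom hne
  have hpT : p ∈ S.T F C.pg := le_mulSub_right hp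
  refine ⟨a, ha, ?_, ?_⟩
  · have h1 : a = a * p * p⁻¹ := by group
    rw [h1]
    exact cj_mul_eq hnT (cj_eq_of_mem (inv_mem hpT))
  · intro h1
    apply hnu
    have h2 := S.abelian F C p hpT u huT
    calc a * p * u * (a * p)⁻¹ = a * (p * u) * p⁻¹ * a⁻¹ := by group
      _ = a * (u * p) * p⁻¹ * a⁻¹ := by rw [h2]
      _ = a * u * a⁻¹ := by group
      _ = u := h1

/-- an element of `A ∩ Nm d` normalising `T` centralises `Q ∩ C(M)` -/
theorem Sit.cent_of_Nm [Finite G] (F : Fam2 𝓒) (C : FL 𝓒 Q) {x : G} (hx : x ∈ A)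
    (hxT : cj x (S.T F C.pg) = S.T F C.pg) (hxd : x ∈ Nm d) {b : G} (hb : b ∈ QC Q M) : x * b * x⁻¹ = b := by
  have hbT : b ∈ S.T F C.pg := le_mulSub_right hb
  have h1 : x * b * x⁻¹ ∈ Q := S.T_le_Q F C.pg (conj_mem_of_cj hxT hbT)
  have h2 : x * b * x⁻¹ ∈ QC Q M := by
    refine mem_QC.mpr ⟨h1, ?_⟩
    intro m hm
    have h3 : x⁻¹ * m * x ∈ M := by
      have := conj_mem_of_cj (cj_inv_eq (hxd M S.hM)) hm
      rwa [inv_inv] at this
    have h4 := (mem_QC.mp hb).2 _ h3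
    calc x * b * x⁻¹ * m = x * (b * (x⁻¹ * m * x)) * x⁻¹ := by group
      _ = x * ((x⁻¹ * m * x) * b) * x⁻¹ := by rw [h4]
      _ = _ := by group
  have h3 : b⁻¹ * (x * b * x⁻¹) ∈ A := by
    have h4 : b⁻¹ * x * b⁻¹⁻¹ ∈ A := conj_mem_of_cj (S.hQc (inv_mem (QC_le hb)) A S.hA) hx
    have e : b⁻¹ * (x * b * x⁻¹) = b⁻¹ * x * b⁻¹⁻¹ * x⁻¹ := by group
    rw [e]
    exact mul_mem h4 (inv_mem hx)
  have h4 := tri_QC F.toFam C.pg S.hc S.hd S.hcd S.hA S.hM _ (mul_mem (inv_mem hb) h2) h3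
  exact (inv_mul_eq_one.mp h4).symm

/-- 2-elements normalising `T` are in `T` -/
theorem Sit.mem_T [Finite G] (F : Fam2 𝓒) (C : FL 𝓒 Q) {x : G} (hx : x ∈ A)
    (hxT : cj x (S.T F C.pg) = S.T F C.pg) {k : ℕ} (hk : x ^ 2 ^ k = 1) : x ∈ S.T F C.pg := by
  have hz : IsPGroup 2 (Subgroup.zpowers x) := by
    rintro ⟨y, hy⟩
    obtain ⟨m, rfl⟩ := Subgroup.mem_zpowers_iff.mp hy
    refine ⟨k, Subtype.ext ?_⟩
    change (x ^ m) ^ 2 ^ k = 1
    rw [← zpow_natCast, ← zpow_mul, mul_comm, zpow_mul, zpow_natCast, hk, one_zpow]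
  have hn : ∀ w ∈ Subgroup.zpowers x, cj w (S.T F C.pg) = S.T F C.pg := by
    have : Subgroup.zpowers x ≤ Nm ({S.T F C.pg} : Set (Subgroup G)) := by
      rw [Subgroup.zpowers_le]
      intro Y hY
      rw [Set.mem_singleton_iff] at hY
      rw [hY]; exact hxT
    exact fun w hw => this hw _ rfl
  have hS := S.syl F C
  have h1 := hS.eq (mulSub_le hS.1 (by rw [Subgroup.zpowers_le]; exact le_mulSub_left hx))
    (isPGroup_mulSub (h := hn) hS.2.1 hz) le_mulSub_left
  rw [← h1]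
  exact le_mulSub_right (Subgroup.mem_zpowers x)

/-- a mover is not in `St d` -/
theorem Sit.not_St [Finite G] (F : Fam2 𝓒) (C : FL 𝓒 Q) {u l : G} (hu : u ∈ QC Q M) (hl : l ∈ A)
    (hlT : cj l (S.T F C.pg) = S.T F C.pg) (hne : l * u * l⁻¹ ≠ u) : l ∉ St d := by
  intro hSt
  have h2 : Commute (l * l) u := by
    have h3 : l * l ∈ Nm d := by
      by_cases h : l ∈ Nm d
      · exact mul_mem h h
      · exact mul_mem_Nm F S.hd hSt h hSt h
    have h4 := S.cent_of_Nm F C (mul_mem hl hl) (cj_mul_eq hlT hlT) h3 hu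
    exact mul_inv_eq_iff_eq_mul.mp h4
  obtain ⟨m, k, hmk⟩ := exists_odd_pow l
  have hcpow : ∀ n : ℕ, cj (l ^ n) (S.T F C.pg) = S.T F C.pg := by
    intro n
    induction n with
    | zero => rw [pow_zero, cj_one]
    | succ n ih => rw [pow_succ]; exact cj_mul_eq ih hlT
  have h3 : l ^ (2 * m + 1) ∈ S.T F C.pg := S.mem_T F C (pow_mem hl _) (hcpow _) hmk
  have h4 : Commute (l ^ (2 * m + 1)) u := S.abelian F C _ h3 u (le_mulSub_right hu)
  have h5 : Commute (l ^ (2 * m)) u := by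
    rw [pow_mul, pow_two]
    exact h2.pow_left m
  apply hne
  have h6 : l = (l ^ (2 * m))⁻¹ * l ^ (2 * m + 1) := by rw [pow_succ]; group
  have h7 : Commute l u := by
    rw [h6]
    exact h5.inv_left.mul_left h4
  rw [h7.eq]; group

include S in
/-- `|Q ∩ C(M)| ≤ |Q ∩ A|` -/
theorem Sit.card_le [Finite G] (F : Fam2 𝓒) (C : FL 𝓒 Q) :
    Nat.card (QC Q M) ≤ Nat.card (Q ⊓ A : Subgroup G) := by
  by_cases htriv : ∃ u ∈ QC Q M, u ≠ 1
  · obtain ⟨u0, hu0, hu01⟩ := htriv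
    obtain ⟨n, hn2, hn1⟩ := exists_pow_inv C.pg (QC_le hu0) hu01
    obtain ⟨l, hl, hlT, hlu⟩ := S.exists_mover F C (pow_mem hu0 n) hn2 hn1
    have hlSt := S.not_St F C (pow_mem hu0 n) hl hlT hlu
    have hmem : ∀ b ∈ QC Q M, b⁻¹ * (l * b * l⁻¹) ∈ Q ⊓ A := by
      intro b hb
      have hbT : b ∈ S.T F C.pg := le_mulSub_right hb
      refine S.T_inf F C.pg (mul_mem (inv_mem hbT) (conj_mem_of_cj hlT hbT)) ?_
      have h4 : b⁻¹ * l * b⁻¹⁻¹ ∈ A := conj_mem_of_cj (S.hQc (inv_mem (QC_le hb)) A S.hA) hl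
      have e : b⁻¹ * (l * b * l⁻¹) = b⁻¹ * l * b⁻¹⁻¹ * l⁻¹ := by group
      rw [e]
      exact mul_mem h4 (inv_mem hl)
    let φ : QC Q M →* (Q ⊓ A : Subgroup G) := MonoidHom.mk' (fun b => ⟨(b : G)⁻¹ * (l * b * l⁻¹), hmem b b.2⟩) (by
      intro b b'
      apply Subtype.ext
      change ((b : G) * b')⁻¹ * (l * (b * b') * l⁻¹) = (b : G)⁻¹ * (l * b * l⁻¹) * ((b' : G)⁻¹ * (l * b' * l⁻¹))
      have hbT : (b : G) ∈ S.T F C.pg := le_mulSub_right b.2
      have hbT' : (b' : G) ∈ S.T F C.pg := le_mulSub_right b'.2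
      have h1 := S.abelian F C (b' : G)⁻¹ (inv_mem hbT') _ (mul_mem (inv_mem hbT) (conj_mem_of_cj hlT hbT))
      calc ((b : G) * b')⁻¹ * (l * (b * b') * l⁻¹) = (b' : G)⁻¹ * ((b : G)⁻¹ * (l * b * l⁻¹)) * (l * b' * l⁻¹) := by group
        _ = ((b : G)⁻¹ * (l * b * l⁻¹)) * (b' : G)⁻¹ * (l * b' * l⁻¹) := by rw [h1]
        _ = _ := by group)
    refine Nat.card_le_card_of_injective φ ?_
    rw [injective_iff_map_eq_one]
    intro b hb
    have h1 : (b : G)⁻¹ * (l * b * l⁻¹) = 1 := congrArg Subtype.val hb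
    have h2 : l * b * l⁻¹ = b := (inv_mul_eq_one.mp h1).symm
    have h3 : (b : G) ∈ QC Q (cj l M) := by
      refine mem_QC.mpr ⟨QC_le b.2, ?_⟩
      intro m hm
      rw [mem_cj] at hm
      have h4 := (mem_QC.mp b.2).2 _ hm
      rw [← h2]
      calc l * b * l⁻¹ * m = l * (b * (l⁻¹ * m * l)) * l⁻¹ := by group
        _ = l * ((l⁻¹ * m * l) * b) * l⁻¹ := by rw [h4]
        _ = _ := by group
    exact Subtype.ext (eq_one_of_two F.toFam C.pg S.hd (F.conj l d S.hd) (fun h => hlSt h.symm) S.hM (cj_mem_cjs S.hM)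
      b.2 h3)
  · push Not at htriv
    have : QC Q M = ⊥ := by
      rw [eq_bot_iff]
      intro x hx
      rw [Subgroup.mem_bot]
      exact htriv x hx
    rw [this, Subgroup.card_bot]
    exact Nat.card_pos

end sit

/-- **(EQ)**: `Q ∩ C(M) ≤ M'` for `M' ≠ M` -/
theorem QC_le_mem [Finite G] (F : Fam2 𝓒) (C : FL 𝓒 Q) {d : Set (Subgroup G)} (hd : d ∈ 𝓒) (hQd : Q ≤ Nm d)
    {M M' : Subgroup G} (hM : M ∈ d) (hM' : M' ∈ d) (hne : M' ≠ M) : QC Q M ≤ Q ⊓ M' := by
  obtain ⟨c, hc, hQc, hcd⟩ := C.other d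
  obtain ⟨A, hA, -⟩ := F.two c hc ⊥
  obtain ⟨A', hA', hneA⟩ := F.two c hc A
  have h1 := Sit.card_le (⟨hc, hd, hcd, hQc, hQd, hA, hM⟩ : Sit 𝓒 Q c d A M) F C
  have h2 := Sit.card_le (⟨hd, hc, Ne.symm hcd, hQd, hQc, hM', hA'⟩ : Sit 𝓒 Q d c M' A') F C
  have h3 := card_inf_le (Q := Q) F.toFam hc hA hA' hneA
  have h4 : Q ⊓ M' = QC Q M := Subgroup.eq_of_le_of_card_ge (inf_le_QC F.toFam hd hM hM' hne)
    (h1.trans (h3.trans h2))
  rw [h4]

section sit
variable {c d : Set (Subgroup G)} {A M : Subgroup G} (S : Sit 𝓒 Q c d A M)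

include S in
/-- **(inn)** -/
theorem Sit.inn [Finite G] (F : Fam2 𝓒) (C : FL 𝓒 Q) {u : G} (hu : u ∈ QC Q M) (hu2 : u * u = 1) :
    ∃ s ∈ Q ⊓ A, s * s = 1 ∧ s * u ∈ QC Q A := by
  have huT : u ∈ S.T F C.pg := le_mulSub_right hu
  have hSyl := S.syl F C
  have hab := S.abelian F C
  obtain ⟨z, hz, hz2, hzN, huz⟩ := average (B := Q ⊓ A) hSyl hab huT hu2 (by
    rintro n ⟨a, ha, p, hp, rfl⟩ hnT
    have hpT : p ∈ S.T F C.pg := le_mulSub_right hp
    refine S.T_inf F C.pg (mul_mem huT (conj_mem_of_cj hnT huT)) ?_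
    have h1 := hab p hpT u huT
    have h2 : u * a * u⁻¹ ∈ A := conj_mem_of_cj (S.hQc (QC_le hu) A S.hA) ha
    have e : u * (a * p * u * (a * p)⁻¹) = (u * a * u⁻¹) * (u * u) * a⁻¹ := by
      calc u * (a * p * u * (a * p)⁻¹) = u * a * (p * u) * p⁻¹ * a⁻¹ := by group
        _ = u * a * (u * p) * p⁻¹ * a⁻¹ := by rw [h1]
        _ = _ := by group
    rw [e, hu2, mul_one]
    exact mul_mem h2 (inv_mem ha))
  -- `z` is isolated, so centralises `A`
  have hzA : ∀ a ∈ A, z * a = a * z := by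
    by_contra hcon
    push Not at hcon
    obtain ⟨l, hl, hne, hcom⟩ := F.zst c S.hc A S.hA z hz2 (S.hQc (S.T_le_Q F C.pg hz) A S.hA) hcon
    obtain ⟨n, hn, hnT, hnz⟩ := fus hSyl hab hz (le_mulSub_left hl) hcom hne
    exact hnz (hzN n hn hnT)
  have hcomm := hab u huT z hz
  refine ⟨u * z, huz, ?_, ?_⟩
  · calc u * z * (u * z) = u * (z * u) * z := by group
      _ = u * (u * z) * z := by rw [hcomm]
      _ = (u * u) * (z * z) := by group
      _ = 1 := by rw [hu2, hz2, one_mul]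
  · have e : u * z * u = z := by
      rw [hcomm]
      calc z * u * u = z * (u * u) := by group
        _ = z := by rw [hu2, mul_one]
    rw [e]
    exact mem_QC.mpr ⟨S.T_le_Q F C.pg hz, hzA⟩

/-- the involutions of `Q ∩ A`, and 1 -/
abbrev Om (Q A : Subgroup G) := {x : G // x ∈ Q ⊓ A ∧ x * x = 1}

include S in
theorem Sit.exists_inj [Finite G] (F : Fam2 𝓒) (C : FL 𝓒 Q) :
    ∃ f : Om Q M → Om Q A, Function.Injective f ∧ ∀ u, (f u : G) * u ∈ QC Q A := by
  obtain ⟨M', hM', hne⟩ := F.two d S.hd M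
  let S' : Sit 𝓒 Q c d A M' := ⟨S.hc, S.hd, S.hcd, S.hQc, S.hQd, S.hA, hM'⟩
  have hle : Q ⊓ M ≤ QC Q M' := inf_le_QC F.toFam S.hd hM' S.hM (Ne.symm hne)
  have h : ∀ u : Om Q M, ∃ s : Om Q A, (s : G) * u ∈ QC Q A := by
    rintro ⟨u, hu, hu2⟩
    obtain ⟨s, hs, hs2, hsu⟩ := S'.inn F C (hle hu) hu2
    exact ⟨⟨s, hs, hs2⟩, hsu⟩
  choose f hf using h
  refine ⟨f, ?_, hf⟩
  intro u v huv
  have h1 := hf u
  have h2 := hf v
  rw [huv] at h1
  have h3 : (u : G)⁻¹ * v ∈ QC Q A := by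
    have e : (u : G)⁻¹ * v = ((f v : G) * u)⁻¹ * ((f v : G) * v) := by group
    rw [e]
    exact mul_mem (inv_mem h1) h2
  have h4 : (u : G)⁻¹ * v ∈ QC Q M' := mul_mem (inv_mem (hle u.2.1)) (hle v.2.1)
  have h5 := eq_one_of_two F.toFam C.pg S.hc S.hd S.hcd S.hA hM' h3 h4
  exact Subtype.ext (inv_mul_eq_one.mp h5)

include S in
theorem Sit.surj [Finite G] (F : Fam2 𝓒) (C : FL 𝓒 Q) {a : G} (ha : a ∈ Q ⊓ A) (ha2 : a * a = 1) :
    ∃ u ∈ Q ⊓ M, u * u = 1 ∧ a * u ∈ QC Q A := by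
  obtain ⟨f, hf, hfC⟩ := S.exists_inj F C
  obtain ⟨g, hg, -⟩ := S.symm.exists_inj F C
  have h1 : Function.Bijective f := (Nat.bijective_iff_injective_and_card f).mpr
    ⟨hf, le_antisymm (Nat.card_le_card_of_injective f hf) (Nat.card_le_card_of_injective g hg)⟩
  obtain ⟨u, hu⟩ := h1.2 ⟨a, ha, ha2⟩
  refine ⟨u, u.2.1, u.2.2, ?_⟩
  have := hfC u
  rwa [hu] at this

end sit

/-- **The full case is impossible.** -/
theorem full_impossible [Finite G] (F : Fam2 𝓒) (C : FL 𝓒 Q) : False := by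
  obtain ⟨c, hc, d, hd, hcd, hQc, hQd⟩ := C.ex
  obtain ⟨A, hA, -⟩ := F.two c hc ⊥
  obtain ⟨A', hA', hne⟩ := F.two c hc A
  obtain ⟨M, hM, -⟩ := F.two d hd ⊥
  obtain ⟨M', hM', hneM⟩ := F.two d hd M
  have S : Sit 𝓒 Q c d A M := ⟨hc, hd, hcd, hQc, hQd, hA, hM⟩
  have S1 : Sit 𝓒 Q c d A' M := ⟨hc, hd, hcd, hQc, hQd, hA', hM⟩
  have S2 : Sit 𝓒 Q c d A' M' := ⟨hc, hd, hcd, hQc, hQd, hA', hM'⟩
  have e1 : QC Q A ≤ Q ⊓ A' := QC_le_mem F C hc hQc hA hA' hne
  have e2 : QC Q A' ≤ Q ⊓ A := QC_le_mem F C hc hQc hA' hA (Ne.symm hne)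
  obtain ⟨a', ha', ha'Q, ha'2, ha'1⟩ := C.inv c hc hQc A' hA'
  obtain ⟨u, hu, hu2, hau⟩ := S1.surj F C (Subgroup.mem_inf.mpr ⟨ha'Q, ha'⟩) ha'2
  obtain ⟨u', hu', hu2', hau'⟩ := S2.surj F C (Subgroup.mem_inf.mpr ⟨ha'Q, ha'⟩) ha'2
  -- `A ≰ St d`
  have hnot : ¬ A ≤ St d := by
    obtain ⟨v, hv, hvQ, hv2, hv1⟩ := C.inv d hd hQd M' hM'
    have hv' : v ∈ QC Q M := inf_le_QC F.toFam hd hM hM' hneM (Subgroup.mem_inf.mpr ⟨hvQ, hv⟩)
    obtain ⟨l, hl, hlT, hlv⟩ := S.exists_mover F C hv' hv2 hv1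
    exact fun h => S.not_St F C hv' hl hlT hlv (h hl)
  exact Spread.full_false F.toFam hc hd hcd (F.le2 d hd) hA hA' (Ne.symm hne) hM hM' (Ne.symm hneM)
    (F.simple c hc A hA) (C.syl c hc hQc A hA) (inf_abelian F C hc hQc hA)
    (fun a ha ha2 _ => by
      obtain ⟨u, hu, hu2, hau⟩ := S.surj F C ha ha2
      exact ⟨u, (Subgroup.mem_inf.mp hu).2, hu2, (Subgroup.mem_inf.mp (e1 hau)).2⟩)
    ha' ha'2 ha'1 (Subgroup.mem_inf.mp hu).2 hu2 (Subgroup.mem_inf.mp hu').2 hu2' (e2 hau) (e2 hau') hnot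

/-- **Reduction to (B2)**: an adjacent pair gives a configuration with witnesses. -/
theorem exists_nf [Finite G] (F : Fam2 𝓒) {Λ Λ' : Set (Subgroup G)} (hΛ : Λ ∈ 𝓒) (hΛ' : Λ' ∈ 𝓒) (hne : Λ ≠ Λ')
    (h : Ad Λ Λ') : ∃ Q : Subgroup G, NF 𝓒 Q := by
  obtain ⟨Q, C⟩ := exists_cfg F hΛ hΛ' hne h
  rcases all_or F C with h1 | h1
  · exact (full_impossible F (⟨C, h1⟩ : FL 𝓒 Q)).elim
  · exact ⟨Q, C, h1⟩

end

end Cfsg.Agent.OddHalf.D3.TwoFull

end
end

-- part: OddHalf/D3/BEven/BetaOne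
section
prune_inst 0x4100400510000000018001020000440000000020040000000a005020008004000000001082004100000884000000040030800104010000000000000080400800000020200400000000000000000080c00000000000000000000000000000000000000000
set_option linter.all false
open scoped Cfsg.Agent.FastGrp

/-!
# ODD D3 (iii), even centre: the case (beta1) (text of helper760, bb ODD 13086, with shortcuts)

`B1 L S A R y`: `L` quasisimple, `S` a Sylow 2-subgroup of `L`, `A` a self-centralising abelian normal subgroup of `S`,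
`R` a group normalising `L` and `S`, centralising `A`, whose nontrivial elements have fixed points on `S` inside `A`,
`y ∈ S - A` an element inverting `A` with `y² ∈ A` such that `R` fuses `y A`. If `Z(L) ∩ S ≠ 1`, then `S` has only one
involution.
-/

set_option autoImplicit false

namespace Cfsg.Agent.OddHalf.D3.BEven.BetaOne

open Cfsg Cfsg.Agent.OddHalf.D3.ThreeDefs Cfsg.Agent.OddHalf.D3.ThreeFam Cfsg.Agent.OddHalf.D3.ThreeMain
open Cfsg.Agent.OddHalf.D3.TwoCfg
open scoped commutatorElement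

universe u

variable {G : Type u} [Group G]

/-! ### Tools -/

theorem isPGroup_zpowers {x : G} {k : ℕ} (h : x ^ 2 ^ k = 1) : IsPGroup 2 (Subgroup.zpowers x) := by
  rintro ⟨y, hy⟩
  obtain ⟨m, rfl⟩ := Subgroup.mem_zpowers_iff.mp hy
  refine ⟨k, Subtype.ext ?_⟩
  change (x ^ m) ^ 2 ^ k = 1
  rw [← zpow_natCast, ← zpow_mul, mul_comm, zpow_mul, zpow_natCast, h, one_zpow]

theorem card_le_two_mul [Finite G] {A T : Subgroup G} (x : G) (h : ∀ q ∈ T, q ∈ A ∨ x⁻¹ * q ∈ A) :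
    Nat.card T ≤ 2 * Nat.card A := by
  have h1 : (T : Set G) ⊆ (A : Set G) ∪ (fun a => x * a) '' (A : Set G) := by
    intro q hq
    rcases h q hq with h1 | h1
    · exact Or.inl h1
    · exact Or.inr ⟨x⁻¹ * q, h1, by simp⟩
  have h2 := Set.ncard_le_ncard h1 (Set.toFinite _)
  have h3 := Set.ncard_union_le (A : Set G) ((fun a => x * a) '' (A : Set G))
  have h4 : ((fun a => x * a) '' (A : Set G)).ncard ≤ (A : Set G).ncard :=
    Set.ncard_image_le (Set.toFinite _)
  have h5 : (T : Set G).ncard = Nat.card T := rfl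
  have h6 : (A : Set G).ncard = Nat.card A := rfl
  omega

/-- the normaliser of `S` inside `L` -/
def NL (L S : Subgroup G) : Subgroup G := L ⊓ Nm ({S} : Set (Subgroup G))

theorem mem_NL {L S : Subgroup G} {x : G} : x ∈ NL L S ↔ x ∈ L ∧ cj x S = S := by
  rw [NL, Subgroup.mem_inf, mem_Nm]
  constructor
  · rintro ⟨h1, h2⟩
    exact ⟨h1, h2 S rfl⟩
  · rintro ⟨h1, h2⟩
    refine ⟨h1, ?_⟩
    intro A hA
    rw [Set.mem_singleton_iff] at hA
    rw [hA]; exact h2

/-- a 2-element of `N_L(S)` lies in the Sylow subgroup `S` -/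
theorem mem_of_norm [Finite G] {L S : Subgroup G} (hS : IsSyl S L) {n : G} (hn : n ∈ L) (hnS : cj n S = S) {k : ℕ}
    (hk : n ^ 2 ^ k = 1) : n ∈ S := by
  have h1 : IsSyl S (NL L S) := hS.le (fun x hx => (mem_NL.mp hx).1) fun s hs => mem_NL.mpr ⟨hS.1 hs, cj_eq_of_mem hs⟩
  have h2 : Subgroup.zpowers n ≤ NL L S := by
    rw [Subgroup.zpowers_le]; exact mem_NL.mpr ⟨hn, hnS⟩
  obtain ⟨l, hl, h3⟩ := h1.2.2 _ h2 (isPGroup_zpowers hk)
  have h4 := h3 (conj_mem_cj (g := l) (Subgroup.mem_zpowers n))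
  have h5 := (mem_NL.mp hl).2
  have h6 : n = l⁻¹ * (l * n * l⁻¹) * l := by group
  rw [h6]
  rw [← h5, mem_cj] at h4
  have h7 : l⁻¹ * (l * n * l⁻¹) * l ∈ S := h4
  exact h7

/-- Burnside, for elements central in the Sylow subgroup -/
theorem burnsideZ [Finite G] {T X : Subgroup G} (hT : IsSyl T X) {x g : G} (hg : g ∈ X)
    (hxT : ∀ t ∈ T, t * x = x * t) (hgT : ∀ t ∈ T, t * (g * x * g⁻¹) = (g * x * g⁻¹) * t) :
    ∃ n ∈ X, cj n T = T ∧ n * x * n⁻¹ = g * x * g⁻¹ := by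
  set y := g * x * g⁻¹ with hy
  set Cy : Subgroup G := X ⊓ Subgroup.centralizer ({y} : Set G) with hCy
  have hTC : T ≤ Cy := by
    intro t ht
    refine Subgroup.mem_inf.mpr ⟨hT.1 ht, ?_⟩
    rw [Subgroup.mem_centralizer_singleton_iff]
    exact hgT t ht
  have hS := hT.le (inf_le_left : Cy ≤ X) hTC
  have hgT : cj g T ≤ Cy := by
    intro t ht
    rw [mem_cj] at ht
    refine Subgroup.mem_inf.mpr ⟨?_, ?_⟩
    · have : t = g * (g⁻¹ * t * g) * g⁻¹ := by group
      rw [this]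
      exact mul_mem (mul_mem hg (hT.1 ht)) (inv_mem hg)
    · rw [Subgroup.mem_centralizer_singleton_iff, hy]
      have h1 := hxT _ ht
      calc t * (g * x * g⁻¹) = g * ((g⁻¹ * t * g) * x) * g⁻¹ := by group
        _ = g * (x * (g⁻¹ * t * g)) * g⁻¹ := by rw [h1]
        _ = g * x * g⁻¹ * t := by group
  obtain ⟨k, hk, hkT⟩ := hS.2.2 (cj g T) hgT (hT.2.1.map _)
  rw [Subgroup.mem_inf, Subgroup.mem_centralizer_singleton_iff] at hk
  refine ⟨k * g, mul_mem hk.1 hg, ?_, ?_⟩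
  · rw [cj_mul]
    refine Subgroup.eq_of_le_of_card_ge hkT ?_
    rw [card_cj, card_cj]
  · calc k * g * x * (k * g)⁻¹ = k * (g * x * g⁻¹) * k⁻¹ := by group
      _ = k * y * k⁻¹ := by rw [← hy]
      _ = y := by rw [hk.2]; group

theorem conj_npow (n b z : G) (hz : z * z = 1) (hnz : n * z = z * n) (h : n * b * n⁻¹ = z * b) (j : ℕ) :
    n ^ (2 * j + 1) * b * (n ^ (2 * j + 1))⁻¹ = z * b := by
  have h2 : n ^ 2 * b * (n ^ 2)⁻¹ = b := by
    calc n ^ 2 * b * (n ^ 2)⁻¹ = n * (n * b * n⁻¹) * n⁻¹ := by rw [pow_two]; group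
      _ = n * (z * b) * n⁻¹ := by rw [h]
      _ = (n * z) * b * n⁻¹ := by group
      _ = z * (n * b * n⁻¹) := by rw [hnz]; group
      _ = (z * z) * b := by rw [h]; group
      _ = b := by rw [hz, one_mul]
  have h3 : ∀ j : ℕ, (n ^ 2) ^ j * b * ((n ^ 2) ^ j)⁻¹ = b := by
    intro j
    induction j with
    | zero => simp
    | succ j ih =>
      calc (n ^ 2) ^ (j + 1) * b * ((n ^ 2) ^ (j + 1))⁻¹ = (n ^ 2) ^ j * (n ^ 2 * b * (n ^ 2)⁻¹) * ((n ^ 2) ^ j)⁻¹ := by
            rw [pow_succ]; group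
        _ = b := by rw [h2, ih]
  calc n ^ (2 * j + 1) * b * (n ^ (2 * j + 1))⁻¹ = n * ((n ^ 2) ^ j * b * ((n ^ 2) ^ j)⁻¹) * n⁻¹ := by
        rw [pow_succ', pow_mul]; group
    _ = z * b := by rw [h3, h]

/-- `z b` conjugate to `b`: fusion inside a subgroup `T` which is Sylow in the centraliser of `b` -/
theorem fuse [Finite G] {L S T : Subgroup G} (hS : IsSyl S L) (hTn : ∀ s ∈ S, cj s T = T) {b : G}
    (hT : IsSyl T (L ⊓ Subgroup.centralizer ({b} : Set G))) {z : G} (hzc : ∀ l ∈ L, z * l = l * z)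
    (hz2 : z * z = 1) {h : G} (hh : h ∈ L) (hb : h * b * h⁻¹ = z * b) :
    ∃ l ∈ L, cj l T = T ∧ ∃ s ∈ S, s * (l * b * l⁻¹) * s⁻¹ = z * (l * b * l⁻¹) := by
  set C : Subgroup G := L ⊓ Subgroup.centralizer ({b} : Set G) with hC
  have hTL : T ≤ L := hT.1.trans inf_le_left
  have hhT : cj h T ≤ C := by
    intro t ht
    rw [mem_cj] at ht
    have ht1 := Subgroup.mem_inf.mp (hT.1 ht)
    have ht2 := Subgroup.mem_centralizer_singleton_iff.mp ht1.2
    have htL : t ∈ L := by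
      have : t = h * (h⁻¹ * t * h) * h⁻¹ := by group
      rw [this]
      exact mul_mem (mul_mem hh ht1.1) (inv_mem hh)
    refine Subgroup.mem_inf.mpr ⟨htL, ?_⟩
    rw [Subgroup.mem_centralizer_singleton_iff]
    have h1 : t * (z * b) = (z * b) * t := by
      rw [← hb]
      calc t * (h * b * h⁻¹) = h * ((h⁻¹ * t * h) * b) * h⁻¹ := by group
        _ = h * (b * (h⁻¹ * t * h)) * h⁻¹ := by rw [ht2]
        _ = h * b * h⁻¹ * t := by group
    have h2 : z * (t * b) = z * (b * t) := by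
      calc z * (t * b) = z * t * b := by group
        _ = t * z * b := by rw [hzc t htL]
        _ = t * (z * b) := by group
        _ = z * (b * t) := by rw [h1]; group
    exact mul_left_cancel h2
  obtain ⟨k, hk, hkT⟩ := hT.2.2 (cj h T) hhT (hT.2.1.map _)
  rw [Subgroup.mem_inf, Subgroup.mem_centralizer_singleton_iff] at hk
  have hnT : cj (k * h) T = T := by
    rw [cj_mul]
    refine Subgroup.eq_of_le_of_card_ge hkT ?_
    rw [card_cj, card_cj]
  have hnL : k * h ∈ L := mul_mem hk.1 hh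
  have hnb : (k * h) * b * (k * h)⁻¹ = z * b := by
    calc (k * h) * b * (k * h)⁻¹ = k * (h * b * h⁻¹) * k⁻¹ := by group
      _ = (k * z) * b * k⁻¹ := by rw [hb]; group
      _ = z * (k * b) * k⁻¹ := by rw [← hzc k hk.1]; group
      _ = z * b := by rw [hk.2]; group
  generalize k * h = n at hnT hnL hnb
  obtain ⟨m, e, hme⟩ := TwoFull.exists_odd_pow n
  have hmb := conj_npow n b z hz2 (hzc n hnL).symm hnb m
  have hN : n ^ (2 * m + 1) ∈ NL L T := pow_mem (mem_NL.mpr ⟨hnL, hnT⟩) _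
  generalize n ^ (2 * m + 1) = n' at hme hmb hN
  have hSN : IsSyl S (NL L T) := hS.le (fun x hx => (mem_NL.mp hx).1) fun s hs => mem_NL.mpr ⟨hS.1 hs, hTn s hs⟩
  obtain ⟨l, hl, hlS⟩ := hSN.2.2 (Subgroup.zpowers n') (by rw [Subgroup.zpowers_le]; exact hN) (isPGroup_zpowers hme)
  rw [mem_NL] at hl
  refine ⟨l, hl.1, hl.2, l * n' * l⁻¹, hlS (conj_mem_cj (Subgroup.mem_zpowers n')), ?_⟩
  calc l * n' * l⁻¹ * (l * b * l⁻¹) * (l * n' * l⁻¹)⁻¹ = l * (n' * b * n'⁻¹) * l⁻¹ := by group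
    _ = (l * z) * b * l⁻¹ := by rw [hmb]; group
    _ = z * (l * b * l⁻¹) := by rw [← hzc l hl.1]; group

/-! ### Transfer -/

theorem index_ne_two {L : Type*} [Group L] (h : commutator L = ⊤) (H : Subgroup L) : H.index ≠ 2 := by
  intro h2
  have hn : H.Normal := Subgroup.normal_of_index_eq_two h2
  have h1 : commutator L ≤ H := by
    rw [commutator_def, Subgroup.commutator_le]
    intro a _ b _
    have hm := fun x y : L => Subgroup.mul_mem_iff_of_index_two h2 (a := x) (b := y)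
    rw [commutatorElement_def, hm, hm, hm, inv_mem_iff, inv_mem_iff]
    by_cases ha : a ∈ H <;> by_cases hb : b ∈ H <;> simp [ha, hb]
  rw [h, top_le_iff] at h1
  rw [h1, Subgroup.index_top] at h2
  omega

theorem index_odd [Finite G] {L S : Subgroup G} (hS : IsSyl S L) : Odd (S.subgroupOf L).index := by
  have _hp : Fact (Nat.Prime 2) := ⟨Nat.prime_two⟩
  have h1 : IsPGroup 2 (S.subgroupOf L) := hS.2.1.comap_subtype
  obtain ⟨P, hP⟩ := h1.exists_le_sylow
  have h2 : (P : Subgroup L) = S.subgroupOf L := by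
    have h3 : ((P : Subgroup L).map L.subtype) = S := by
      refine hS.eq (Subgroup.map_subtype_le _) (P.2.map _) ?_
      intro s hs
      exact ⟨⟨s, hS.1 hs⟩, hP hs, rfl⟩
    ext x
    rw [Subgroup.mem_subgroupOf, ← h3]
    constructor
    · intro hx
      exact ⟨x, hx, rfl⟩
    · rintro ⟨y, hy, hyx⟩
      rw [← Subtype.ext (a1 := y) (a2 := x) hyx]
      exact hy
  rw [← h2]
  exact TwoFusion.IndexTwo.odd_index_sylow P

/-- The transfer of a central element. -/
theorem transfer_of_mem_center {G A : Type*} [Group G] [CommGroup A] {H : Subgroup G}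
    (χ : H →* A) [H.FiniteIndex] (c : G) (hc : c ∈ Subgroup.center G) (hcH : c ∈ H) :
    MonoidHom.transfer χ c = χ ⟨c, hcH⟩ ^ H.index := by
  have h := MonoidHom.transfer_eq_pow χ c (by
    intro k g _
    have h1 := Subgroup.mem_center_iff.mp (Subgroup.pow_mem _ hc k) g
    calc g⁻¹ * c ^ k * g = g⁻¹ * (g * c ^ k) := by rw [mul_assoc, h1]
      _ = c ^ k := by group)
  rw [h]
  rw [← map_pow]
  rfl

/-- a central involution of the perfect group `L` is killed by every homomorphism of a Sylow 2-subgroup into an abelian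
group -/
theorem center_transfer [Finite G] {L S : Subgroup G} (hL : IsQuasisimple L) (hS : IsSyl S L) {z : G} (hz : z ∈ S)
    (hzc : ∀ l ∈ L, z * l = l * z) (hz2 : z * z = 1) {B : Type*} [CommGroup B] (χ : S →* B) : χ ⟨z, hz⟩ = 1 := by
  let H : Subgroup L := S.subgroupOf L
  let χ' : H →* B := χ.comp (Subgroup.subgroupOfEquivOfLe hS.1).toMonoidHom
  have hodd := index_odd hS
  have h1 := transfer_of_mem_center χ' (⟨z, hS.1 hz⟩ : L) (by
    rw [Subgroup.mem_center_iff]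
    intro l
    exact Subtype.ext (hzc l l.2).symm) (show (⟨z, hS.1 hz⟩ : L) ∈ H from hz)
  have h2 : MonoidHom.transfer χ' (⟨z, hS.1 hz⟩ : L) = 1 := by
    have h3 : (⟨z, hS.1 hz⟩ : L) ∈ (MonoidHom.transfer χ').ker := by
      have h4 : commutator L ≤ (MonoidHom.transfer χ').ker := Abelianization.commutator_subset_ker _
      rw [hL.1.commutator_eq_top] at h4
      exact h4 (Subgroup.mem_top _)
    exact h3
  rw [h2] at h1
  have h3 : χ' ⟨(⟨z, hS.1 hz⟩ : L), hz⟩ * χ' ⟨(⟨z, hS.1 hz⟩ : L), hz⟩ = 1 := by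
    rw [← map_mul]
    have : (⟨(⟨z, hS.1 hz⟩ : L), hz⟩ : H) * ⟨(⟨z, hS.1 hz⟩ : L), hz⟩ = 1 := by
      apply Subtype.ext; apply Subtype.ext
      exact hz2
    rw [this, map_one]
  obtain ⟨m, hm⟩ := hodd
  change 1 = χ' ⟨(⟨z, hS.1 hz⟩ : L), hz⟩ ^ H.index at h1
  have hm' : H.index = 2 * m + 1 := hm
  rw [hm', pow_succ, pow_mul, pow_two, h3, one_pow, one_mul] at h1
  exact h1.symm

/-! ### The configuration -/

/-- the configuration (beta1) -/
structure B1 (L S A R : Subgroup G) (y : G) : Prop where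
  qs : IsQuasisimple L
  syl : IsSyl S L
  le : A ≤ S
  nrm : ∀ s ∈ S, cj s A = A
  ab : ∀ a ∈ A, ∀ b ∈ A, a * b = b * a
  self : ∀ s ∈ S, (∀ a ∈ A, s * a = a * s) → s ∈ A
  RL : ∀ x ∈ R, cj x L = L
  RS : ∀ x ∈ R, cj x S = S
  RA : ∀ x ∈ R, ∀ a ∈ A, x * a = a * x
  RC : ∀ x ∈ R, x ≠ 1 → ∀ s ∈ S, x * s = s * x → s ∈ A
  yS : y ∈ S
  yA : y ∉ A
  ysq : y * y ∈ A
  yinv : ∀ a ∈ A, y * a * y⁻¹ = a⁻¹
  phi : ∀ a ∈ A, ∃ x ∈ R, x * y * x⁻¹ = y * a

section
variable {L S A R : Subgroup G} {y : G}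

namespace B1

theorem central_mem (B : B1 L S A R y) {z : G} (hz : z ∈ S) (hzc : ∀ l ∈ L, z * l = l * z) : z ∈ A :=
  B.self z hz fun a ha => hzc a (B.syl.1 (B.le ha))

theorem central_sq (B : B1 L S A R y) {z : G} (hz : z ∈ S) (hzc : ∀ l ∈ L, z * l = l * z) : z * z = 1 := by
  have h1 := B.yinv z (B.central_mem hz hzc)
  have h2 := hzc y (B.syl.1 B.yS)
  have h3 : z = z⁻¹ := by
    rw [← h1, ← h2]; group
  calc z * z = z * z⁻¹ := by rw [← h3]
    _ = 1 := mul_inv_cancel z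

/-- `v⁻¹ x v x⁻¹ ∈ A` for `v ∈ S`, `x ∈ R` -/
theorem r_mem (B : B1 L S A R y) {v x : G} (hv : v ∈ S) (hx : x ∈ R) : v⁻¹ * (x * v * x⁻¹) ∈ A := by
  refine B.self _ (mul_mem (inv_mem hv) (conj_mem_of_cj (B.RS x hx) hv)) ?_
  intro a ha
  have h1 : x⁻¹ * a * x = a := by
    have := B.RA x hx a ha
    rw [mul_assoc, ← this]; group
  have h2 : v * a * v⁻¹ ∈ A := conj_mem_of_cj (B.nrm v hv) ha
  have h3 : x * (v * a * v⁻¹) * x⁻¹ = v * a * v⁻¹ := by
    rw [B.RA x hx _ h2]; group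
  calc v⁻¹ * (x * v * x⁻¹) * a = v⁻¹ * (x * (v * (x⁻¹ * a * x) * v⁻¹) * x⁻¹) * (x * v * x⁻¹) := by group
    _ = v⁻¹ * (x * (v * a * v⁻¹) * x⁻¹) * (x * v * x⁻¹) := by rw [h1]
    _ = v⁻¹ * (v * a * v⁻¹) * (x * v * x⁻¹) := by rw [h3]
    _ = a * (v⁻¹ * (x * v * x⁻¹)) := by group

/-- `R` fuses `v A`, for every `v ∈ S - A` -/
theorem surj [Finite G] (B : B1 L S A R y) {v : G} (hv : v ∈ S) (hvA : v ∉ A) {a : G} (ha : a ∈ A) :
    ∃ x ∈ R, x * v * x⁻¹ = v * a := by
  choose! f hf1 hf2 using B.phi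
  let F : A → R := fun a => ⟨f a, hf1 a a.2⟩
  have hF : Function.Injective F := by
    intro a b hab
    have h1 : f a = f b := congrArg Subtype.val hab
    have h2 := hf2 a a.2
    rw [h1, hf2 b b.2] at h2
    exact Subtype.ext (mul_left_cancel h2).symm
  let g : R → A := fun x => ⟨v⁻¹ * (x * v * (x : G)⁻¹), B.r_mem hv x.2⟩
  have hg : Function.Injective g := by
    intro x x' hxx
    have h1 : v⁻¹ * (x * v * (x : G)⁻¹) = v⁻¹ * (x' * v * (x' : G)⁻¹) := congrArg Subtype.val hxx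
    have h2 : (x : G) * v * (x : G)⁻¹ = x' * v * (x' : G)⁻¹ := mul_left_cancel h1
    by_contra hne
    refine hvA (B.RC ((x' : G)⁻¹ * x) (mul_mem (inv_mem x'.2) x.2) ?_ v hv ?_)
    · intro h3
      apply hne
      rw [inv_mul_eq_one] at h3
      exact Subtype.ext h3.symm
    · calc (x' : G)⁻¹ * x * v = (x' : G)⁻¹ * (x * v * (x : G)⁻¹) * x := by group
        _ = (x' : G)⁻¹ * (x' * v * (x' : G)⁻¹) * x := by rw [h2]
        _ = v * ((x' : G)⁻¹ * x) := by group
  have h3 : Nat.card A = Nat.card R :=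
    le_antisymm (Nat.card_le_card_of_injective F hF) (Nat.card_le_card_of_injective g hg)
  have h4 : Function.Bijective g := (Nat.bijective_iff_injective_and_card g).mpr ⟨hg, h3.symm⟩
  obtain ⟨x, hx⟩ := h4.2 ⟨a, ha⟩
  refine ⟨x, x.2, ?_⟩
  have h5 : v⁻¹ * (x * v * (x : G)⁻¹) = a := congrArg Subtype.val hx
  rw [← h5]; group

/-- squares lie in `A` -/
theorem sq_mem [Finite G] (B : B1 L S A R y) {z : G} (hz : z ∈ S) (hzc : ∀ l ∈ L, z * l = l * z) (hz1 : z ≠ 1)
    {v : G} (hv : v ∈ S) : v * v ∈ A := by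
  by_cases hvA : v ∈ A
  · exact mul_mem hvA hvA
  · obtain ⟨x, hx, h1⟩ := B.surj hv hvA (B.central_mem hz hzc)
    have hx1 : x ≠ 1 := by
      rintro rfl
      apply hz1
      have h2 : v * z = v := by rw [← h1]; group
      exact mul_eq_left.mp h2
    refine B.RC x hx hx1 _ (mul_mem hv hv) ?_
    have h3 := hzc v (B.syl.1 hv)
    calc x * (v * v) = (x * v * x⁻¹) * (x * v * x⁻¹) * x := by group
      _ = v * (z * v) * z * x := by rw [h1]; group
      _ = v * v * (z * z) * x := by rw [h3]; group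
      _ = v * v * x := by rw [B.central_sq hz hzc, mul_one]

/-- elements outside `A` invert `A` -/
theorem inv_of_not [Finite G] (B : B1 L S A R y) {z : G} (hz : z ∈ S) (hzc : ∀ l ∈ L, z * l = l * z) (hz1 : z ≠ 1)
    {v : G} (hv : v ∈ S) (hvA : v ∉ A) {a : G} (ha : a ∈ A) : v * a * v⁻¹ = a⁻¹ := by
  obtain ⟨x, hx, h1⟩ := B.surj hv hvA ha
  have h2 := B.RA x hx _ (B.sq_mem hz hzc hz1 hv)
  have h3 : v * v = (v * a) * (v * a) := by
    rw [← h1]
    calc v * v = (v * v) * x * x⁻¹ := by group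
      _ = x * (v * v) * x⁻¹ := by rw [h2]
      _ = _ := by group
  have h4 : v = a * (v * a) := by
    apply mul_left_cancel (a := v)
    rw [h3]; group
  calc v * a * v⁻¹ = a⁻¹ * (a * (v * a)) * v⁻¹ := by group
    _ = a⁻¹ := by rw [← h4]; group

/-- `S = A ∪ y A` -/
theorem two [Finite G] (B : B1 L S A R y) {z : G} (hz : z ∈ S) (hzc : ∀ l ∈ L, z * l = l * z) (hz1 : z ≠ 1)
    {v : G} (hv : v ∈ S) (hvA : v ∉ A) : y⁻¹ * v ∈ A := by
  refine B.self _ (mul_mem (inv_mem B.yS) hv) ?_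
  intro a ha
  have h1 := B.inv_of_not hz hzc hz1 hv hvA ha
  have h2 := B.yinv a ha
  calc y⁻¹ * v * a = y⁻¹ * (v * a * v⁻¹) * v := by group
    _ = y⁻¹ * (y * a * y⁻¹) * v := by rw [h1, h2]
    _ = a * (y⁻¹ * v) := by group

theorem sq_eq [Finite G] (B : B1 L S A R y) {z : G} (hz : z ∈ S) (hzc : ∀ l ∈ L, z * l = l * z) (hz1 : z ≠ 1)
    {v : G} (hv : v ∈ S) (hvA : v ∉ A) : v * v = y * y := by
  have h1 := B.two hz hzc hz1 hv hvA
  set a := y⁻¹ * v with ha
  have h2 : v = y * a := by rw [ha]; group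
  have h3 := B.yinv a h1
  have h4 : y * a = a⁻¹ * y := by rw [← h3]; group
  have h5 := B.ab _ B.ysq a h1
  calc v * v = (y * a) * (y * a) := by rw [h2]
    _ = (a⁻¹ * y) * (y * a) := by rw [h4]
    _ = a⁻¹ * ((y * y) * a) := by group
    _ = y * y := by rw [h5]; group

/-- involutions of `A` are central in `S` -/
theorem om_central [Finite G] (B : B1 L S A R y) {z : G} (hz : z ∈ S) (hzc : ∀ l ∈ L, z * l = l * z) (hz1 : z ≠ 1)
    {o : G} (ho : o ∈ A) (ho2 : o * o = 1) {s : G} (hs : s ∈ S) : s * o = o * s := by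
  by_cases hsA : s ∈ A
  · exact B.ab s hsA o ho
  · have h1 := B.inv_of_not hz hzc hz1 hs hsA ho
    rw [inv_of_sq ho2] at h1
    calc s * o = (s * o * s⁻¹) * s := by group
      _ = o * s := by rw [h1]

end B1

/-- (beta1) with a central element `z` of `L` in `S` -/
structure B2 (L S A R : Subgroup G) (y z : G) : Prop extends B1 L S A R y where
  zS : z ∈ S
  zc : ∀ l ∈ L, z * l = l * z
  z1 : z ≠ 1

variable {z : G}

namespace B2

theorem zA (B : B2 L S A R y z) : z ∈ A := B.central_mem B.zS B.zc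

theorem zsq (B : B2 L S A R y z) : z * z = 1 := B.central_sq B.zS B.zc

theorem inv' [Finite G] (B : B2 L S A R y z) {v : G} (hv : v ∈ S) (hvA : v ∉ A) {a : G} (ha : a ∈ A) :
    v * a * v⁻¹ = a⁻¹ := B.inv_of_not B.zS B.zc B.z1 hv hvA ha

theorem two' [Finite G] (B : B2 L S A R y z) {v : G} (hv : v ∈ S) (hvA : v ∉ A) : y⁻¹ * v ∈ A :=
  B.two B.zS B.zc B.z1 hv hvA

theorem sq' [Finite G] (B : B2 L S A R y z) {v : G} (hv : v ∈ S) (hvA : v ∉ A) : v * v = y * y :=
  B.sq_eq B.zS B.zc B.z1 hv hvA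

theorem om' [Finite G] (B : B2 L S A R y z) {o : G} (ho : o ∈ A) (ho2 : o * o = 1) {s : G} (hs : s ∈ S) :
    s * o = o * s := B.om_central B.zS B.zc B.z1 ho ho2 hs

theorem A_le (B : B2 L S A R y z) : A ≤ L := B.le.trans B.syl.1

/-- commutators of `S` are squares of elements of `A` -/
theorem comm_sq [Finite G] (B : B2 L S A R y z) {s t : G} (hs : s ∈ S) (ht : t ∈ S) :
    ∃ c ∈ A, s * t * s⁻¹ * t⁻¹ = c * c := by
  by_cases hsA : s ∈ A
  · by_cases htA : t ∈ A
    · refine ⟨1, one_mem _, ?_⟩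
      rw [B.ab s hsA t htA]; group
    · have h1 := B.inv' ht htA (inv_mem hsA)
      rw [inv_inv] at h1
      refine ⟨s, hsA, ?_⟩
      calc s * t * s⁻¹ * t⁻¹ = s * (t * s⁻¹ * t⁻¹) := by group
        _ = s * s := by rw [h1]
  · by_cases htA : t ∈ A
    · refine ⟨t⁻¹, inv_mem htA, ?_⟩
      rw [B.inv' hs hsA htA]
    · have h1 : s⁻¹ * t ∈ A := by
        have h2 := mul_mem (inv_mem (B.two' hs hsA)) (B.two' ht htA)
        have h3 : (y⁻¹ * s)⁻¹ * (y⁻¹ * t) = s⁻¹ * t := by group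
        rwa [h3] at h2
      refine ⟨s⁻¹ * t, h1, ?_⟩
      set c := s⁻¹ * t with hc
      have h2 : t = s * c := by rw [hc]; group
      have h3 := B.inv' hs hsA h1
      have h4 := B.inv' hs hsA (inv_mem h1)
      rw [inv_inv] at h4
      calc s * t * s⁻¹ * t⁻¹ = s * (s * c * s⁻¹) * c⁻¹ * s⁻¹ := by rw [h2]; group
        _ = (s * c⁻¹ * s⁻¹) * (s * c⁻¹ * s⁻¹) := by rw [h3]; group
        _ = c * c := by rw [h4]

/-- squares of elements of `A` -/
def Sq (B : B2 L S A R y z) : Subgroup S where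
  carrier := {s | ∃ c ∈ A, (s : G) = c * c}
  one_mem' := ⟨1, one_mem _, by simp⟩
  mul_mem' := by
    rintro a b ⟨c, hc, h1⟩ ⟨d, hd, h2⟩
    refine ⟨c * d, mul_mem hc hd, ?_⟩
    change (a : G) * b = _
    rw [h1, h2]
    have h := B.ab c hc d hd
    calc c * c * (d * d) = c * (c * d) * d := by group
      _ = c * (d * c) * d := by rw [h]
      _ = c * d * (c * d) := by group
  inv_mem' := by
    rintro a ⟨c, hc, h1⟩
    refine ⟨c⁻¹, inv_mem hc, ?_⟩
    change (a : G)⁻¹ = _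
    rw [h1]; group

theorem commutator_le [Finite G] (B : B2 L S A R y z) : commutator S ≤ B.Sq := by
  rw [commutator_def, Subgroup.commutator_le]
  intro a _ b _
  exact B.comm_sq a.2 b.2

/-- central elements of `L` in `S` are squares of elements of `A` -/
theorem exists_sqrt [Finite G] (B : B2 L S A R y z) : ∃ c ∈ A, z = c * c := by
  have h1 := center_transfer B.qs B.syl B.zS B.zc B.zsq (Abelianization.of (G := S))
  have h2 : (⟨z, B.zS⟩ : S) ∈ (Abelianization.of (G := S)).ker := h1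
  rw [Abelianization.ker_of] at h2
  exact B.commutator_le h2

theorem ypow_even (B : B2 L S A R y z) (j : ℕ) : y ^ (2 * j) ∈ A := by
  rw [pow_mul, pow_two]; exact pow_mem B.ysq j

theorem wsq (B : B2 L S A R y z) : (y * y) * (y * y) = 1 := by
  have h1 := B.yinv _ B.ysq
  have h2 : y * y = (y * y)⁻¹ := by
    rw [← h1]; group
  calc (y * y) * (y * y) = (y * y) * (y * y)⁻¹ := by rw [← h2]
    _ = 1 := mul_inv_cancel _

/-- **transfer**: `y` is `L`-conjugate into `A` -/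
theorem exists_conj [Finite G] (B : B2 L S A R y z) : ∃ g ∈ L, g * y * g⁻¹ ∈ A := by
  by_contra hno
  push Not at hno
  let H : Subgroup L := S.subgroupOf L
  let M : Subgroup H := (A.subgroupOf L).subgroupOf H
  have hM : ∀ x : H, x ∈ M ↔ ((x : L) : G) ∈ A := fun x => Iff.rfl
  let y' : H := ⟨⟨y, B.syl.1 B.yS⟩, B.yS⟩
  have hM2 : M.index = 2 := by
    rw [Subgroup.index_eq_two_iff]
    refine ⟨y', fun b => ?_⟩
    have e : (((b * y' : H) : L) : G) = ((b : L) : G) * y := rfl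
    rw [hM, hM, e]
    by_cases hb : ((b : L) : G) ∈ A
    · right
      refine ⟨hb, fun h1 => B.yA ?_⟩
      have h2 := mul_mem (inv_mem hb) h1
      rwa [inv_mul_cancel_left] at h2
    · left
      refine ⟨?_, hb⟩
      have h1 : y⁻¹ * ((b : L) : G)⁻¹ ∈ A := B.two' (inv_mem b.2) (fun h => hb (by simpa using inv_mem h))
      have h2 := inv_mem h1
      have h3 : (y⁻¹ * ((b : L) : G)⁻¹)⁻¹ = ((b : L) : G) * y := by group
      rwa [h3] at h2
  obtain ⟨H', hH'⟩ := TwoFusion.IndexTwo.exists_index_two H (index_odd B.syl) M hM2 y' (fun h => B.yA h) (by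
    intro k g₀ h
    rw [hM, hM]
    change ((g₀ : L) : G)⁻¹ * y ^ k * g₀ ∈ A ↔ y ^ k ∈ A
    have hS : ((g₀ : L) : G)⁻¹ * y ^ k * g₀ ∈ S := h
    have hw := B.wsq
    have hw2 : (y ^ 2) ^ 2 = 1 := by rw [pow_two (y ^ 2), pow_two]; exact hw
    have g₀L : (g₀ : G)⁻¹ ∈ L := inv_mem g₀.2
    have hno1 := hno _ g₀L
    rw [inv_inv] at hno1
    rcases Nat.even_or_odd' k with ⟨j, rfl | rfl⟩
    · refine ⟨fun _ => B.ypow_even j, fun _ => ?_⟩
      have e0 : y ^ (2 * j) * y ^ (2 * j) = ((y ^ 2) ^ 2) ^ j := by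
        rw [← pow_mul, ← pow_mul, ← pow_add]; congr 1; ring
      by_contra h1
      have h2 := B.sq' hS h1
      have h3 : ((g₀ : L) : G)⁻¹ * y ^ (2 * j) * g₀ * (((g₀ : L) : G)⁻¹ * y ^ (2 * j) * g₀) = 1 := by
        calc ((g₀ : L) : G)⁻¹ * y ^ (2 * j) * g₀ * (((g₀ : L) : G)⁻¹ * y ^ (2 * j) * g₀)
            = ((g₀ : L) : G)⁻¹ * (y ^ (2 * j) * y ^ (2 * j)) * g₀ := by group
          _ = ((g₀ : L) : G)⁻¹ * ((y ^ 2) ^ 2) ^ j * g₀ := by
              rw [e0]
          _ = 1 := by rw [hw2]; group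
      rw [h3] at h2
      apply h1
      rw [pow_mul, pow_two, ← h2]
      simp
    · constructor
      · intro h1
        exfalso
        rcases Nat.even_or_odd' j with ⟨i, rfl | rfl⟩
        · have e : y ^ (2 * (2 * i) + 1) = y := by
            rw [pow_succ, pow_mul, pow_mul, hw2]; simp
          rw [e] at h1
          exact hno1 h1
        · have e : y ^ (2 * (2 * i + 1) + 1) = y⁻¹ := by
            have e2 : y ^ (2 * (2 * i + 1) + 1) * y = ((y ^ 2) ^ 2) ^ (i + 1) := by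
              rw [← pow_succ, ← pow_mul, ← pow_mul]; congr 1
            rw [hw2, one_pow] at e2
            exact eq_inv_of_mul_eq_one_left e2
          rw [e] at h1
          apply hno1
          have h2 := inv_mem h1
          have h3 : (((g₀ : L) : G)⁻¹ * y⁻¹ * g₀)⁻¹ = ((g₀ : L) : G)⁻¹ * y * g₀ := by group
          rwa [h3] at h2
      · intro h1
        exfalso
        rw [pow_succ] at h1
        exact B.yA ((Subgroup.mul_mem_cancel_left _ (B.ypow_even j)).mp h1))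
  exact index_ne_two B.qs.1.commutator_eq_top H' hH'

/-! ### Centralisers of elements of `A` -/

/-- the elements of order at most two of `A` -/
def Om (B : B2 L S A R y z) : Subgroup G where
  carrier := {a | a ∈ A ∧ a * a = 1}
  one_mem' := ⟨one_mem _, by simp⟩
  mul_mem' := by
    rintro a b ⟨ha, h1⟩ ⟨hb, h2⟩
    refine ⟨mul_mem ha hb, ?_⟩
    have h := B.ab a ha b hb
    calc a * b * (a * b) = a * (b * a) * b := by group
      _ = a * a * (b * b) := by rw [← h]; group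
      _ = 1 := by rw [h1, h2, mul_one]
  inv_mem' := by
    rintro a ⟨ha, h1⟩
    refine ⟨inv_mem ha, ?_⟩
    rw [← mul_inv_rev, h1, inv_one]

/-- `A` is a Sylow subgroup of the centraliser of any of its elements of order at least four -/
theorem syl_cent [Finite G] (B : B2 L S A R y z) {b : G} (hb : b ∈ A) (hb2 : b * b ≠ 1) :
    IsSyl A (L ⊓ Subgroup.centralizer ({b} : Set G)) := by
  have hA2 : IsPGroup 2 A := B.syl.2.1.to_le B.le
  have hAC : A ≤ L ⊓ Subgroup.centralizer ({b} : Set G) := by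
    intro a ha
    rw [Subgroup.mem_inf, Subgroup.mem_centralizer_singleton_iff]
    exact ⟨B.A_le ha, B.ab a ha b hb⟩
  obtain ⟨T, hTC, hT2, hAT, hT⟩ := exists_syl hA2 hAC
  obtain ⟨k, hk, hkS⟩ := B.syl.2.2 T (hTC.trans inf_le_left) hT2
  set b' := k * b * k⁻¹ with hb'
  have hb'2 : b' * b' ≠ 1 := by
    intro h1
    apply hb2
    calc b * b = k⁻¹ * (b' * b') * k := by rw [hb']; group
      _ = 1 := by rw [h1]; group
  have hb'S : b' ∈ S := hkS (conj_mem_cj (hAT hb))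
  have hcomm : ∀ t ∈ cj k T, t * b' = b' * t := by
    intro t ht
    rw [mem_cj] at ht
    have h1 := Subgroup.mem_centralizer_singleton_iff.mp (Subgroup.mem_inf.mp (hTC ht)).2
    calc t * b' = k * ((k⁻¹ * t * k) * b) * k⁻¹ := by rw [hb']; group
      _ = k * (b * (k⁻¹ * t * k)) * k⁻¹ := by rw [h1]
      _ = b' * t := by rw [hb']; group
  have hcard : Nat.card T ≤ Nat.card A := by
    rw [← card_cj k T]
    by_cases hbA : b' ∈ A
    · refine Nat.card_le_card_of_injective _ (Subgroup.inclusion_injective (?_ : cj k T ≤ A))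
      intro t ht
      by_contra htA
      have h1 := B.inv' (hkS ht) htA hbA
      have h2 := hcomm t ht
      apply hb'2
      have h3 : b' = b'⁻¹ := by rw [← h1, h2]; group
      calc b' * b' = b' * b'⁻¹ := by rw [← h3]
        _ = 1 := mul_inv_cancel _
    · have hlt : B.Om < A := by
        refine lt_of_le_of_ne (fun a ha => ha.1) ?_
        intro h1
        rw [← h1] at hb
        exact hb2 hb.2
      have h2 : 2 * Nat.card B.Om ≤ Nat.card A := by
        obtain ⟨m, hm⟩ := Subgroup.card_dvd_of_le hlt.le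
        have hpos : 0 < Nat.card A := Nat.card_pos
        have h3 : m ≠ 0 := by rintro rfl; omega
        have h4 : m ≠ 1 := by
          rintro rfl
          rw [mul_one] at hm
          exact hlt.ne (Subgroup.eq_of_le_of_card_ge hlt.le hm.le)
        rw [hm, mul_comm]
        exact Nat.mul_le_mul_left _ (by omega)
      refine le_trans (card_le_two_mul b' ?_) h2
      intro t ht
      have hin : ∀ s ∈ A, s * b' = b' * s → s ∈ B.Om := by
        intro s hs hsb
        refine ⟨hs, ?_⟩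
        have h5 := B.inv' hb'S hbA hs
        have h6 : s = s⁻¹ := by rw [← h5, ← hsb]; group
        calc s * s = s * s⁻¹ := by rw [← h6]
          _ = 1 := mul_inv_cancel _
      by_cases htA : t ∈ A
      · exact Or.inl (hin t htA (hcomm t ht))
      · right
        have h5 : b'⁻¹ * t ∈ A := by
          have h6 := mul_mem (inv_mem (B.two' hb'S hbA)) (B.two' (hkS ht) htA)
          have h7 : (y⁻¹ * b')⁻¹ * (y⁻¹ * t) = b'⁻¹ * t := by group
          rwa [h7] at h6
        refine hin _ h5 ?_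
        have h8 := hcomm t ht
        calc b'⁻¹ * t * b' = b'⁻¹ * (t * b') := by group
          _ = b' * (b'⁻¹ * t) := by rw [h8]; group
  have hTA : A = T := Subgroup.eq_of_le_of_card_ge hAT hcard
  rw [← hTA] at hT hT2 hTC
  exact ⟨hTC, hT2, hT⟩

/-- `y² = z` -/
theorem ysq_eq [Finite G] (B : B2 L S A R y z) : y * y = z := by
  obtain ⟨c, hc, hcz⟩ := B.exists_sqrt
  obtain ⟨g, hg, hb⟩ := B.exists_conj
  set b := g * y * g⁻¹ with hbd
  have hcy : c * y * c⁻¹ = z * y := by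
    have h1 := B.yinv _ (inv_mem hc)
    rw [inv_inv] at h1
    calc c * y * c⁻¹ = c * (y * c⁻¹ * y⁻¹) * y := by group
      _ = z * y := by rw [h1, hcz]
  have hh : (g * c * g⁻¹) * b * (g * c * g⁻¹)⁻¹ = z * b := by
    calc (g * c * g⁻¹) * b * (g * c * g⁻¹)⁻¹ = g * (c * y * c⁻¹) * g⁻¹ := by rw [hbd]; group
      _ = (g * z) * y * g⁻¹ := by rw [hcy]; group
      _ = z * b := by rw [← B.zc g hg, hbd]; group
  have hhL : g * c * g⁻¹ ∈ L := mul_mem (mul_mem hg (B.A_le hc)) (inv_mem hg)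
  have hbsq : b * b = g * (y * y) * g⁻¹ := by rw [hbd]; group
  by_cases hb2 : b * b = 1
  · -- `b` is central in `S`
    exfalso
    have hSC : IsSyl S (L ⊓ Subgroup.centralizer ({b} : Set G)) := by
      refine B.syl.le inf_le_left fun s hs => ?_
      rw [Subgroup.mem_inf, Subgroup.mem_centralizer_singleton_iff]
      exact ⟨B.syl.1 hs, B.om' hb hb2 hs⟩
    obtain ⟨l, hl, hlS, s, hs, h1⟩ := fuse B.syl (fun s hs => cj_eq_of_mem hs) hSC B.zc B.zsq hhL hh
    have h2 : l⁻¹ * s * l ∈ S := by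
      rw [← hlS, mem_cj] at hs
      exact hs
    have h3 := B.om' hb hb2 h2
    have h4 : s * (l * b * l⁻¹) * s⁻¹ = l * b * l⁻¹ := by
      calc s * (l * b * l⁻¹) * s⁻¹ = l * ((l⁻¹ * s * l) * b) * l⁻¹ * s⁻¹ := by group
        _ = l * b * l⁻¹ := by rw [h3]; group
    rw [h4] at h1
    exact B.z1 (mul_eq_right.mp h1.symm)
  · obtain ⟨l, hl, hlA, s, hs, h1⟩ := fuse B.syl B.nrm (B.syl_cent hb hb2) B.zc B.zsq hhL hh
    have hb' : l * b * l⁻¹ ∈ A := conj_mem_of_cj hlA hb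
    set b' := l * b * l⁻¹ with hb'd
    have h2 : b' * b' = z := by
      by_cases hsA : s ∈ A
      · exfalso
        have h3 : s * b' * s⁻¹ = b' := by rw [B.ab s hsA b' hb']; group
        rw [h3] at h1
        exact B.z1 (mul_eq_right.mp h1.symm)
      · rw [B.inv' hs hsA hb'] at h1
        have h3 : z * (b' * b') = 1 := by
          rw [← mul_assoc, ← h1]; group
        calc b' * b' = z * z * (b' * b') := by rw [B.zsq, one_mul]
          _ = z := by rw [mul_assoc, h3, mul_one]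
    have h3 : (l * g) * (y * y) * (l * g)⁻¹ = z := by
      rw [← h2, hb'd, hbd]; group
    calc y * y = (l * g)⁻¹ * ((l * g) * (y * y) * (l * g)⁻¹) * (l * g) := by group
      _ = (l * g)⁻¹ * (z * (l * g)) := by rw [h3]; group
      _ = z := by rw [B.zc _ (mul_mem hl hg)]; group

theorem sqz [Finite G] (B : B2 L S A R y z) {v : G} (hv : v ∈ S) (hvA : v ∉ A) : v * v = z := by
  rw [B.sq' hv hvA, B.ysq_eq]

/-- involutions of `S` lie in `A` -/
theorem inv_mem_A [Finite G] (B : B2 L S A R y z) {v : G} (hv : v ∈ S) (hv2 : v * v = 1) : v ∈ A := by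
  by_contra h
  rw [B.sqz hv h] at hv2
  exact B.z1 hv2

/-! ### Squares which are involutions -/

/-- the only involution which is a square of an element of `A` is `z` -/
theorem sq_cases [Finite G] (B : B2 L S A R y z) {a₀ : G} (ha₀ : a₀ ∈ A) (h4 : (a₀ * a₀) * (a₀ * a₀) = 1) :
    a₀ * a₀ = 1 ∨ a₀ * a₀ = z := by
  by_contra hcon
  push Not at hcon
  obtain ⟨hne1, hnez⟩ := hcon
  obtain ⟨g, hg, hb⟩ := B.exists_conj
  set b := g * y * g⁻¹ with hbd
  have hb2 : b * b = z := by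
    calc b * b = g * (y * y) * g⁻¹ := by rw [hbd]; group
      _ = (g * z) * g⁻¹ := by rw [B.ysq_eq]
      _ = z := by rw [← B.zc g hg]; group
  have hA := B.syl_cent hb (by rw [hb2]; exact B.z1)
  -- `D = C_S(y)`
  set D : Subgroup G := S ⊓ Subgroup.centralizer ({y} : Set G) with hD
  have hmemD : ∀ x, x ∈ D ↔ x ∈ S ∧ x * y = y * x := by
    intro x
    rw [hD, Subgroup.mem_inf, Subgroup.mem_centralizer_singleton_iff]
  have hD2 : IsPGroup 2 D := B.syl.2.1.to_le inf_le_left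
  have hgD : cj g D ≤ L ⊓ Subgroup.centralizer ({b} : Set G) := by
    intro x hx
    rw [mem_cj, hmemD] at hx
    rw [Subgroup.mem_inf, Subgroup.mem_centralizer_singleton_iff]
    constructor
    · have : x = g * (g⁻¹ * x * g) * g⁻¹ := by group
      rw [this]
      exact mul_mem (mul_mem hg (B.syl.1 hx.1)) (inv_mem hg)
    · calc x * b = g * ((g⁻¹ * x * g) * y) * g⁻¹ := by rw [hbd]; group
        _ = g * (y * (g⁻¹ * x * g)) * g⁻¹ := by rw [hx.2]
        _ = b * x := by rw [hbd]; group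
  obtain ⟨k, hk, hkA⟩ := hA.2.2 (cj g D) hgD (hD2.map _)
  rw [← cj_mul] at hkA
  rw [Subgroup.mem_inf, Subgroup.mem_centralizer_singleton_iff] at hk
  have hg1 : k * g ∈ L := mul_mem hk.1 hg
  have hyD : y ∈ D := (hmemD y).mpr ⟨B.yS, rfl⟩
  generalize k * g = g₁ at hkA hg1
  set E := cj g₁ D with hE
  -- every subgroup of `A` is normal in `S`
  have hSE : ∀ s ∈ S, cj s E = E := by
    intro s hs
    refine Subgroup.eq_of_le_of_card_ge ?_ (card_cj s E).ge
    intro x hx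
    rw [mem_cj] at hx
    have h1 := hkA hx
    by_cases hsA : s ∈ A
    · have h2 := B.ab s hsA _ h1
      have h3 : x = s⁻¹ * x * s := by
        calc x = s * (s⁻¹ * x * s) * s⁻¹ := by group
          _ = s⁻¹ * x * s := by rw [h2]; group
      rw [h3]; exact hx
    · have h2 := B.inv' hs hsA h1
      have h3 : x = (s⁻¹ * x * s)⁻¹ := by rw [← h2]; group
      rw [h3]; exact inv_mem hx
  have hSN : IsSyl S (NL L E) :=
    B.syl.le (fun x hx => (mem_NL.mp hx).1) fun s hs => mem_NL.mpr ⟨B.syl.1 hs, hSE s hs⟩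
  set W : Subgroup G := NL S D with hW
  have hW2 : IsPGroup 2 W := B.syl.2.1.to_le fun x hx => (mem_NL.mp hx).1
  have hgW : cj g₁ W ≤ NL L E := by
    intro x hx
    rw [mem_cj, hW, mem_NL] at hx
    rw [mem_NL]
    constructor
    · have : x = g₁ * (g₁⁻¹ * x * g₁) * g₁⁻¹ := by group
      rw [this]
      exact mul_mem (mul_mem hg1 (B.syl.1 hx.1)) (inv_mem hg1)
    · have e : x * g₁ = g₁ * (g₁⁻¹ * x * g₁) := by group
      rw [hE, ← cj_mul, e, cj_mul, hx.2]
  obtain ⟨c, hc, hcS⟩ := hSN.2.2 (cj g₁ W) hgW (hW2.map _)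
  rw [mem_NL] at hc
  rw [← cj_mul] at hcS
  have hE2 : cj (c * g₁) D = E := by rw [cj_mul, ← hE, hc.2]
  have hg2 : c * g₁ ∈ L := mul_mem hc.1 hg1
  generalize c * g₁ = g₂ at hcS hE2 hg2
  have hyE : g₂ * y * g₂⁻¹ ∈ A := hkA (by rw [← hE2]; exact conj_mem_cj hyD)
  -- elements of order four of `A` normalise `D`
  have hAW : ∀ a ∈ A, (a * a) * (a * a) = 1 → a ∈ W := by
    intro a ha ha4
    rw [hW, mem_NL]
    refine ⟨B.le ha, ?_⟩
    refine Subgroup.eq_of_le_of_card_ge ?_ (card_cj a D).ge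
    intro x hx
    rw [mem_cj, hmemD] at hx
    have hxS : x ∈ S := by
      have : x = a * (a⁻¹ * x * a) * a⁻¹ := by group
      rw [this]
      exact mul_mem (mul_mem (B.le ha) hx.1) (inv_mem (B.le ha))
    rw [hmemD]
    refine ⟨hxS, ?_⟩
    -- `x` commutes with `a y a⁻¹ = a² y`
    have h1 : a * y * a⁻¹ = (a * a) * y := by
      have h2 := B.yinv _ (inv_mem ha)
      rw [inv_inv] at h2
      calc a * y * a⁻¹ = a * (y * a⁻¹ * y⁻¹) * y := by group
        _ = _ := by rw [h2]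
    have h3 : x * (a * y * a⁻¹) = (a * y * a⁻¹) * x := by
      calc x * (a * y * a⁻¹) = a * ((a⁻¹ * x * a) * y) * a⁻¹ := by group
        _ = a * (y * (a⁻¹ * x * a)) * a⁻¹ := by rw [hx.2]
        _ = _ := by group
    rw [h1] at h3
    have h4' := B.om' (mul_mem ha ha) ha4 hxS
    have h5 : (a * a) * (x * y) = (a * a) * (y * x) := by
      calc (a * a) * (x * y) = x * ((a * a) * y) := by rw [← mul_assoc, ← h4']; group
        _ = (a * a) * (y * x) := by rw [h3]; group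
    exact mul_left_cancel h5
  have hstep : ∀ a ∈ A, (a * a) * (a * a) = 1 → a * a ≠ z → g₂ * a * g₂⁻¹ ∈ A := by
    intro a ha ha4 haz
    have h1 : g₂ * a * g₂⁻¹ ∈ S := hcS (conj_mem_cj (hAW a ha ha4))
    by_contra h2
    have h3 := B.sqz h1 h2
    apply haz
    calc a * a = g₂⁻¹ * (g₂ * a * g₂⁻¹ * (g₂ * a * g₂⁻¹)) * g₂ := by group
      _ = g₂⁻¹ * (z * g₂) := by rw [h3]; group
      _ = z := by rw [B.zc _ hg2]; group
  have hall : ∀ a ∈ A, (a * a) * (a * a) = 1 → g₂ * a * g₂⁻¹ ∈ A := by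
    intro a ha ha4
    by_cases haz : a * a = z
    · have h1 := B.ab a ha a₀ ha₀
      have h2 : (a * a₀) * (a * a₀) = (a * a) * (a₀ * a₀) := by
        calc (a * a₀) * (a * a₀) = a * (a₀ * a) * a₀ := by group
          _ = _ := by rw [← h1]; group
      have h3 := hstep (a * a₀) (mul_mem ha ha₀) (by
        rw [h2, haz]
        have h5 := B.zc _ (B.A_le (mul_mem ha₀ ha₀))
        calc z * (a₀ * a₀) * (z * (a₀ * a₀)) = z * ((a₀ * a₀) * z) * (a₀ * a₀) := by group
          _ = (z * z) * ((a₀ * a₀) * (a₀ * a₀)) := by rw [← h5]; group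
          _ = 1 := by rw [B.zsq, h4, one_mul]) (by
        rw [h2, haz]
        intro h5
        exact hne1 (mul_eq_left.mp h5))
      have h4' := hstep a₀ ha₀ h4 hnez
      have h5 := mul_mem h3 (inv_mem h4')
      have h6 : g₂ * (a * a₀) * g₂⁻¹ * (g₂ * a₀ * g₂⁻¹)⁻¹ = g₂ * a * g₂⁻¹ := by group
      rwa [h6] at h5
    · exact hstep a ha ha4 haz
  -- the elements of order at most four
  let O4 : Subgroup G :=
    { carrier := {a | a ∈ A ∧ (a * a) * (a * a) = 1}
      one_mem' := ⟨one_mem _, by simp⟩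
      mul_mem' := by
        rintro a d ⟨ha, h1⟩ ⟨hd, h2⟩
        refine ⟨mul_mem ha hd, ?_⟩
        have h := B.ab a ha d hd
        have e : (a * d) * (a * d) = (a * a) * (d * d) := by
          calc (a * d) * (a * d) = a * (d * a) * d := by group
            _ = _ := by rw [← h]; group
        have h' := B.ab _ (mul_mem ha ha) _ (mul_mem hd hd)
        rw [e]
        calc a * a * (d * d) * (a * a * (d * d)) = (a * a) * ((d * d) * (a * a)) * (d * d) := by group
          _ = ((a * a) * (a * a)) * ((d * d) * (d * d)) := by rw [← h']; group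
          _ = 1 := by rw [h1, h2, mul_one]
      inv_mem' := by
        rintro a ⟨ha, h1⟩
        refine ⟨inv_mem ha, ?_⟩
        rw [← mul_inv_rev, ← mul_inv_rev, h1, inv_one] }
  have hO4 : cj g₂ O4 = O4 := by
    refine Subgroup.eq_of_le_of_card_ge ?_ (card_cj g₂ O4).ge
    intro x hx
    rw [mem_cj] at hx
    obtain ⟨h1, h2⟩ : g₂⁻¹ * x * g₂ ∈ A ∧ (g₂⁻¹ * x * g₂ * (g₂⁻¹ * x * g₂)) * (g₂⁻¹ * x * g₂ * (g₂⁻¹ * x * g₂)) = 1 := hx
    have h3 := hall _ h1 h2
    have h4 : g₂ * (g₂⁻¹ * x * g₂) * g₂⁻¹ = x := by group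
    rw [h4] at h3
    refine ⟨h3, ?_⟩
    calc (x * x) * (x * x) = g₂ * ((g₂⁻¹ * x * g₂ * (g₂⁻¹ * x * g₂)) * (g₂⁻¹ * x * g₂ * (g₂⁻¹ * x * g₂))) * g₂⁻¹ := by group
      _ = 1 := by rw [h2]; group
  have h1 : g₂ * y * g₂⁻¹ ∈ O4 := by
    refine ⟨hyE, ?_⟩
    have h2 := B.wsq
    calc (g₂ * y * g₂⁻¹ * (g₂ * y * g₂⁻¹)) * (g₂ * y * g₂⁻¹ * (g₂ * y * g₂⁻¹)) = g₂ * ((y * y) * (y * y)) * g₂⁻¹ := by group
      _ = 1 := by rw [h2]; group
  rw [← hO4, mem_cj] at h1
  have h2 : g₂⁻¹ * (g₂ * y * g₂⁻¹) * g₂ = y := by group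
  rw [h2] at h1
  exact B.yA h1.1

/-! ### The normaliser of `S` centralises the involutions of `A` -/

/-- the action of `x ∈ R` with `y^x = y f` on `S` -/
theorem act [Finite G] (B : B2 L S A R y z) {f x : G} (hf : f ∈ A) (hx : x ∈ R)
    (hxy : x * y * x⁻¹ = y * f) {s : G} (hs : s ∈ S) : (x * s * x⁻¹ = s ∨ x * s * x⁻¹ = s * f) := by
  by_cases hsA : s ∈ A
  · left
    rw [B.RA x hx s hsA]; group
  · right
    have h1 := B.two' hs hsA
    set a := y⁻¹ * s with ha
    have h2 : s = y * a := by rw [ha]; group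
    calc x * s * x⁻¹ = (x * y * x⁻¹) * (x * a * x⁻¹) := by rw [h2]; group
      _ = y * f * a := by rw [hxy, B.RA x hx a h1]; group
      _ = s * f := by rw [h2, mul_assoc, B.ab f hf a h1]; group

theorem act_inv [Finite G] (B : B2 L S A R y z) {f x : G} (hf : f ∈ A) (hf2 : f * f = 1) (hx : x ∈ R)
    (hxy : x * y * x⁻¹ = y * f) {s : G} (hs : s ∈ S) : (x⁻¹ * s * x = s ∨ x⁻¹ * s * x = s * f) := by
  have h1 : x⁻¹ * s * x ∈ S := by
    have := conj_mem_of_cj (cj_inv_eq (B.RS x hx)) hs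
    rwa [inv_inv] at this
  have h3 : x * f = f * x := B.RA x hx f hf
  rcases B.act hf hx hxy h1 with h2 | h2
  · left
    rw [← h2]; group
  · right
    have h4 : s = x⁻¹ * s * x * f := by rw [← h2]; group
    calc x⁻¹ * s * x = (x⁻¹ * s * x * f) * f := by rw [mul_assoc _ f f, hf2, mul_one]
      _ = s * f := by rw [← h4]

/-- `N_L(S)` centralises the involutions of `A` -/
theorem norm_fix [Finite G] (B : B2 L S A R y z) {n : G} (hn : n ∈ L) (hnS : cj n S = S) {f : G} (hf : f ∈ A)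
    (hf2 : f * f = 1) : n * f * n⁻¹ = f := by
  by_cases hf1 : f = 1
  · rw [hf1]; group
  by_cases hfz : f = z
  · rw [hfz, ← B.zc n hn]; group
  obtain ⟨x, hx, hxy⟩ := B.phi f hf
  set f' := n * f * n⁻¹ with hf'
  have hf'2 : f' * f' = 1 := by
    calc f' * f' = n * (f * f) * n⁻¹ := by rw [hf']; group
      _ = 1 := by rw [hf2]; group
  have hf'A : f' ∈ A := B.inv_mem_A (conj_mem_of_cj hnS (B.le hf)) hf'2
  -- `m = [x, n]`
  set m := x * n * x⁻¹ * n⁻¹ with hm
  have hmL : m ∈ L := mul_mem (conj_mem_of_cj (B.RL x hx) hn) (inv_mem hn)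
  have hmS : cj m S = S := by
    rw [hm]
    exact cj_mul_eq (cj_mul_eq (cj_mul_eq (B.RS x hx) hnS) (cj_inv_eq (B.RS x hx))) (cj_inv_eq hnS)
  have hninv : ∀ s ∈ S, n⁻¹ * s * n ∈ S := by
    intro s hs
    have := conj_mem_of_cj (cj_inv_eq hnS) hs
    rwa [inv_inv] at this
  -- action of `m` on `A₁ = Ω₁(A)`
  have hmo : ∀ o ∈ A, o * o = 1 → m * o * m⁻¹ = o := by
    intro o ho ho2
    have h1 : n⁻¹ * o * n ∈ A := B.inv_mem_A (hninv o (B.le ho)) (by
      calc n⁻¹ * o * n * (n⁻¹ * o * n) = n⁻¹ * (o * o) * n := by group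
        _ = 1 := by rw [ho2]; group)
    have h2 := B.RA x hx _ h1
    have h3 := B.RA x hx o ho
    calc m * o * m⁻¹ = x * n * (x⁻¹ * (n⁻¹ * o * n) * x) * n⁻¹ * x⁻¹ := by rw [hm]; group
      _ = x * n * (n⁻¹ * o * n) * n⁻¹ * x⁻¹ := by rw [mul_assoc x⁻¹, ← h2]; group
      _ = x * o * x⁻¹ := by group
      _ = o := by rw [h3]; group
  -- action of `m` on `S`
  have hms : ∀ s ∈ S, ∃ o ∈ A, o * o = 1 ∧ m * s * m⁻¹ = s * o ∧
      ((n⁻¹ * s * n) = y → o = f' ∨ o = f * f') := by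
    intro s hs
    have h1 := hninv s hs
    have hff : f * f' = f' * f := B.ab f hf f' hf'A
    have key : ∀ e e' : G, e ∈ A → x * s * x⁻¹ = s * e → x⁻¹ * (n⁻¹ * s * n) * x = (n⁻¹ * s * n) * e' → 
        n * e' * n⁻¹ ∈ A → m * s * m⁻¹ = s * (e * (n * e' * n⁻¹)) := by
      intro e e' he h2 h3 h4
      calc m * s * m⁻¹ = x * n * (x⁻¹ * (n⁻¹ * s * n) * x) * n⁻¹ * x⁻¹ := by rw [hm]; group
        _ = x * n * ((n⁻¹ * s * n) * e') * n⁻¹ * x⁻¹ := by rw [h3]
        _ = (x * s * x⁻¹) * (x * (n * e' * n⁻¹) * x⁻¹) := by group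
        _ = s * e * (n * e' * n⁻¹) := by rw [h2, B.RA x hx _ h4]; group
        _ = _ := by group
    have hff2 : (f * f') * (f * f') = 1 := by
      calc (f * f') * (f * f') = f * (f' * f) * f' := by group
        _ = (f * f) * (f' * f') := by rw [← hff]; group
        _ = 1 := by rw [hf2, hf'2, mul_one]
    rcases B.act hf hx hxy hs with h2 | h2
    · rcases B.act_inv hf hf2 hx hxy h1 with h3 | h3
      · refine ⟨1, one_mem _, by simp, ?_, ?_⟩
        · have := key 1 1 (one_mem _) (by rw [h2, mul_one]) (by rw [h3, mul_one]) (by simp)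
          simpa using this
        · intro hy
          exfalso
          rw [hy] at h3
          have h4 : x * y * x⁻¹ = y := by
            calc x * y * x⁻¹ = x * (x⁻¹ * y * x) * x⁻¹ := by rw [h3]
              _ = y := by group
          rw [hxy] at h4
          exact hf1 (mul_eq_left.mp h4)
      · refine ⟨f', hf'A, hf'2, ?_, fun _ => Or.inl rfl⟩
        have := key 1 f (one_mem _) (by rw [h2, mul_one]) h3 hf'A
        rwa [one_mul] at this
    · rcases B.act_inv hf hf2 hx hxy h1 with h3 | h3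
      · refine ⟨f, hf, hf2, ?_, ?_⟩
        · have := key f 1 hf h2 (by rw [h3, mul_one]) (by simp)
          simpa using this
        · intro hy
          exfalso
          rw [hy] at h3
          have h4 : x * y * x⁻¹ = y := by
            calc x * y * x⁻¹ = x * (x⁻¹ * y * x) * x⁻¹ := by rw [h3]
              _ = y := by group
          rw [hxy] at h4
          exact hf1 (mul_eq_left.mp h4)
      · exact ⟨f * f', mul_mem hf hf'A, hff2, key f f hf h2 h3 hf'A, fun _ => Or.inr rfl⟩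
  -- `m²` centralises `S`
  have hmm : ∀ s ∈ S, (m * m) * s * (m * m)⁻¹ = s := by
    intro s hs
    obtain ⟨o, ho, ho2, h1, -⟩ := hms s hs
    calc (m * m) * s * (m * m)⁻¹ = m * (m * s * m⁻¹) * m⁻¹ := by group
      _ = m * (s * o) * m⁻¹ := by rw [h1]
      _ = (m * s * m⁻¹) * (m * o * m⁻¹) := by group
      _ = s * (o * o) := by rw [h1, hmo o ho ho2]; group
      _ = s := by rw [ho2, mul_one]
  -- an odd power of `m` lies in `S`
  obtain ⟨j, e, hje⟩ := TwoFull.exists_odd_pow m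
  have hm1S : m ^ (2 * j + 1) ∈ S :=
    mem_of_norm B.syl (pow_mem hmL _) (mem_NL.mp (pow_mem (mem_NL.mpr ⟨hmL, hmS⟩) (2 * j + 1))).2 hje
  have hm1 : ∀ s ∈ S, m ^ (2 * j + 1) * s * (m ^ (2 * j + 1))⁻¹ = m * s * m⁻¹ := by
    intro s hs
    have h1 : ∀ i : ℕ, (m * m) ^ i * s * ((m * m) ^ i)⁻¹ = s := by
      intro i
      induction i with
      | zero => simp
      | succ i ih =>
        calc (m * m) ^ (i + 1) * s * ((m * m) ^ (i + 1))⁻¹ = (m * m) ^ i * ((m * m) * s * (m * m)⁻¹) * ((m * m) ^ i)⁻¹ := by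
              rw [pow_succ]; group
          _ = s := by rw [hmm s hs, ih]
    calc m ^ (2 * j + 1) * s * (m ^ (2 * j + 1))⁻¹ = m * ((m * m) ^ j * s * ((m * m) ^ j)⁻¹) * m⁻¹ := by
          rw [pow_succ', pow_mul, pow_two]; group
      _ = m * s * m⁻¹ := by rw [h1]
  -- evaluate at `s = n y n⁻¹`
  have hsS : n * y * n⁻¹ ∈ S := conj_mem_of_cj hnS B.yS
  obtain ⟨o, ho, ho2, h1, h2⟩ := hms _ hsS
  have h3 : o = f' ∨ o = f * f' := h2 (by group)
  have h4 : o = 1 ∨ o = z := by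
    obtain ⟨c, hc, h5⟩ := B.comm_sq (inv_mem hsS) hm1S
    have h6 : (n * y * n⁻¹)⁻¹ * m ^ (2 * j + 1) * ((n * y * n⁻¹)⁻¹)⁻¹ * (m ^ (2 * j + 1))⁻¹ = o := by
      calc (n * y * n⁻¹)⁻¹ * m ^ (2 * j + 1) * ((n * y * n⁻¹)⁻¹)⁻¹ * (m ^ (2 * j + 1))⁻¹
          = (n * y * n⁻¹)⁻¹ * (m ^ (2 * j + 1) * (n * y * n⁻¹) * (m ^ (2 * j + 1))⁻¹) := by group
        _ = o := by rw [hm1 _ hsS, h1]; group
    rw [h6] at h5
    have h7 := B.sq_cases hc (by rw [← h5]; exact ho2)
    rwa [← h5] at h7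
  have hf'z : f' ≠ z := by
    intro h5
    apply hfz
    calc f = n⁻¹ * f' * n := by rw [hf']; group
      _ = n⁻¹ * (z * n) := by rw [h5]; group
      _ = z := by rw [B.zc n hn]; group
  have hf'1 : f' ≠ 1 := by
    intro h5
    apply hf1
    calc f = n⁻¹ * f' * n := by rw [hf']; group
      _ = 1 := by rw [h5]; group
  rcases h3 with h3 | h3
  · exfalso
    rcases h4 with h4 | h4
    · exact hf'1 (h3.symm.trans h4)
    · exact hf'z (h3.symm.trans h4)
  · rcases h4 with h4 | h4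
    · -- `f f' = 1`
      calc f' = (f * f) * f' := by rw [hf2, one_mul]
        _ = f * (f * f') := by group
        _ = f := by rw [← h3, h4, mul_one]
    · -- `f' = f z`
      exfalso
      have h5 : n * f * n⁻¹ = z * f := by
        calc n * f * n⁻¹ = (f * f) * f' := by rw [hf2, one_mul]
          _ = f * (f * f') := by group
          _ = f * z := by rw [← h3, h4]
          _ = z * f := (B.zc f (B.A_le hf)).symm
      obtain ⟨i, e', hie⟩ := TwoFull.exists_odd_pow n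
      have h6 := conj_npow n f z B.zsq (B.zc n hn).symm h5 i
      have h7 : n ^ (2 * i + 1) ∈ S :=
        mem_of_norm B.syl (pow_mem hn _) (mem_NL.mp (pow_mem (mem_NL.mpr ⟨hn, hnS⟩) (2 * i + 1))).2 hie
      have h8 := B.om' hf hf2 h7
      rw [h8] at h6
      have h9 : f * n ^ (2 * i + 1) * (n ^ (2 * i + 1))⁻¹ = f := by group
      rw [h9] at h6
      exact B.z1 (mul_eq_right.mp h6.symm)

/-- **(beta1)**: `z` is the only involution of `S` -/
theorem main [Finite G] (B : B2 L S A R y z) {t : G} (ht : t ∈ S) (ht2 : t * t = 1) (ht1 : t ≠ 1) : t = z := by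
  by_contra htz
  have htA := B.inv_mem_A ht ht2
  by_cases htc : ∀ l ∈ L, t * l = l * t
  · have B' : B2 L S A R y t := { B with zS := ht, zc := htc, z1 := ht1 }
    exact htz (B'.ysq_eq.symm.trans B.ysq_eq)
  · push Not at htc
    obtain ⟨l₀, hl₀, hne₀⟩ := htc
    have htL := B.syl.1 ht
    have hev : 2 ∣ Nat.card L := by
      have h1 : orderOf (⟨t, htL⟩ : L) = 2 := by
        rw [orderOf_eq_prime_iff]
        refine ⟨Subtype.ext ?_, fun h => ht1 (congrArg Subtype.val h)⟩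
        change t ^ 2 = 1
        rw [pow_two]; exact ht2
      rw [← h1]
      exact orderOf_dvd_natCard _
    obtain ⟨l, hl, hlne, hlc⟩ := ZStar.zst B.qs hev ht2 (cj_eq_of_mem htL) ⟨l₀, hl₀, hne₀⟩
    have hSC : IsSyl S (L ⊓ Subgroup.centralizer ({t} : Set G)) := by
      refine B.syl.le inf_le_left fun s hs => ?_
      rw [Subgroup.mem_inf, Subgroup.mem_centralizer_singleton_iff]
      exact ⟨B.syl.1 hs, B.om' htA ht2 hs⟩
    have hl2 : (l * t * l⁻¹) ^ 2 ^ 1 = 1 := by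
      calc (l * t * l⁻¹) ^ 2 ^ 1 = l * (t * t) * l⁻¹ := by rw [pow_one, pow_two]; group
        _ = 1 := by rw [ht2]; group
    obtain ⟨k, hk, hkS⟩ := hSC.2.2 (Subgroup.zpowers (l * t * l⁻¹)) (by
      rw [Subgroup.zpowers_le, Subgroup.mem_inf, Subgroup.mem_centralizer_singleton_iff]
      exact ⟨mul_mem (mul_mem hl htL) (inv_mem hl), hlc.symm⟩) (isPGroup_zpowers hl2)
    have h1 := hkS (conj_mem_cj (Subgroup.mem_zpowers (l * t * l⁻¹)))
    rw [Subgroup.mem_inf, Subgroup.mem_centralizer_singleton_iff] at hk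
    have e : k * (l * t * l⁻¹) * k⁻¹ = (k * l) * t * (k * l)⁻¹ := by group
    rw [e] at h1
    have h2 : (k * l) * t * (k * l)⁻¹ * ((k * l) * t * (k * l)⁻¹) = 1 := by
      calc (k * l) * t * (k * l)⁻¹ * ((k * l) * t * (k * l)⁻¹) = (k * l) * (t * t) * (k * l)⁻¹ := by group
        _ = 1 := by rw [ht2]; group
    have h3 := B.inv_mem_A h1 h2
    obtain ⟨n, hn, hnS, h4⟩ := burnsideZ B.syl (mul_mem hk.1 hl) (fun s hs => B.om' htA ht2 hs)
      (fun s hs => B.om' h3 h2 hs)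
    rw [B.norm_fix hn hnS htA ht2, ← e] at h4
    apply hlne
    calc l * t * l⁻¹ = k⁻¹ * (k * (l * t * l⁻¹) * k⁻¹) * k := by group
      _ = k⁻¹ * (t * k) := by rw [← h4]; group
      _ = t := by rw [← hk.2]; group

end B2

/-- **(beta1)**, final form: if `Z(L) ∩ S ≠ 1` then all involutions of `S` are equal -/
theorem beta_one [Finite G] (B : B1 L S A R y) (hz : ∃ z ∈ S, z ≠ 1 ∧ ∀ l ∈ L, z * l = l * z) {t t' : G} (ht : t ∈ S)
    (ht2 : t * t = 1) (ht1 : t ≠ 1) (ht' : t' ∈ S) (ht'2 : t' * t' = 1) (ht'1 : t' ≠ 1) : t = t' := by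
  obtain ⟨z, hzS, hz1, hzc⟩ := hz
  have B' : B2 L S A R y z := { B with zS := hzS, zc := hzc, z1 := hz1 }
  rw [B'.main ht ht2 ht1, B'.main ht' ht'2 ht'1]

end

end Cfsg.Agent.OddHalf.D3.BEven.BetaOne

private theorem dce_d9f3981ce845 : _root_.True := by
  try have : _root_.True := by simp only [_root_.Cfsg.Agent.OddHalf.D3.BEven.BetaOne.NL.eq_1]
  exact _root_.True.intro
end

-- part: OddHalf/D3/EvMax
section
prune_inst 0x34000500442200000018001020000440300000000000000000e005020008004000000001286006000010084000000040021000104010000000000000400000000000000290080000010000008000080c00000000000000000000000000000000000000000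
set_option linter.all false
open scoped Cfsg.Agent.FastGrp

/-!
# ODD D3 (iii), even centre: the maximal 2-subgroup (texts of helper760, bb ODD 10166, (E3), and 13086, (mv) FRAME)

`EFam3`: the frame with the results of (E2) and (sw). `ECfg 𝓒 Q`: the maximal 2-subgroup `Q`.
-/

set_option autoImplicit false

namespace Cfsg.Agent.OddHalf.D3.EvMax

open Cfsg Cfsg.Agent.OddHalf.D3.ThreeDefs Cfsg.Agent.OddHalf.D3.ThreeFam Cfsg.Agent.OddHalf.D3.ThreeMain
open Cfsg.Agent.OddHalf.D3.Swap Cfsg.Agent.OddHalf.D3.TwoCfg Cfsg.Agent.OddHalf.D3.TwoNF Cfsg.Agent.OddHalf.D3.TwoKey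
open Cfsg.Agent.OddHalf.D3.EvDefs Cfsg.Agent.OddHalf.D3.EvSwap Cfsg.Agent.OddHalf.D3.EvDiag
open Cfsg.Agent.Involutions.RigidAut
open scoped commutatorElement

universe u

variable {G : Type u} [Group G]

/-! ### Sylow 2-subgroups of perfect groups with even centre -/

theorem IsSyl.exists_sylow [Finite G] {T X : Subgroup G} (h : IsSyl T X) :
    ∃ P : Sylow 2 X, (P : Subgroup X).map X.subtype = T := by
  have hS' : IsPGroup 2 (T.subgroupOf X) := h.2.1.of_injective (Subgroup.subgroupOfEquivOfLe h.1).toMonoidHom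
    (Subgroup.subgroupOfEquivOfLe h.1).injective
  obtain ⟨P, hP⟩ := hS'.exists_le_sylow
  exact ⟨P, h.eq (Subgroup.map_subtype_le _) (P.2.map _) (fun s hs => ⟨⟨s, h.1 hs⟩, hP hs, rfl⟩)⟩

/-- the Sylow 2-subgroups of a perfect group with a central involution are not abelian -/
theorem syl_not_comm [Finite G] {M T : Subgroup G} (hM : ⁅M, M⁆ = M) (hT : IsSyl T M) {z : G} (hz : z ∈ M)
    (hz2 : z * z = 1) (hz1 : z ≠ 1) (hzc : ∀ a ∈ M, z * a = a * z) : ¬ ∀ x ∈ T, ∀ y ∈ T, x * y = y * x := by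
  intro hab
  have hp : Fact (Nat.Prime 2) := ⟨Nat.prime_two⟩
  obtain ⟨P, hP⟩ := IsSyl.exists_sylow hT
  have hPab : ∀ a b : (P : Subgroup M), a * b = b * a := by
    intro a b
    apply Subtype.ext
    apply Subtype.ext
    exact hab _ (by rw [← hP]; exact ⟨a, a.2, rfl⟩) _ (by rw [← hP]; exact ⟨b, b.2, rfl⟩)
  let _ : CommGroup (P : Subgroup M) := { (inferInstance : Group (P : Subgroup M)) with mul_comm := hPab }
  let τ : M →* (P : Subgroup M) := MonoidHom.transfer (MonoidHom.id (P : Subgroup M))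
  have hτ : ∀ m : M, τ m = 1 := by
    intro m
    have h1 : (⊤ : Subgroup M) ≤ τ.ker := by
      rw [← top_comm hM, Subgroup.commutator_le]
      intro a _ b _
      rw [MonoidHom.mem_ker, commutatorElement_def, map_mul, map_mul, map_mul, map_inv, map_inv, mul_comm (τ a)]
      group
    exact MonoidHom.mem_ker.mp (h1 (Subgroup.mem_top m))
  have hkey : ∀ (k : ℕ) (g₀ : M), g₀⁻¹ * (⟨z, hz⟩ : M) ^ k * g₀ ∈ (P : Subgroup M) →
      g₀⁻¹ * (⟨z, hz⟩ : M) ^ k * g₀ = (⟨z, hz⟩ : M) ^ k := by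
    intro k g₀ _
    have h1 : Commute (⟨z, hz⟩ : M) g₀ := Subtype.ext (hzc g₀ g₀.2)
    have h2 := (h1.pow_left k).eq
    rw [mul_assoc, h2]
    group
  have h1 := MonoidHom.transfer_eq_pow (MonoidHom.id (P : Subgroup M)) (⟨z, hz⟩ : M) hkey
  have h2 : (⟨z, hz⟩ : M) ^ (P : Subgroup M).index = 1 := by
    have h3 := hτ ⟨z, hz⟩
    change MonoidHom.transfer (MonoidHom.id (P : Subgroup M)) ⟨z, hz⟩ = 1 at h3
    rw [h1] at h3
    exact congrArg Subtype.val h3
  have hodd : ¬ 2 ∣ (P : Subgroup M).index := P.not_dvd_index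
  apply hz1
  obtain ⟨m, hm⟩ : Odd (P : Subgroup M).index := Nat.not_even_iff_odd.mp (by rw [even_iff_two_dvd]; exact hodd)
  rw [hm, pow_succ, pow_mul] at h2
  have h4 : (⟨z, hz⟩ : M) ^ 2 = 1 := by rw [pow_two]; exact Subtype.ext hz2
  rw [h4, one_pow, one_mul] at h2
  exact congrArg Subtype.val h2

/-- A 2-group `P` normalising `A` (without normal subgroups of odd order), centralising a Sylow 2-subgroup `S` of `A`
and faithful on `A` is abelian (`RigidSyl.abelian`). -/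
theorem rigid [Finite G] {A P S : Subgroup G} (hO : ∀ N : Subgroup A, N.Normal → Odd (Nat.card N) → N = ⊥)
    (hP : IsPGroup 2 P) (hPA : ∀ p ∈ P, cj p A = A) (hS : IsSyl S A) (hcomm : ∀ p ∈ P, ∀ s ∈ S, p * s = s * p)
    (hfaith : ∀ p ∈ P, (∀ a ∈ A, p * a = a * p) → p = 1) : ∀ p ∈ P, ∀ q ∈ P, p * q = q * p := by
  have hp : Fact (Nat.Prime 2) := ⟨Nat.prime_two⟩
  obtain ⟨T, hTS⟩ := IsSyl.exists_sylow hS
  have hTmem : ∀ t : A, t ∈ T → (t : G) ∈ S := by
    intro t ht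
    rw [← hTS]
    exact ⟨t, ht, rfl⟩
  let C : Subgroup (MulAut A) :=
    { carrier := {φ | ∀ s : A, s ∈ T → φ s = s}
      one_mem' := fun s _ => rfl
      mul_mem' := by
        intro φ ψ h1 h2 s hs
        rw [MulAut.mul_apply, h2 s hs, h1 s hs]
      inv_mem' := by
        intro φ h1 s hs
        have h2 := h1 s hs
        rw [MulAut.inv_apply, MulEquiv.symm_apply_eq, h2] }
  have hodd := RigidSyl.odd_comm hO T C (fun φ => Iff.rfl)
  have hPN : ∀ p ∈ P, p ∈ Subgroup.normalizer (A : Set G) := by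
    intro p hp
    rw [Subgroup.mem_normalizer_iff]
    intro x
    have h1 : cj p⁻¹ A = A := cj_inv_eq (hPA p hp)
    have h2 : p * x * p⁻¹ ∈ A ↔ x ∈ cj p⁻¹ A := by rw [mem_cj, inv_inv]
    rw [h2, h1]
  let f : P →* MulAut A := A.normalizerMonoidHom.comp (Subgroup.inclusion hPN)
  have hf : ∀ (p : P) (a : A), ((f p a : A) : G) = p * a * (p : G)⁻¹ := fun p a => rfl
  have hfC : ∀ p : P, f p ∈ C := by
    intro p s hs
    apply Subtype.ext
    rw [hf, hcomm p p.2 s (hTmem s hs)]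
    group
  intro p hp q hq
  have h1 : (⟨f ⟨p, hp⟩, hfC _⟩ : C) * ⟨f ⟨q, hq⟩, hfC _⟩ * (⟨f ⟨p, hp⟩, hfC _⟩ : C)⁻¹ * (⟨f ⟨q, hq⟩, hfC _⟩ : C)⁻¹ ∈
      commutator C := Subgroup.commutator_mem_commutator (Subgroup.mem_top _) (Subgroup.mem_top _)
  set c : C := (⟨f ⟨p, hp⟩, hfC _⟩ : C) * ⟨f ⟨q, hq⟩, hfC _⟩ * (⟨f ⟨p, hp⟩, hfC _⟩ : C)⁻¹ *
    (⟨f ⟨q, hq⟩, hfC _⟩ : C)⁻¹ with hc
  have hcf : (c : MulAut A) = f (⟨p, hp⟩ * ⟨q, hq⟩ * ⟨p, hp⟩⁻¹ * ⟨q, hq⟩⁻¹) := by
    rw [map_mul, map_mul, map_mul, map_inv, map_inv]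
    rfl
  obtain ⟨n, hn⟩ := hP (⟨p, hp⟩ * ⟨q, hq⟩ * ⟨p, hp⟩⁻¹ * ⟨q, hq⟩⁻¹)
  have h2 : c ^ 2 ^ n = 1 := by
    apply Subtype.ext
    change (c : MulAut A) ^ 2 ^ n = 1
    rw [hcf, ← map_pow, hn, map_one]
  have h3 : c ^ Nat.card (commutator C) = 1 := by
    have := pow_card_eq_one' (x := (⟨c, h1⟩ : commutator C))
    exact congrArg Subtype.val this
  have h4 := Nat.dvd_gcd (orderOf_dvd_of_pow_eq_one h2) (orderOf_dvd_of_pow_eq_one h3)
  have h5 : Nat.Coprime (2 ^ n) (Nat.card (commutator C)) :=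
    Nat.Coprime.pow_left n (Nat.coprime_two_left.mpr hodd)
  rw [Nat.Coprime.gcd_eq_one h5, Nat.dvd_one, orderOf_eq_one_iff] at h4
  have h6 : f (⟨p, hp⟩ * ⟨q, hq⟩ * ⟨p, hp⟩⁻¹ * ⟨q, hq⟩⁻¹) = 1 := by rw [← hcf, h4]; rfl
  have h7 : p * q * p⁻¹ * q⁻¹ = 1 := by
    refine hfaith _ (mul_mem (mul_mem (mul_mem hp hq) (inv_mem hp)) (inv_mem hq)) ?_
    intro a ha
    have h8 : ((f (⟨p, hp⟩ * ⟨q, hq⟩ * ⟨p, hp⟩⁻¹ * ⟨q, hq⟩⁻¹) ⟨a, ha⟩ : A) : G) = a := by rw [h6]; rfl
    rw [hf] at h8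
    exact mul_inv_eq_iff_eq_mul.mp h8
  calc p * q = (p * q * p⁻¹ * q⁻¹) * (q * p) := by group
    _ = q * p := by rw [h7, one_mul]

/-- a quasisimple group whose centre is a 2-group `≠ 1` has no normal subgroup of odd order -/
theorem no_odd [Finite G] {A : Subgroup G} (hq : IsQuasisimple A) (hev : ∃ a ∈ A, a * a = 1 ∧ a ≠ 1)
    (hzp : ∀ a ∈ A, (∀ b ∈ A, a * b = b * a) → ∃ k : ℕ, a ^ 2 ^ k = 1) :
    ∀ N : Subgroup A, N.Normal → Odd (Nat.card N) → N = ⊥ := by
  intro N hN hodd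
  rcases Lib.ComponentSolvable.quasisimple_normal_cases hq (N := N) hN with h | h
  · exfalso
    obtain ⟨a, ha, ha2, ha1⟩ := hev
    rw [h, Subgroup.card_top] at hodd
    have h2 : orderOf (⟨a, ha⟩ : A) = 2 := by
      refine orderOf_eq_prime ?_ ?_
      · rw [pow_two]; exact Subtype.ext ha2
      · intro h; exact ha1 (congrArg Subtype.val h)
    have h3 : 2 ∣ Nat.card A := h2 ▸ orderOf_dvd_natCard _
    rw [Nat.odd_iff] at hodd
    omega
  · rw [eq_bot_iff]
    intro x hx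
    have hxc := Subgroup.mem_center_iff.mp (h hx)
    obtain ⟨k, hk⟩ := hzp x x.2 (fun b hb => (congrArg Subtype.val (hxc ⟨b, hb⟩)).symm)
    have h1 : x ^ 2 ^ k = 1 := Subtype.ext hk
    have h2 : x ^ Nat.card N = 1 := by
      have := pow_card_eq_one' (x := (⟨x, hx⟩ : N))
      exact congrArg Subtype.val this
    have h4 := Nat.dvd_gcd (orderOf_dvd_of_pow_eq_one h1) (orderOf_dvd_of_pow_eq_one h2)
    have h5 : Nat.Coprime (2 ^ k) (Nat.card N) := Nat.Coprime.pow_left k (Nat.coprime_two_left.mpr hodd)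
    rw [Nat.Coprime.gcd_eq_one h5, Nat.dvd_one, orderOf_eq_one_iff] at h4
    rw [Subgroup.mem_bot]
    exact h4

/-- a normal 2-subgroup lies in every Sylow 2-subgroup -/
theorem IsSyl.le_of_normal {T X N : Subgroup G} (h : IsSyl T X) (hNX : N ≤ X) (hN : IsPGroup 2 N)
    (hn : ∀ x ∈ X, cj x N = N) : N ≤ T := by
  obtain ⟨k, hk, hkT⟩ := h.2.2 N hNX hN
  rwa [hn k hk] at hkT

/-! ### The frame -/

/-- `U_c ∩ H0_d ≠ 0` -/
def Nd (c d : Set (Subgroup G)) : Prop := ∃ u, InU c u ∧ u ∈ Nm d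

/-- The frame of D3 (iii), even centre, with the results of (E2) and (sw). -/
structure EFam3 (𝓒 : Set (Set (Subgroup G))) : Prop extends EFam2 𝓒 where
  /-- (sw): the 2-elements of the members do not permute the members of `d` if `U_c ∩ H0_d ≠ 0` -/
  sw : ∀ c ∈ 𝓒, ∀ d ∈ 𝓒, c ≠ d → Nd c d → ∀ L ∈ c, ∀ s ∈ L, (∃ n : ℕ, s ^ 2 ^ n = 1) → s ∈ St d → s ∈ Nm d
  /-- the centres of the members are 2-groups -/
  zp : ∀ c ∈ 𝓒, ∀ A ∈ c, ∀ a ∈ A, (∀ b ∈ A, a * b = b * a) → ∃ k : ℕ, a ^ 2 ^ k = 1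

section
variable {𝓒 : Set (Set (Subgroup G))}

theorem Nd.ad [Finite G] (F : EFam 𝓒) {c d : Set (Subgroup G)} (hc : c ∈ 𝓒) (hd : d ∈ 𝓒) (h : Nd c d) :
    EvDefs.Ad c d := by
  obtain ⟨u, hu, hud⟩ := h
  exact Ad.of_inU F hc hd hu (Nm_le_St _ hud)

theorem Nd.exists_e [Finite G] (F : EFam2 𝓒) {c d : Set (Subgroup G)} (hc : c ∈ 𝓒) (hd : d ∈ 𝓒) (hcd : c ≠ d)
    (h : Nd c d) : ∃ e ∈ Zc d, e ≠ 1 ∧ e ∈ Nm c := by
  obtain ⟨e, he, he1, heS⟩ := h.ad F.toEFam hc hd
  obtain ⟨u, hu, hud⟩ := h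
  exact ⟨e, he, he1, F.nsw' c hc d hd hcd u hu hud e he heS⟩

theorem Nd.symm [Finite G] (F : EFam2 𝓒) {c d : Set (Subgroup G)} (hc : c ∈ 𝓒) (hd : d ∈ 𝓒) (hcd : c ≠ d)
    (h : Nd c d) : Nd d c := by
  obtain ⟨e, he, he1, heN⟩ := h.exists_e F hc hd hcd
  exact ⟨e, F.inU_of_Zc hd he he1, heN⟩

/-- a configuration -/
structure ECfg (𝓒 : Set (Set (Subgroup G))) (Q : Subgroup G) : Prop where
  pg : IsPGroup 2 Q
  mx : ∀ c ∈ 𝓒, ∀ d ∈ 𝓒, c ≠ d → Q ≤ Nm c → Q ≤ Nm d → ∀ R : Subgroup G, IsPGroup 2 R → R ≤ Nm c → R ≤ Nm d →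
    Nat.card R ≤ Nat.card Q
  /-- `Z_c ∩ Q ≠ 1` -/
  inv : ∀ c ∈ 𝓒, Q ≤ Nm c → ∃ z ∈ Zc c, z ≠ 1 ∧ z ∈ Q
  ex : ∃ c ∈ 𝓒, ∃ d ∈ 𝓒, c ≠ d ∧ Q ≤ Nm c ∧ Q ≤ Nm d

theorem zc_le_of_syl [Finite G] (F : EFam2 𝓒) {c d : Set (Subgroup G)} (hc : c ∈ 𝓒) (hd : d ∈ 𝓒) (hcd : c ≠ d)
    (h : Nd c d) {Q : Subgroup G} (hQ : IsSyl Q (Nm c ⊓ Nm d)) : Zc c ⊓ St d ≤ Q := by
  obtain ⟨u, hu, hud⟩ := h
  refine IsSyl.le_of_normal hQ ?_ ((isPGroup_Zc c).to_le inf_le_left) ?_
  · intro z hz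
    rw [Subgroup.mem_inf] at hz
    exact Subgroup.mem_inf.mpr ⟨Zc_le_Nm c hz.1, F.nsw c hc d hd hcd u hu hud z hz.1 hz.2⟩
  · intro g hg
    rw [Subgroup.mem_inf] at hg
    rw [cj_inf, cj_Zc (Nm_le_St c hg.1), cj_eq_of_mem (Nm_le_St d hg.2)]

theorem exists_ecfg [Finite G] (F : EFam2 𝓒) {c₀ d₀ : Set (Subgroup G)} (hc₀ : c₀ ∈ 𝓒) (hd₀ : d₀ ∈ 𝓒)
    (hne₀ : c₀ ≠ d₀) (h₀ : EvDefs.Ad c₀ d₀) : ∃ Q : Subgroup G, ECfg 𝓒 Q := by
  obtain ⟨c₁, hc₁, d₁, hd₁, hne₁, h₁⟩ := F.red c₀ hc₀ d₀ hd₀ hne₀ h₀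
  let S : Set ℕ := {n | ∃ c ∈ 𝓒, ∃ d ∈ 𝓒, c ≠ d ∧ Nd c d ∧ ∃ R : Subgroup G, IsPGroup 2 R ∧ R ≤ Nm c ∧ R ≤ Nm d ∧
    Nat.card R = n}
  have hbdd : BddAbove S := by
    refine ⟨Nat.card G, ?_⟩
    rintro n ⟨-, -, -, -, -, -, R, -, -, -, rfl⟩
    exact Nat.card_le_card_of_injective _ R.subtype_injective
  have hne' : S.Nonempty := ⟨_, c₁, hc₁, d₁, hd₁, hne₁, h₁, ⊥, IsPGroup.of_bot, bot_le, bot_le, rfl⟩
  obtain ⟨c, hc, d, hd, hcd, hNd, Q, hQ, hQc, hQd, hcard⟩ := Nat.sSup_mem hne' hbdd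
  have hmax : ∀ c ∈ 𝓒, ∀ d ∈ 𝓒, c ≠ d → Nd c d → ∀ R : Subgroup G, IsPGroup 2 R → R ≤ Nm c → R ≤ Nm d →
      Nat.card R ≤ Nat.card Q := by
    intro c' hc' d' hd' hne hAd R hR hRc hRd
    rw [hcard]
    exact le_csSup hbdd ⟨c', hc', d', hd', hne, hAd, R, hR, hRc, hRd, rfl⟩
  have key : ∀ c ∈ 𝓒, ∀ d ∈ 𝓒, c ≠ d → Nd c d → Q ≤ Nm c → Q ≤ Nm d → ∃ z ∈ Zc c, z ≠ 1 ∧ z ∈ Q := by
    intro c hc d hd hcd hNd hQc hQd
    have hS : IsSyl Q (Nm c ⊓ Nm d) := isSyl_of_max (le_inf hQc hQd) hQ fun R hR hR2 =>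
      hmax c hc d hd hcd hNd R hR2 (hR.trans inf_le_left) (hR.trans inf_le_right)
    have h1 := zc_le_of_syl F hc hd hcd hNd hS
    obtain ⟨e, he, he1, heN⟩ := (hNd.symm F hc hd hcd).exists_e F hd hc (Ne.symm hcd)
    exact ⟨e, he, he1, h1 (Subgroup.mem_inf.mpr ⟨he, Nm_le_St _ heN⟩)⟩
  have hcQ := key c hc d hd hcd hNd hQc hQd
  have key2 : ∀ d' ∈ 𝓒, Q ≤ Nm d' → c ≠ d' → Nd c d' := by
    intro d' hd' hQd' hne
    obtain ⟨z, hz, hz1, hzQ⟩ := hcQ
    exact ⟨z, F.inU_of_Zc hc hz hz1, hQd' hzQ⟩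
  have hinv : ∀ c' ∈ 𝓒, Q ≤ Nm c' → ∃ z ∈ Zc c', z ≠ 1 ∧ z ∈ Q := by
    intro c' hc' hQc'
    by_cases h1 : c = c'
    · subst h1; exact hcQ
    · exact key c' hc' c hc (Ne.symm h1) ((key2 c' hc' hQc' h1).symm F hc hc' h1) hQc' hQc
  refine ⟨Q, hQ, ?_, hinv, c, hc, d, hd, hcd, hQc, hQd⟩
  intro c' hc' d' hd' hne hQc' hQd'
  refine hmax c' hc' d' hd' hne ?_
  obtain ⟨z, hz, hz1, hzQ⟩ := hinv c' hc' hQc'
  exact ⟨z, F.inU_of_Zc hc' hz hz1, hQd' hzQ⟩

namespace ECfg

variable {Q : Subgroup G}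

theorem le_of_two [Finite G] (C : ECfg 𝓒 Q) {c d : Set (Subgroup G)} (hc : c ∈ 𝓒) (hd : d ∈ 𝓒) (hcd : c ≠ d)
    (hQc : Q ≤ Nm c) (hQd : Q ≤ Nm d) {R : Subgroup G} (hR : IsPGroup 2 R) (hQR : Q ≤ R) (hRc : R ≤ Nm c)
    (hRd : R ≤ Nm d) : R ≤ Q := by
  have h := C.mx c hc d hd hcd hQc hQd R hR hRc hRd
  rw [Subgroup.eq_of_le_of_card_ge hQR h]

theorem mem_of_norm [Finite G] (C : ECfg 𝓒 Q) {c d : Set (Subgroup G)} (hc : c ∈ 𝓒) (hd : d ∈ 𝓒) (hcd : c ≠ d)
    (hQc : Q ≤ Nm c) (hQd : Q ≤ Nm d) {s : G} (hs : IsPGroup 2 (Subgroup.zpowers s)) (hsQ : cj s Q = Q)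
    (hsc : s ∈ Nm c) (hsd : s ∈ Nm d) : s ∈ Q := by
  have hn : ∀ w ∈ Subgroup.zpowers s, cj w Q = Q := by
    have : Subgroup.zpowers s ≤ Nm ({Q} : Set (Subgroup G)) := by
      rw [Subgroup.zpowers_le]
      intro A hA
      rw [Set.mem_singleton_iff] at hA
      rw [hA]; exact hsQ
    exact fun w hw => this hw Q rfl
  have hT := isPGroup_mulSub (h := hn) C.pg hs
  have := C.le_of_two hc hd hcd hQc hQd hT le_mulSub_left
    (mulSub_le hQc (by rw [Subgroup.zpowers_le]; exact hsc)) (mulSub_le hQd (by rw [Subgroup.zpowers_le]; exact hsd))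
  exact this (le_mulSub_right (Subgroup.mem_zpowers s))

theorem other (C : ECfg 𝓒 Q) (c : Set (Subgroup G)) : ∃ d ∈ 𝓒, Q ≤ Nm d ∧ d ≠ c := by
  obtain ⟨a, ha, b, hb, hab, hQa, hQb⟩ := C.ex
  by_cases h : a = c
  · exact ⟨b, hb, hQb, fun h' => hab (h.trans h'.symm)⟩
  · exact ⟨a, ha, hQa, h⟩

theorem nd (F : EFam 𝓒) (C : ECfg 𝓒 Q) {c d : Set (Subgroup G)} (hc : c ∈ 𝓒) (hQc : Q ≤ Nm c)
    (hQd : Q ≤ Nm d) : Nd c d := by
  obtain ⟨z, hz, hz1, hzQ⟩ := C.inv c hc hQc
  exact ⟨z, F.inU_of_Zc hc hz hz1, hQd hzQ⟩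

theorem syl [Finite G] (C : ECfg 𝓒 Q) {c d : Set (Subgroup G)} (hc : c ∈ 𝓒) (hd : d ∈ 𝓒) (hcd : c ≠ d)
    (hQc : Q ≤ Nm c) (hQd : Q ≤ Nm d) : IsSyl Q (Nm c ⊓ Nm d) :=
  isSyl_of_max (le_inf hQc hQd) C.pg fun R hR hR2 =>
    C.mx c hc d hd hcd hQc hQd R hR2 (hR.trans inf_le_left) (hR.trans inf_le_right)

/-- `Z_c ∩ H_d ≤ Q` -/
theorem zc_le [Finite G] (F : EFam2 𝓒) (C : ECfg 𝓒 Q) {c d : Set (Subgroup G)} (hc : c ∈ 𝓒) (hd : d ∈ 𝓒)
    (hcd : c ≠ d) (hQc : Q ≤ Nm c) (hQd : Q ≤ Nm d) : Zc c ⊓ St d ≤ Q :=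
  zc_le_of_syl F hc hd hcd (C.nd F.toEFam hc hQc hQd) (C.syl hc hd hcd hQc hQd)

end ECfg

section
variable {Q : Subgroup G}

/-- no element of the 2-group `Q` centralises members of two different classes -/
theorem eq_one_of_two (F : EFam 𝓒) (hQ : IsPGroup 2 Q) {c d : Set (Subgroup G)} (hc : c ∈ 𝓒) (hd : d ∈ 𝓒)
    (hcd : c ≠ d) {A M : Subgroup G} (hA : A ∈ c) (hM : M ∈ d) {x : G} (hx : x ∈ QC Q A) (hx' : x ∈ QC Q M) : x = 1 := by
  by_contra h1
  obtain ⟨n, hn2, hn1⟩ := exists_pow_inv hQ (mem_QC.mp hx).1 h1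
  refine hcd (F.uniq c hc d hd (x ^ n) ⟨hn2, hn1, A, hA, ?_⟩ ⟨hn2, hn1, M, hM, ?_⟩)
  · intro a ha
    have : Commute x a := (mem_QC.mp hx).2 a ha
    exact (this.pow_left n).eq
  · intro a ha
    have : Commute x a := (mem_QC.mp hx').2 a ha
    exact (this.pow_left n).eq

/-- the centralizer of an element of `Q ∩ C(A)` -/
theorem cen_QC (F : EFam 𝓒) (hQ : IsPGroup 2 Q) {c : Set (Subgroup G)} (hc : c ∈ 𝓒) {A : Subgroup G} (hA : A ∈ c)
    {x g : G} (hx : x ∈ QC Q A) (hx1 : x ≠ 1) (hg : x * g = g * x) : g ∈ St c := by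
  obtain ⟨n, hn2, hn1⟩ := exists_pow_inv hQ (mem_QC.mp hx).1 hx1
  refine F.cen hc (u := x ^ n) ⟨hn2, hn1, A, hA, ?_⟩ ?_
  · intro a ha
    have : Commute x a := (mem_QC.mp hx).2 a ha
    exact (this.pow_left n).eq
  · have : Commute x g := hg
    exact (this.pow_left n).eq

/-- **C1** -/
theorem comm_of_two (F : EFam 𝓒) (hQ : IsPGroup 2 Q) {c d : Set (Subgroup G)} (hc : c ∈ 𝓒) (hd : d ∈ 𝓒)
    (hcd : c ≠ d) (hQc : Q ≤ Nm c) (hQd : Q ≤ Nm d) {A M : Subgroup G} (hA : A ∈ c) (hM : M ∈ d) {x y : G}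
    (hx : x ∈ QC Q A) (hy : y ∈ QC Q M) : x * y = y * x := by
  have hxQ := (mem_QC.mp hx).1
  have hyQ := (mem_QC.mp hy).1
  have h1 : cj y (QC Q A) = QC Q A := by
    rw [cj_QC (cj_eq_of_mem hyQ), hQc hyQ A hA]
  have h2 : cj x (QC Q M) = QC Q M := by
    rw [cj_QC (cj_eq_of_mem hxQ), hQd hxQ M hM]
  have h3 : ⁅x, y⁆ ∈ QC Q A := by
    have e : ⁅x, y⁆ = x * (y * x⁻¹ * y⁻¹) := by rw [commutatorElement_def]; group
    rw [e]
    exact mul_mem hx (conj_mem_of_cj h1 (inv_mem hx))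
  have h4 : ⁅x, y⁆ ∈ QC Q M := by
    rw [commutatorElement_def]
    exact mul_mem (conj_mem_of_cj h2 hy) (inv_mem hy)
  have h5 := eq_one_of_two F hQ hc hd hcd hA hM h3 h4
  rw [commutatorElement_def] at h5
  calc x * y = (x * y * x⁻¹ * y⁻¹) * (y * x) := by group
    _ = y * x := by rw [h5, one_mul]

/-- `Q ∩ A' ≤ Q ∩ C(A)` -/
theorem inf_le_QC (F : EFam 𝓒) {c : Set (Subgroup G)} (hc : c ∈ 𝓒) {A A' : Subgroup G} (hA : A ∈ c) (hA' : A' ∈ c)
    (hne : A' ≠ A) : Q ⊓ A' ≤ QC Q A := by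
  intro x hx
  rw [Subgroup.mem_inf] at hx
  exact mem_QC.mpr ⟨hx.1, F.comm c hc A' hA' A hA hne x hx.2⟩

theorem tri_QC (F : EFam 𝓒) (hQ : IsPGroup 2 Q) {c d : Set (Subgroup G)} (hc : c ∈ 𝓒) (hd : d ∈ 𝓒) (hcd : c ≠ d)
    {A M : Subgroup G} (hA : A ∈ c) (hM : M ∈ d) : ∀ x ∈ QC Q M, x ∈ A → x = 1 := by
  intro x hx hxA
  obtain ⟨A', hA', hne⟩ := F.two c hc A
  exact eq_one_of_two F hQ hc hd hcd hA' hM
    (mem_QC.mpr ⟨(mem_QC.mp hx).1, F.comm c hc A hA A' hA' (Ne.symm hne) x hxA⟩) hx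

/-- (mv) -/
theorem rp_mv (F : EFam 𝓒) (hQ : IsPGroup 2 Q) {c d : Set (Subgroup G)} (hc : c ∈ 𝓒) (hd : d ∈ 𝓒)
    (hcd : c ≠ d) (hQd : Q ≤ Nm d) {A M : Subgroup G} (hA : A ∈ c) (hM : M ∈ d)
    {s : G} (hs : cj s Q = Q) (hmv : cjs s d ≠ d) : RP Q A (QC Q M) s where
  le := QC_le
  tri := tri_QC F hQ hc hd hcd hA hM
  comm := by
    intro b hb b' hb'
    have h1 : s * b' * s⁻¹ ∈ QC Q (cj s M) := by
      rw [← cj_QC hs]; exact conj_mem_cj hb'
    exact comm_of_two F hQ hd (F.conj s d hd) (Ne.symm hmv) hQd (le_Nm_cjs hs hQd) hM (cj_mem_cjs hM) hb h1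
  inj := by
    intro b hb h
    have h1 : s * b * s⁻¹ ∈ QC Q (cj s M) := by
      rw [← cj_QC hs]; exact conj_mem_cj hb
    rw [h] at h1
    exact eq_one_of_two F hQ hd (F.conj s d hd) (Ne.symm hmv) hM (cj_mem_cjs hM) hb h1

/-- witnesses move all the other classes -/
theorem wit_mv [Finite G] (F : EFam3 𝓒) (C : ECfg 𝓒 Q) {c d : Set (Subgroup G)} (hc : c ∈ 𝓒) (hd : d ∈ 𝓒)
    (hcd : c ≠ d) (hQc : Q ≤ Nm c) (hQd : Q ≤ Nm d) {A : Subgroup G} (hA : A ∈ c) {s : G} (w : Wit Q A s) :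
    cjs s d ≠ d := by
  intro h
  obtain ⟨k, hk⟩ := C.pg ⟨s * s, w.sq⟩
  have hk' : (s * s) ^ 2 ^ k = 1 := congrArg Subtype.val hk
  have h1 : s ^ 2 ^ (k + 1) = 1 := by
    rw [pow_succ', pow_mul, pow_two]; exact hk'
  have h2 : s ∈ Nm d := F.sw c hc d hd hcd (C.nd F.toEFam hc hQc hQd) A hA s w.mem ⟨_, h1⟩ h
  exact w.not (C.mem_of_norm hc hd hcd hQc hQd (sq_pgroup C.pg w.sq) w.norm (F.mem_le_Nm hc hA w.mem) h2)

theorem rp [Finite G] (F : EFam3 𝓒) (C : ECfg 𝓒 Q) {c d : Set (Subgroup G)} (hc : c ∈ 𝓒) (hd : d ∈ 𝓒)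
    (hcd : c ≠ d) (hQc : Q ≤ Nm c) (hQd : Q ≤ Nm d) {A M : Subgroup G} (hA : A ∈ c) (hM : M ∈ d) {s : G}
    (w : Wit Q A s) : RP Q A (QC Q M) s :=
  rp_mv F.toEFam C.pg hc hd hcd hQd hA hM w.norm (wit_mv F C hc hd hcd hQc hQd hA w)

/-- **(E3)**: nothing is full -/
theorem wit [Finite G] (F : EFam3 𝓒) (C : ECfg 𝓒 Q) {c : Set (Subgroup G)} (hc : c ∈ 𝓒) (hQc : Q ≤ Nm c)
    {A : Subgroup G} (hA : A ∈ c) : ∃ s, Wit Q A s := by
  have hQA : ∀ q ∈ Q, cj q A = A := fun q hq => hQc hq A hA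
  by_contra hno
  have hS : IsSyl (Q ⊓ A) A := by
    by_contra hS
    exact hno (exists_wit C.pg hQA hS)
  have hnot : ∀ {c : Set (Subgroup G)} (hc : c ∈ 𝓒) {A : Subgroup G} (hA : A ∈ c), IsSyl (Q ⊓ A) A →
      ¬ ∀ x ∈ Q ⊓ A, ∀ y ∈ Q ⊓ A, x * y = y * x := by
    intro c hc A hA hS
    obtain ⟨z, hz, hz2, hz1, hzc⟩ := F.ec c hc A hA
    exact syl_not_comm (qs_perfect (F.qs c hc A hA)) hS hz hz2 hz1 hzc
  obtain ⟨d, hd, hQd, hdc⟩ := C.other c
  obtain ⟨M, hM⟩ := F.exists_mem hd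
  obtain ⟨A', hA', hne⟩ := F.two c hc A
  by_cases hSM : IsSyl (Q ⊓ M) M
  · -- full / full
    apply hnot hd hM hSM
    obtain ⟨M', hM', hneM⟩ := F.two d hd M
    refine rigid (A := A) (S := Q ⊓ A) (no_odd (F.qs c hc A hA) ?_ (F.zp c hc A hA)) (C.pg.to_le inf_le_left) ?_ hS ?_ ?_
    · obtain ⟨z, hz, hz2, hz1, -⟩ := F.ec c hc A hA
      exact ⟨z, hz, hz2, hz1⟩
    · intro p hp; exact hQA p (Subgroup.mem_inf.mp hp).1
    · intro p hp s hs
      exact comm_of_two F.toEFam C.pg hd hc hdc hQd hQc hM' hA' (inf_le_QC F.toEFam hd hM' hM (Ne.symm hneM) hp)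
        (inf_le_QC F.toEFam hc hA' hA (Ne.symm hne) hs)
    · intro p hp hpA
      exact tri_QC F.toEFam C.pg hd hc hdc hM hA p (mem_QC.mpr ⟨(Subgroup.mem_inf.mp hp).1, hpA⟩)
        (Subgroup.mem_inf.mp hp).2
  · -- a witness for `M` moves `c`
    obtain ⟨t, w⟩ := exists_wit C.pg (fun q hq => hQd hq M hM) hSM
    have h1 := rp F C hd hc hdc hQd hQc hM hA' w
    apply hnot hc hA hS
    intro x hx y hy
    exact h1.abelian (fun q hq => hQd hq M hM) w x (inf_le_QC F.toEFam hc hA' hA (Ne.symm hne) hx) y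
      (inf_le_QC F.toEFam hc hA' hA (Ne.symm hne) hy)

/-! ### The (mv) frame -/

theorem card_QC_le [Finite G] (F : EFam3 𝓒) (C : ECfg 𝓒 Q) {c d : Set (Subgroup G)} (hc : c ∈ 𝓒) (hd : d ∈ 𝓒)
    (hcd : c ≠ d) (hQc : Q ≤ Nm c) (hQd : Q ≤ Nm d) {A M : Subgroup G} (hA : A ∈ c) (hM : M ∈ d) :
    Nat.card (QC Q M) ≤ Nat.card (Q ⊓ A : Subgroup G) := by
  obtain ⟨s, w⟩ := wit F C hc hQc hA
  exact (rp F C hc hd hcd hQc hQd hA hM w).card_le (fun q hq => hQc hq A hA) w

theorem card_inf_le [Finite G] (F : EFam 𝓒) {c : Set (Subgroup G)} (hc : c ∈ 𝓒) {A A' : Subgroup G} (hA : A ∈ c)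
    (hA' : A' ∈ c) (hne : A' ≠ A) : Nat.card (Q ⊓ A : Subgroup G) ≤ Nat.card (QC Q A') :=
  Nat.card_le_card_of_injective _ (Subgroup.inclusion_injective (inf_le_QC F hc hA' hA (Ne.symm hne)))

theorem card_inf_le_inf [Finite G] (F : EFam3 𝓒) (C : ECfg 𝓒 Q) {c d : Set (Subgroup G)} (hc : c ∈ 𝓒) (hd : d ∈ 𝓒)
    (hcd : c ≠ d) (hQc : Q ≤ Nm c) (hQd : Q ≤ Nm d) {A M : Subgroup G} (hA : A ∈ c) (hM : M ∈ d) :
    Nat.card (Q ⊓ A : Subgroup G) ≤ Nat.card (Q ⊓ M : Subgroup G) := by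
  obtain ⟨A', hA', hne⟩ := F.two c hc A
  exact (card_inf_le F.toEFam hc hA hA' hne).trans (card_QC_le F C hd hc (Ne.symm hcd) hQd hQc hM hA')

/-- all the groups `Q ∩ A` have the same order -/
theorem card_inf_eq [Finite G] (F : EFam3 𝓒) (C : ECfg 𝓒 Q) {c d : Set (Subgroup G)} (hc : c ∈ 𝓒) (hd : d ∈ 𝓒)
    (hQc : Q ≤ Nm c) (hQd : Q ≤ Nm d) {A M : Subgroup G} (hA : A ∈ c) (hM : M ∈ d) :
    Nat.card (Q ⊓ A : Subgroup G) = Nat.card (Q ⊓ M : Subgroup G) := by
  by_cases hcd : c = d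
  · subst hcd
    obtain ⟨e, he, hQe, hec⟩ := C.other c
    obtain ⟨N, hN⟩ := F.exists_mem he
    have h1 := card_inf_le_inf F C hc he (Ne.symm hec) hQc hQe hA hN
    have h2 := card_inf_le_inf F C he hc hec hQe hQc hN hM
    have h3 := card_inf_le_inf F C hc he (Ne.symm hec) hQc hQe hM hN
    have h4 := card_inf_le_inf F C he hc hec hQe hQc hN hA
    omega
  · exact le_antisymm (card_inf_le_inf F C hc hd hcd hQc hQd hA hM)
      (card_inf_le_inf F C hd hc (Ne.symm hcd) hQd hQc hM hA)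

/-- `C_Q(A') = Q ∩ A` for two members of a class -/
theorem QC_eq [Finite G] (F : EFam3 𝓒) (C : ECfg 𝓒 Q) {c : Set (Subgroup G)} (hc : c ∈ 𝓒)
    (hQc : Q ≤ Nm c) {A A' : Subgroup G} (hA : A ∈ c) (hA' : A' ∈ c) (hne : A' ≠ A) : QC Q A' = Q ⊓ A := by
  obtain ⟨e, he, hQe, hec⟩ := C.other c
  obtain ⟨N, hN⟩ := F.exists_mem he
  symm
  refine Subgroup.eq_of_le_of_card_ge (inf_le_QC F.toEFam hc hA' hA (Ne.symm hne)) ?_
  rw [card_inf_eq F C hc he hQc hQe hA hN]
  exact card_QC_le F C he hc hec hQe hQc hN hA'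

/-- with at least three members all `Q ∩ A` are equal -/
theorem inf_eq_of_three [Finite G] (F : EFam3 𝓒) (C : ECfg 𝓒 Q) {c : Set (Subgroup G)} (hc : c ∈ 𝓒)
    (hQc : Q ≤ Nm c) {A A' B : Subgroup G} (hA : A ∈ c) (hA' : A' ∈ c) (hB : B ∈ c) (h1 : B ≠ A) (h2 : B ≠ A') :
    Q ⊓ A = Q ⊓ A' := by
  rw [← QC_eq F C hc hQc hA hB h1, ← QC_eq F C hc hQc hA' hB h2]

theorem QC_abelian [Finite G] (F : EFam3 𝓒) (C : ECfg 𝓒 Q) {c : Set (Subgroup G)} (hc : c ∈ 𝓒) (hQc : Q ≤ Nm c)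
    {A : Subgroup G} (hA : A ∈ c) : ∀ x ∈ QC Q A, ∀ y ∈ QC Q A, x * y = y * x := by
  obtain ⟨d, hd, hQd, hdc⟩ := C.other c
  obtain ⟨M, hM⟩ := F.exists_mem hd
  obtain ⟨t, w⟩ := wit F C hd hQd hM
  exact (rp F C hd hc hdc hQd hQc hM hA w).abelian (fun q hq => hQd hq M hM) w

theorem inf_abelian [Finite G] (F : EFam3 𝓒) (C : ECfg 𝓒 Q) {c : Set (Subgroup G)} (hc : c ∈ 𝓒) (hQc : Q ≤ Nm c)
    {A : Subgroup G} (hA : A ∈ c) : ∀ x ∈ Q ⊓ A, ∀ y ∈ Q ⊓ A, x * y = y * x := by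
  obtain ⟨A', hA', hne⟩ := F.two c hc A
  rw [← QC_eq F C hc hQc hA hA' hne]
  exact QC_abelian F C hc hQc hA'

/-- `r_s` is surjective -/
theorem surj [Finite G] (F : EFam3 𝓒) (C : ECfg 𝓒 Q) {c d : Set (Subgroup G)} (hc : c ∈ 𝓒) (hd : d ∈ 𝓒)
    (hcd : c ≠ d) (hQc : Q ≤ Nm c) (hQd : Q ≤ Nm d) {A M : Subgroup G} (hA : A ∈ c) (hM : M ∈ d) {s : G}
    (w : Wit Q A s) {a : G} (ha : a ∈ Q) (haA : a ∈ A) : ∃ b ∈ QC Q M, b⁻¹ * (s * b * s⁻¹) = a := by
  obtain ⟨M', hM', hne⟩ := F.two d hd M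
  refine (rp F C hc hd hcd hQc hQd hA hM w).surj (fun q hq => hQc hq A hA) w ?_ ha haA
  rw [card_inf_eq F C hc hd hQc hQd hA hM']
  exact card_inf_le F.toEFam hd hM' hM (Ne.symm hne)

/-- a witness inverts `Q ∩ A` -/
theorem inverts [Finite G] (F : EFam3 𝓒) (C : ECfg 𝓒 Q) {c : Set (Subgroup G)} (hc : c ∈ 𝓒) (hQc : Q ≤ Nm c)
    {A : Subgroup G} (hA : A ∈ c) {s : G} (w : Wit Q A s) {a : G} (ha : a ∈ Q) (haA : a ∈ A) : s * a * s⁻¹ = a⁻¹ := by
  obtain ⟨d, hd, hQd, hdc⟩ := C.other c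
  obtain ⟨M, hM⟩ := F.exists_mem hd
  obtain ⟨A', hA', hne⟩ := F.two c hc A
  obtain ⟨b, hb, hba⟩ := surj F C hc hd (Ne.symm hdc) hQc hQd hA hM w ha haA
  have hs2 : s * s ∈ QC Q A' := inf_le_QC F.toEFam hc hA' hA (Ne.symm hne)
    (Subgroup.mem_inf.mpr ⟨w.sq, mul_mem w.mem w.mem⟩)
  have h1 := comm_of_two F.toEFam C.pg hc hd (Ne.symm hdc) hQc hQd hA' hM hs2 hb
  rw [← hba]
  calc s * (b⁻¹ * (s * b * s⁻¹)) * s⁻¹ = (s * b * s⁻¹)⁻¹ * ((s * s * b) * (s * s)⁻¹) := by group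
    _ = (s * b * s⁻¹)⁻¹ * ((b * (s * s)) * (s * s)⁻¹) := by rw [h1]
    _ = (b⁻¹ * (s * b * s⁻¹))⁻¹ := by group

/-- `Q ∩ C(∏ c) = Q ∩ Z_c` -/
theorem mem_Zc_iff [Finite G] (F : EFam3 𝓒) (C : ECfg 𝓒 Q) {c : Set (Subgroup G)} (hc : c ∈ 𝓒) (hQc : Q ≤ Nm c)
    {x : G} (hx : x ∈ Q) : x ∈ Zc c ↔ ∀ A ∈ c, ∀ a ∈ A, x * a = a * x := by
  refine ⟨fun h => h.2.2, fun h => ?_⟩
  obtain ⟨A, hA⟩ := F.exists_mem hc
  obtain ⟨A', hA', hne⟩ := F.two c hc A
  have hxA : x ∈ Q ⊓ A := by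
    rw [← QC_eq F C hc hQc hA hA' hne]
    exact mem_QC.mpr ⟨hx, h A' hA'⟩
  have hxA' := (Subgroup.mem_inf.mp hxA).2
  obtain ⟨s, w⟩ := wit F C hc hQc hA
  have h1 := inverts F C hc hQc hA w hx hxA'
  have h2 := h A hA s w.mem
  have h3 : x = x⁻¹ := by
    rw [← h1, ← h2]; group
  exact ⟨le_sSup hA hxA', by
    calc x * x = x * x⁻¹ := by rw [← h3]
      _ = 1 := by group, h⟩

/-- `A` central in `A` of `Q ∩ A`: in `Z_c` -/
theorem mem_Zc_of_cen [Finite G] (F : EFam3 𝓒) (C : ECfg 𝓒 Q) {c : Set (Subgroup G)} (hc : c ∈ 𝓒) (hQc : Q ≤ Nm c)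
    {A : Subgroup G} (hA : A ∈ c) {x : G} (hx : x ∈ Q) (hxA : x ∈ A) (hxc : ∀ a ∈ A, x * a = a * x) : x ∈ Zc c := by
  rw [mem_Zc_iff F C hc hQc hx]
  intro B hB b hb
  by_cases h : A = B
  · subst h; exact hxc b hb
  · exact F.comm c hc A hA B hB h x hxA b hb

/-- `Q ∩ Z_c` lies in every member -/
theorem Zc_le_mem [Finite G] (F : EFam3 𝓒) (C : ECfg 𝓒 Q) {c : Set (Subgroup G)} (hc : c ∈ 𝓒) (hQc : Q ≤ Nm c)
    {A : Subgroup G} (hA : A ∈ c) : Q ⊓ Zc c ≤ Q ⊓ A := by
  obtain ⟨A', hA', hne⟩ := F.two c hc A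
  intro x hx
  rw [Subgroup.mem_inf] at hx
  rw [← QC_eq F C hc hQc hA hA' hne]
  exact mem_QC.mpr ⟨hx.1, hx.2.2.2 A' hA'⟩

/-- `Q ∩ Z_c = Z_c ∩ H_d` -/
theorem Zc_inf [Finite G] (F : EFam3 𝓒) (C : ECfg 𝓒 Q) {c d : Set (Subgroup G)} (hc : c ∈ 𝓒) (hd : d ∈ 𝓒)
    (hcd : c ≠ d) (hQc : Q ≤ Nm c) (hQd : Q ≤ Nm d) : Q ⊓ Zc c = Zc c ⊓ St d := by
  apply le_antisymm
  · exact le_inf inf_le_right (inf_le_left.trans (hQd.trans (Nm_le_St d)))
  · exact le_inf (C.zc_le F.toEFam2 hc hd hcd hQc hQd) inf_le_left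

/-- `|Q ∩ Z_c| = |Q ∩ Z_d|` -/
theorem card_Zc_inf [Finite G] (F : EFam3 𝓒) (C : ECfg 𝓒 Q) {c d : Set (Subgroup G)} (hc : c ∈ 𝓒) (hd : d ∈ 𝓒)
    (hcd : c ≠ d) (hQc : Q ≤ Nm c) (hQd : Q ≤ Nm d) :
    Nat.card (Q ⊓ Zc c : Subgroup G) = Nat.card (Q ⊓ Zc d : Subgroup G) := by
  rw [Zc_inf F C hc hd hcd hQc hQd, Zc_inf F C hd hc (Ne.symm hcd) hQd hQc]
  exact card_eq F.toEFam hc hd hcd

/-- with at least three members `Q ∩ A` is central and `Q ∩ A = Q ∩ Z_c` -/
theorem inf_eq_Zc_of_three [Finite G] (F : EFam3 𝓒) (C : ECfg 𝓒 Q) {c : Set (Subgroup G)} (hc : c ∈ 𝓒)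
    (hQc : Q ≤ Nm c) {A A' B : Subgroup G} (hA : A ∈ c) (hA' : A' ∈ c) (hB : B ∈ c) (h0 : A' ≠ A) (h1 : B ≠ A)
    (h2 : B ≠ A') : Q ⊓ A = Q ⊓ Zc c := by
  refine le_antisymm (fun x hx => ?_) (Zc_le_mem F C hc hQc hA)
  have hx' := hx
  rw [inf_eq_of_three F C hc hQc hA hA' hB h1 h2] at hx'
  rw [Subgroup.mem_inf] at hx hx'
  exact Subgroup.mem_inf.mpr ⟨hx.1, mem_Zc_of_cen F C hc hQc hA hx.1 hx.2
    (F.comm c hc A' hA' A hA h0 x hx'.2)⟩

/-- `S ∩ H_d = Q ∩ A` for a `Q`-invariant Sylow 2-subgroup `S` of `A` (only: 2-subgroup) -/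
theorem mem_Q_of_St [Finite G] (F : EFam3 𝓒) (C : ECfg 𝓒 Q) {c d : Set (Subgroup G)} (hc : c ∈ 𝓒) (hd : d ∈ 𝓒)
    (hcd : c ≠ d) (hQc : Q ≤ Nm c) (hQd : Q ≤ Nm d) {A S : Subgroup G} (hA : A ∈ c) (hSA : S ≤ A) (hS : IsPGroup 2 S)
    (hQS : ∀ q ∈ Q, cj q S = S) {x : G} (hx : x ∈ S) (hxd : x ∈ St d) : x ∈ Q := by
  have hn : ∀ q ∈ Q, cj q (S ⊓ Nm d) = S ⊓ Nm d := by
    intro q hq
    rw [cj_inf, hQS q hq, cj_eq_of_mem (hQd hq)]
  have hT := isPGroup_mulSub (h := hn) (hS.to_le inf_le_left) C.pg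
  have h1 := C.le_of_two hc hd hcd hQc hQd hT le_mulSub_right
    (mulSub_le (inf_le_left.trans (hSA.trans (F.mem_le_Nm hc hA))) hQc) (mulSub_le inf_le_right hQd)
  obtain ⟨k, hk⟩ := hS ⟨x, hx⟩
  have h2 : x ∈ Nm d := F.sw c hc d hd hcd (C.nd F.toEFam hc hQc hQd) A hA x (hSA hx)
    ⟨k, congrArg Subtype.val hk⟩ hxd
  exact h1 (le_mulSub_left (Subgroup.mem_inf.mpr ⟨hx, h2⟩))

/-- `C_S(y) = Q ∩ A` for `y ∈ C_Q(M)#` -/
theorem mem_of_comm [Finite G] (F : EFam3 𝓒) (C : ECfg 𝓒 Q) {c d : Set (Subgroup G)} (hc : c ∈ 𝓒) (hd : d ∈ 𝓒)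
    (hcd : c ≠ d) (hQc : Q ≤ Nm c) (hQd : Q ≤ Nm d) {A S M : Subgroup G} (hA : A ∈ c) (hM : M ∈ d) (hSA : S ≤ A)
    (hS : IsPGroup 2 S) (hQS : ∀ q ∈ Q, cj q S = S) {x y : G} (hx : x ∈ S) (hy : y ∈ QC Q M) (hy1 : y ≠ 1)
    (hxy : y * x = x * y) : x ∈ Q ⊓ A :=
  Subgroup.mem_inf.mpr ⟨mem_Q_of_St F C hc hd hcd hQc hQd hA hSA hS hQS hx (cen_QC F.toEFam C.pg hd hM hy hy1 hxy),
    hSA hx⟩

end

end

end Cfsg.Agent.OddHalf.D3.EvMax
end

-- part: OddHalf/D3/BEven/Split
section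
prune_inst 0x14100500450000000018001020000440300000020040000000e0050201480040200500010860061000108c4000040040030800104038000000000800480001a00000020090480000010000008000080c00000000000000000000000000000000000000000
set_option linter.all false
open scoped Cfsg.Agent.FastGrp

/-!
# ODD D3 (iii), even centre: the split into (alpha), (beta1), (beta2) (text of helper760, bb ODD 13086)

`Q ∩ A` is normal in a `Q`-invariant Sylow 2-subgroup `S` of the member `A`; (alpha) and (beta1) are discharged.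
-/

set_option autoImplicit false

namespace Cfsg.Agent.OddHalf.D3.BEven.Split

open Cfsg Cfsg.Agent.OddHalf.D3.ThreeDefs Cfsg.Agent.OddHalf.D3.ThreeFam Cfsg.Agent.OddHalf.D3.ThreeMain
open Cfsg.Agent.OddHalf.D3.Swap Cfsg.Agent.OddHalf.D3.TwoCfg Cfsg.Agent.OddHalf.D3.TwoNF Cfsg.Agent.OddHalf.D3.TwoKey
open Cfsg.Agent.OddHalf.D3.EvDefs Cfsg.Agent.OddHalf.D3.EvSwap Cfsg.Agent.OddHalf.D3.EvDiag Cfsg.Agent.OddHalf.D3.EvMax
open Cfsg.Agent.OddHalf.D3.BTwo
open scoped commutatorElement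

universe u

variable {G : Type u} [Group G]

/-- a central involution modulo `K` in a normal subgroup `N > K` of the 2-group `T` -/
theorem exists_mod [Finite G] {T N K : Subgroup G} (hT : IsPGroup 2 T) (hNT : N ≤ T) (hKN : K ≤ N)
    (hnN : ∀ t ∈ T, cj t N = N) (hnK : ∀ t ∈ T, cj t K = K) (hne : ¬ N ≤ K) :
    ∃ y ∈ N, y ∉ K ∧ y * y ∈ K ∧ ∀ t ∈ T, t * y * t⁻¹ * y⁻¹ ∈ K := by
  have hKn : (K.subgroupOf T).Normal := by
    refine ⟨fun k hk t => ?_⟩
    rw [Subgroup.mem_subgroupOf] at hk ⊢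
    exact conj_mem_of_cj (hnK t t.2) hk
  let π : T →* T ⧸ K.subgroupOf T := QuotientGroup.mk' (K.subgroupOf T)
  have hπ : ∀ t : T, π t = 1 ↔ (t : G) ∈ K := by
    intro t
    rw [← MonoidHom.mem_ker, QuotientGroup.ker_mk', Subgroup.mem_subgroupOf]
  have hsurj : Function.Surjective π := QuotientGroup.mk'_surjective _
  have hQ : IsPGroup 2 (⊤ : Subgroup (T ⧸ K.subgroupOf T)) := by
    refine IsPGroup.to_subgroup ?_ _
    exact hT.of_surjective π hsurj
  obtain ⟨x, hx, hxK⟩ := SetLike.not_le_iff_exists.mp hne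
  obtain ⟨w, hw, hw1, hw2, hwc⟩ := exists_central (Q := (⊤ : Subgroup (T ⧸ K.subgroupOf T)))
    (N := (N.subgroupOf T).map π) hQ le_top (by
      intro q _
      obtain ⟨t, rfl⟩ := hsurj q
      ext z
      obtain ⟨s, rfl⟩ := hsurj z
      rw [mem_cj]
      have key : ∀ t s : T, π s ∈ (N.subgroupOf T).map π → π (t⁻¹ * s * t) ∈ (N.subgroupOf T).map π := by
        rintro t s ⟨n, hn, hns⟩
        refine ⟨t⁻¹ * n * t, ?_, by rw [map_mul, map_mul, map_mul, map_mul, hns]⟩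
        have := conj_mem_of_cj (hnN _ (inv_mem t.2)) (show (n : G) ∈ N from hn)
        rwa [inv_inv] at this
      constructor
      · intro h
        have := key t⁻¹ (t⁻¹ * s * t) (by simpa only [_root_.map_mul, _root_.map_inv, _root_.Subgroup.mem_map, _root_.Subtype.exists] using h)
        have e : t⁻¹⁻¹ * (t⁻¹ * s * t) * t⁻¹ = s := by group
        rwa [e] at this
      · intro h
        have := key t s h
        simpa only [_root_.Subgroup.mem_map, _root_.Subtype.exists, _root_.map_mul, _root_.map_inv] using this)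
    ⟨π ⟨x, hNT hx⟩, ⟨⟨x, hNT hx⟩, hx, rfl⟩, fun h => hxK ((hπ _).mp h)⟩
  obtain ⟨y, hy, rfl⟩ := hw
  refine ⟨y, hy, fun h => hw1 ((hπ y).mpr h), ?_, ?_⟩
  · rw [← map_mul] at hw2
    exact (hπ _).mp hw2
  · intro t ht
    have h1 := hwc (π ⟨t, ht⟩) (Subgroup.mem_top _)
    have h2 : π (⟨t, ht⟩ * y * ⟨t, ht⟩⁻¹ * y⁻¹) = 1 := by
      rw [map_mul, map_mul, map_mul, map_inv, map_inv, ← h1]
      group
    exact (hπ _).mp h2

/-- the intersection of the conjugates of `P` under `T` -/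
def core (T P : Subgroup G) : Subgroup G where
  carrier := {x | ∀ t ∈ T, t * x * t⁻¹ ∈ P}
  one_mem' := fun t _ => by simp
  mul_mem' := by
    intro a b ha hb t ht
    have := mul_mem (ha t ht) (hb t ht)
    have e : t * a * t⁻¹ * (t * b * t⁻¹) = t * (a * b) * t⁻¹ := by group
    rwa [e] at this
  inv_mem' := by
    intro a ha t ht
    have := inv_mem (ha t ht)
    have e : (t * a * t⁻¹)⁻¹ = t * a⁻¹ * t⁻¹ := by group
    rwa [e] at this

theorem core_le {T P : Subgroup G} : core T P ≤ P := by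
  intro x hx
  have := hx 1 (one_mem _)
  simpa using this

theorem cj_core {T P : Subgroup G} : ∀ t ∈ T, cj t (core T P) = core T P := by
  have key : ∀ t ∈ T, ∀ x ∈ core T P, t * x * t⁻¹ ∈ core T P := by
    intro t ht x hx s hs
    have := hx (s * t) (mul_mem hs ht)
    have e : s * t * x * (s * t)⁻¹ = s * (t * x * t⁻¹) * s⁻¹ := by group
    rwa [e] at this
  intro t ht
  ext x
  rw [mem_cj]
  constructor
  · intro h
    have := key t ht _ h
    have e : t * (t⁻¹ * x * t) * t⁻¹ = x := by group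
    rwa [e] at this
  · intro h
    have := key t⁻¹ (inv_mem ht) _ h
    rwa [inv_inv] at this

section
variable {𝓒 : Set (Set (Subgroup G))} {Q : Subgroup G}

/-- a `Q`-invariant Sylow 2-subgroup `S` of the member `A` -/
structure Sit (𝓒 : Set (Set (Subgroup G))) (Q : Subgroup G) (c : Set (Subgroup G)) (A S : Subgroup G) : Prop where
  hc : c ∈ 𝓒
  hQc : Q ≤ Nm c
  hA : A ∈ c
  syl : IsSyl S A
  inv : ∀ q ∈ Q, cj q S = S

theorem exists_sit [Finite G] (C : ECfg 𝓒 Q) {c : Set (Subgroup G)} (hc : c ∈ 𝓒) (hQc : Q ≤ Nm c)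
    {A : Subgroup G} (hA : A ∈ c) : ∃ S, Sit 𝓒 Q c A S := by
  obtain ⟨P, hPA, hP, hPn, hPc⟩ := exists_inv_syl C.pg (fun q hq => hQc hq A hA)
  exact ⟨P, hc, hQc, hA, ⟨hPA, hP, hPc⟩, hPn⟩

namespace Sit

variable {c : Set (Subgroup G)} {A S : Subgroup G}

/-- the 2-group `S Q` -/
def T (s : Sit 𝓒 Q c A S) : Subgroup G := mulSub S Q s.inv

theorem T_two [Finite G] (s : Sit 𝓒 Q c A S) (C : ECfg 𝓒 Q) : IsPGroup 2 s.T :=
  isPGroup_mulSub (h := s.inv) s.syl.2.1 C.pg

theorem S_le_T (s : Sit 𝓒 Q c A S) : S ≤ s.T := le_mulSub_left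

theorem Q_le_T (s : Sit 𝓒 Q c A S) : Q ≤ s.T := le_mulSub_right

theorem cj_S (s : Sit 𝓒 Q c A S) : ∀ t ∈ s.T, cj t S = S := by
  rintro _ ⟨a, ha, q, hq, rfl⟩
  exact cj_mul_eq (cj_eq_of_mem ha) (s.inv q hq)

theorem inf_le [Finite G] (s : Sit 𝓒 Q c A S) (C : ECfg 𝓒 Q) : Q ⊓ A ≤ S := by
  have h : ∀ w ∈ Q ⊓ A, cj w S = S := fun w hw => s.inv w (Subgroup.mem_inf.mp hw).1
  have hT := isPGroup_mulSub (h := h) s.syl.2.1 (C.pg.to_le inf_le_left)
  have h1 := s.syl.eq (mulSub_le s.syl.1 inf_le_right) hT le_mulSub_left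
  rw [← h1]
  exact le_mulSub_right

/-- `S` is not in `Q` -/
theorem not_le [Finite G] (s : Sit 𝓒 Q c A S) (F : EFam3 𝓒) (C : ECfg 𝓒 Q) : ¬ S ≤ Q ⊓ A := by
  intro h
  obtain ⟨z, hz, hz2, hz1, hzc⟩ := F.ec c s.hc A s.hA
  refine syl_not_comm (qs_perfect (F.qs c s.hc A s.hA)) s.syl hz hz2 hz1 hzc ?_
  intro x hx y hy
  exact inf_abelian F C s.hc s.hQc s.hA x (h hx) y (h hy)

/-- **the key point**: an element `y` outside `Q`, with `[T, y] ≤ K ≤ Q`, `y² ∈ K` is a witness -/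
theorem wit_of (s : Sit 𝓒 Q c A S) {K : Subgroup G} (hK : K ≤ Q) {y : G} (hyA : y ∈ A) (hyQ : y ∉ Q) (hy2 : y * y ∈ K)
    (hyT : ∀ t ∈ s.T, t * y * t⁻¹ * y⁻¹ ∈ K) : Wit Q A y := by
  have key : ∀ q ∈ Q, y * q * y⁻¹ ∈ Q := by
    intro q hq
    have h1 := hK (hyT q⁻¹ (inv_mem (s.Q_le_T hq)))
    have h2 := mul_mem hq h1
    have e : q * (q⁻¹ * y * q⁻¹⁻¹ * y⁻¹) = y * q * y⁻¹ := by group
    rwa [e] at h2
  refine ⟨hyA, ?_, hyQ, hK hy2⟩
  refine Subgroup.ext fun x => ?_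
  rw [mem_cj]
  constructor
  · intro h
    have := key _ h
    have e : y * (y⁻¹ * x * y) * y⁻¹ = x := by group
    rwa [e] at this
  · intro h
    have h1 := key _ h
    have h2 := mul_mem (mul_mem (inv_mem (hK hy2)) h1) (hK hy2)
    have e : (y * y)⁻¹ * (y * x * y⁻¹) * (y * y) = y⁻¹ * x * y := by group
    rwa [e] at h2

/-- `Q ∩ A` is normal in `S Q` -/
theorem cj_inf_A [Finite G] (s : Sit 𝓒 Q c A S) (F : EFam3 𝓒) (C : ECfg 𝓒 Q) : ∀ t ∈ s.T, cj t (Q ⊓ A) = Q ⊓ A := by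
  have hKP : core s.T (Q ⊓ A) ≤ Q ⊓ A := core_le
  obtain ⟨y, hy, hyK, hy2, hyT⟩ := exists_mod (K := core s.T (Q ⊓ A)) (s.T_two C) s.S_le_T
    (hKP.trans (s.inf_le C)) s.cj_S cj_core (fun h => s.not_le F C (h.trans hKP))
  have hyA : y ∈ A := s.syl.1 hy
  have hyQ : y ∉ Q := by
    intro hyQ
    apply hyK
    intro t ht
    have h1 := hKP (hyT t ht)
    have h2 := mul_mem h1 (Subgroup.mem_inf.mpr ⟨hyQ, hyA⟩)
    have e : t * y * t⁻¹ * y⁻¹ * y = t * y * t⁻¹ := by group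
    rwa [e] at h2
  have w := s.wit_of (hKP.trans inf_le_left) hyA hyQ hy2 hyT
  obtain ⟨d, hd, hQd, hdc⟩ := C.other c
  obtain ⟨M, hM⟩ := F.exists_mem hd
  have hle : Q ⊓ A ≤ core s.T (Q ⊓ A) := by
    intro a ha
    obtain ⟨b, hb, hba⟩ := surj F C s.hc hd (Ne.symm hdc) s.hQc hQd s.hA hM w (Subgroup.mem_inf.mp ha).1
      (Subgroup.mem_inf.mp ha).2
    have hbT : b⁻¹ ∈ s.T := inv_mem (s.Q_le_T (mem_QC.mp hb).1)
    have h1 := hyT _ hbT
    have e : b⁻¹ * y * b⁻¹⁻¹ * y⁻¹ = b⁻¹ * (y * b * y⁻¹) := by group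
    rw [e, hba] at h1
    exact h1
  have heq : core s.T (Q ⊓ A) = Q ⊓ A := le_antisymm hKP hle
  intro t ht
  rw [← heq]
  exact cj_core t ht

/-- an element `y` of a normal subgroup `N > Q ∩ A` of `S Q` -/
theorem exists_y [Finite G] (s : Sit 𝓒 Q c A S) (F : EFam3 𝓒) (C : ECfg 𝓒 Q) {N : Subgroup G} (hNS : N ≤ S)
    (hPN : Q ⊓ A ≤ N) (hn : ∀ t ∈ s.T, cj t N = N) (hne : ¬ N ≤ Q ⊓ A) :
    ∃ y ∈ N, y ∉ Q ⊓ A ∧ y * y ∈ Q ⊓ A ∧ Wit Q A y := by
  obtain ⟨y, hy, hyK, hy2, hyT⟩ := exists_mod (K := Q ⊓ A) (s.T_two C) (hNS.trans s.S_le_T)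
    hPN hn (s.cj_inf_A F C) hne
  have hyA : y ∈ A := s.syl.1 (hNS hy)
  exact ⟨y, hy, hyK, hy2, s.wit_of inf_le_left hyA (fun h => hyK (Subgroup.mem_inf.mpr ⟨h, hyA⟩)) hy2 hyT⟩

/-- if `Q ∩ A` is not elementary it is self-centralising in `S` -/
theorem self [Finite G] (s : Sit 𝓒 Q c A S) (F : EFam3 𝓒) (C : ECfg 𝓒 Q) {a₀ : G} (ha₀ : a₀ ∈ Q ⊓ A)
    (ha₀2 : a₀ * a₀ ≠ 1) : ∀ x ∈ S, (∀ a ∈ Q ⊓ A, x * a = a * x) → x ∈ Q ⊓ A := by
  let N : Subgroup G := S ⊓ Subgroup.centralizer ((Q ⊓ A : Subgroup G) : Set G)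
  have hN : ∀ x, x ∈ N ↔ x ∈ S ∧ ∀ a ∈ Q ⊓ A, x * a = a * x := by
    intro x
    rw [Subgroup.mem_inf, Subgroup.mem_centralizer_iff]
    exact and_congr_right fun _ => forall₂_congr fun _ _ => eq_comm
  by_contra hcon
  push Not at hcon
  obtain ⟨x, hx, hxc, hxP⟩ := hcon
  obtain ⟨y, hy, hyP, hy2, w⟩ := s.exists_y F C (N := N) inf_le_left (by
    intro x hx
    exact (hN x).mpr ⟨s.inf_le C hx, inf_abelian F C s.hc s.hQc s.hA x hx⟩) (by
    have key : ∀ t ∈ s.T, ∀ x ∈ N, t * x * t⁻¹ ∈ N := by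
      intro t ht x hx
      rw [hN] at hx ⊢
      refine ⟨conj_mem_of_cj (s.cj_S t ht) hx.1, fun a ha => ?_⟩
      have h1 : t⁻¹ * a * t ∈ Q ⊓ A := by
        have := conj_mem_of_cj (s.cj_inf_A F C _ (inv_mem ht)) ha
        rwa [inv_inv] at this
      have h2 := hx.2 _ h1
      calc t * x * t⁻¹ * a = t * (x * (t⁻¹ * a * t)) * t⁻¹ := by group
        _ = t * ((t⁻¹ * a * t) * x) * t⁻¹ := by rw [h2]
        _ = a * (t * x * t⁻¹) := by group
    intro t ht
    ext x
    rw [mem_cj]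
    constructor
    · intro h
      have := key t ht _ h
      have e : t * (t⁻¹ * x * t) * t⁻¹ = x := by group
      rwa [e] at this
    · intro h
      have := key t⁻¹ (inv_mem ht) _ h
      rwa [inv_inv] at this) (fun h => hxP (h ((hN x).mpr ⟨hx, hxc⟩)))
  have h1 := _root_.Cfsg.Agent.OddHalf.D3.EvMax.inverts F C s.hc s.hQc s.hA w (Subgroup.mem_inf.mp ha₀).1 (Subgroup.mem_inf.mp ha₀).2
  have h2 := ((hN y).mp hy).2 a₀ ha₀
  apply ha₀2
  have h3 : a₀ = a₀⁻¹ := by
    rw [← h1, h2]; group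
  calc a₀ * a₀ = a₀ * a₀⁻¹ := by rw [← h3]
    _ = 1 := mul_inv_cancel _

/-- the involutions of `S` are not all equal -/
theorem not_uniq [Finite G] (s : Sit 𝓒 Q c A S) (F : EFam3 𝓒) (C : ECfg 𝓒 Q)
    (h : ∀ x ∈ S, ∀ y ∈ S, x * x = 1 → x ≠ 1 → y * y = 1 → y ≠ 1 → x = y) : False := by
  obtain ⟨z, hz, hz1, hzQ⟩ := C.inv c s.hc s.hQc
  have hzP := Zc_le_mem F C s.hc s.hQc s.hA (Subgroup.mem_inf.mpr ⟨hzQ, hz⟩)
  obtain ⟨a, ha, ha2, ha1, haz⟩ := F.rk c s.hc A s.hA z
  obtain ⟨k, hk, hkS⟩ := s.syl.2.2 (Subgroup.zpowers a) (by rw [Subgroup.zpowers_le]; exact ha)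
    (isPGroup_of_sq fun w hw => by
      obtain ⟨m, rfl⟩ := Subgroup.mem_zpowers_iff.mp hw
      have h2 : a ^ (2 : ℤ) = 1 := by rw [zpow_ofNat, pow_two]; exact ha2
      rw [← zpow_add, ← two_mul, zpow_mul, h2, one_zpow])
  have h1 : k * a * k⁻¹ ∈ S := hkS (conj_mem_cj (Subgroup.mem_zpowers a))
  have h2 := h _ h1 z (s.inf_le C hzP) (by
    calc k * a * k⁻¹ * (k * a * k⁻¹) = k * (a * a) * k⁻¹ := by group
      _ = 1 := by rw [ha2]; group) (fun e => ha1 (by
    calc a = k⁻¹ * (k * a * k⁻¹) * k := by group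
      _ = 1 := by rw [e]; group)) (Zc_sq hz) hz1
  apply haz
  have h3 := hz.2.2 A s.hA k hk
  calc a = k⁻¹ * (k * a * k⁻¹) * k := by group
    _ = k⁻¹ * (z * k) := by rw [h2]; group
    _ = z := by rw [h3]; group

/-- **(alpha)**: `Q ∩ A` is not central -/
theorem not_central [Finite G] (s : Sit 𝓒 Q c A S) (F : EFam3 𝓒) (C : ECfg 𝓒 Q) (h : Q ⊓ A ≤ Zc c) : False := by
  obtain ⟨d, hd, hQd, hdc⟩ := C.other c
  obtain ⟨M, hM⟩ := F.exists_mem hd
  obtain ⟨A', hA', hne⟩ := F.two c s.hc A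
  have hB : ∀ b ∈ Q ⊓ Zc d, b ∈ QC Q M := by
    intro b hb
    rw [Subgroup.mem_inf] at hb
    exact mem_QC.mpr ⟨hb.1, hb.2.2.2 M hM⟩
  have heq : Q ⊓ A = Q ⊓ Zc c := le_antisymm (le_inf inf_le_left h) (Zc_le_mem F C s.hc s.hQc s.hA)
  have hAL : AL A (Q ⊓ Zc d) (Q ⊓ A) S := by
    refine ⟨qs_perfect (F.qs c s.hc A s.hA), ?_, ?_, ?_, ?_, ?_, s.inf_le C, ⟨s.syl.1, s.syl.2.1, ?_⟩, ?_, ?_, ?_, ?_⟩
    · intro b hb; exact s.hQc (Subgroup.mem_inf.mp hb).1 A s.hA
    · intro b hb; exact Zc_sq (Subgroup.mem_inf.mp hb).2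
    · intro z hz; exact Zc_sq (h hz)
    · intro z hz x hx; exact (h hz).2.2 A s.hA x hx
    · intro z hz b hb
      exact _root_.Cfsg.Agent.OddHalf.D3.EvMax.comm_of_two F.toEFam C.pg s.hc hd (Ne.symm hdc) s.hQc hQd hA' hM
        (_root_.Cfsg.Agent.OddHalf.D3.EvMax.inf_le_QC F.toEFam s.hc hA' s.hA (Ne.symm hne) hz) (hB b hb)
    · intro R hR hR2; exact s.syl.card_le hR hR2
    · intro b hb; exact s.inv b (Subgroup.mem_inf.mp hb).1
    · rw [heq, card_Zc_inf F C s.hc hd (Ne.symm hdc) s.hQc hQd]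
    · intro b hb hb1 x hx hxb
      exact mem_of_comm F C s.hc hd (Ne.symm hdc) s.hQc hQd s.hA hM s.syl.1 s.syl.2.1 s.inv hx (hB b hb) hb1 hxb.symm
    · intro b hb hbA
      exact _root_.Cfsg.Agent.OddHalf.D3.EvMax.tri_QC F.toEFam C.pg s.hc hd (Ne.symm hdc) s.hA hM b (hB b hb) hbA
  obtain ⟨b, hb, hb1, hbQ⟩ := C.inv d hd hQd
  exact s.not_uniq F C (alpha hAL ⟨b, Subgroup.mem_inf.mpr ⟨hbQ, hb⟩, hb1⟩)

/-- **(beta1)**: `Q ∩ A` is elementary abelian -/
theorem elem [Finite G] (s : Sit 𝓒 Q c A S) (F : EFam3 𝓒) (C : ECfg 𝓒 Q) : ∀ a ∈ Q ⊓ A, a * a = 1 := by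
  by_contra hcon
  push Not at hcon
  obtain ⟨a₀, ha₀, ha₀2⟩ := hcon
  obtain ⟨y, hy, hyP, hy2, w⟩ := s.exists_y F C (N := S) le_rfl (s.inf_le C) s.cj_S (s.not_le F C)
  obtain ⟨d, hd, hQd, hdc⟩ := C.other c
  obtain ⟨M, hM⟩ := F.exists_mem hd
  obtain ⟨A', hA', hne⟩ := F.two c s.hc A
  have hRA : ∀ x ∈ QC Q M, ∀ a ∈ Q ⊓ A, x * a = a * x := fun x hx a ha =>
    (_root_.Cfsg.Agent.OddHalf.D3.EvMax.comm_of_two F.toEFam C.pg s.hc hd (Ne.symm hdc) s.hQc hQd hA' hM
      (_root_.Cfsg.Agent.OddHalf.D3.EvMax.inf_le_QC F.toEFam s.hc hA' s.hA (Ne.symm hne) ha) hx).symm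
  have hB : BetaOne.B1 A S (Q ⊓ A) (QC Q M) y := by
    refine ⟨F.qs c s.hc A s.hA, s.syl, s.inf_le C, ?_, inf_abelian F C s.hc s.hQc s.hA, s.self F C ha₀ ha₀2, ?_, ?_,
      hRA, ?_, hy, hyP, hy2, ?_, ?_⟩
    · intro x hx; exact s.cj_inf_A F C x (s.S_le_T hx)
    · intro x hx; exact s.hQc (mem_QC.mp hx).1 A s.hA
    · intro x hx; exact s.inv x (mem_QC.mp hx).1
    · intro x hx hx1 t ht hxt
      exact mem_of_comm F C s.hc hd (Ne.symm hdc) s.hQc hQd s.hA hM s.syl.1 s.syl.2.1 s.inv ht hx hx1 hxt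
    · intro a ha
      exact _root_.Cfsg.Agent.OddHalf.D3.EvMax.inverts F C s.hc s.hQc s.hA w (Subgroup.mem_inf.mp ha).1 (Subgroup.mem_inf.mp ha).2
    · intro a ha
      obtain ⟨b, hb, hba⟩ := surj F C s.hc hd (Ne.symm hdc) s.hQc hQd s.hA hM (Wit.inv w) (Subgroup.mem_inf.mp ha).1
        (Subgroup.mem_inf.mp ha).2
      refine ⟨b, hb, ?_⟩
      have h1 := hRA b hb a ha
      rw [inv_inv] at hba
      calc b * y * b⁻¹ = y * (b * (b⁻¹ * (y⁻¹ * b * y)) * b⁻¹) := by group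
        _ = y * (b * a * b⁻¹) := by rw [hba]
        _ = y * a := by rw [h1]; group
  obtain ⟨z, hz, hz1, hzQ⟩ := C.inv c s.hc s.hQc
  have hzP := Zc_le_mem F C s.hc s.hQc s.hA (Subgroup.mem_inf.mpr ⟨hzQ, hz⟩)
  refine s.not_uniq F C ?_
  intro x hx x' hx' hx2 hx1 hx'2 hx'1
  exact BetaOne.beta_one hB ⟨z, s.inf_le C hzP, hz1, hz.2.2 A s.hA⟩ hx hx2 hx1 hx' hx'2 hx'1

end Sit

/-- all groups `Q ∩ A` are elementary abelian -/
theorem el [Finite G] (F : EFam3 𝓒) (C : ECfg 𝓒 Q) : ∀ c ∈ 𝓒, Q ≤ Nm c → ∀ A ∈ c, ∀ x ∈ Q, x ∈ A → x * x = 1 := by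
  intro c hc hQc A hA x hx hxA
  obtain ⟨S, s⟩ := exists_sit C hc hQc hA
  exact s.elem F C x (Subgroup.mem_inf.mpr ⟨hx, hxA⟩)

/-- no group `Q ∩ A` is central -/
theorem nz [Finite G] (F : EFam3 𝓒) (C : ECfg 𝓒 Q) : ∀ c ∈ 𝓒, Q ≤ Nm c → ∀ A ∈ c, ∃ x ∈ Q, x ∈ A ∧ x ∉ Zc c := by
  intro c hc hQc A hA
  obtain ⟨S, s⟩ := exists_sit C hc hQc hA
  by_contra hcon
  push Not at hcon
  exact s.not_central F C fun x hx => hcon x (Subgroup.mem_inf.mp hx).1 (Subgroup.mem_inf.mp hx).2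

/-- at most two members in all classes -/
theorem le2 [Finite G] (F : EFam3 𝓒) (C : ECfg 𝓒 Q) : ∀ Λ ∈ 𝓒, AtMostTwo Λ := by
  obtain ⟨c, hc, -, -, -, hQc, -⟩ := C.ex
  have h : AtMostTwo c := by
    by_contra hcon
    obtain ⟨A, hA⟩ := F.exists_mem hc
    obtain ⟨A', hA', hne⟩ := F.two c hc A
    obtain ⟨B, hB, hBA, hBA'⟩ := three_of_not hcon A A'
    have h1 := inf_eq_Zc_of_three F C hc hQc hA hA' hB hne hBA hBA'
    obtain ⟨x, hx, hxA, hxZ⟩ := nz F C c hc hQc A hA
    have h2 : x ∈ Q ⊓ Zc c := by rw [← h1]; exact Subgroup.mem_inf.mpr ⟨hx, hxA⟩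
    exact hxZ (Subgroup.mem_inf.mp h2).2
  intro Λ hΛ
  obtain ⟨g, rfl⟩ := F.toEFam.trc hc hΛ
  exact atMostTwo_cjs g h

/-- **the split**: only (beta2) is left -/
theorem kill_of [Finite G] (F : EFam3 𝓒) (C : ECfg 𝓒 Q)
    (hbeta2 : (∀ Λ ∈ 𝓒, AtMostTwo Λ) → (∀ c ∈ 𝓒, Q ≤ Nm c → ∀ A ∈ c, ∀ x ∈ Q, x ∈ A → x * x = 1) →
      (∀ c ∈ 𝓒, Q ≤ Nm c → ∀ A ∈ c, ∃ x ∈ Q, x ∈ A ∧ x ∉ Zc c) → False) : False :=
  hbeta2 (le2 F C) (el F C) (nz F C)

end

end Cfsg.Agent.OddHalf.D3.BEven.Split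
end
end
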